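import Mathlib
import Cfsg.Agent.OddHalf.Orth.KPar
import Cfsg.Agent.OddHalf.Orth.KAut

-- merged: Cfsg.Agent.OddHalf.Orth.KRich
section

/-!
# Rich subspaces, elements of `P`

* `Rich Q N`, `NS.spn`, `NS.two` : nonsingular vectors of `N`;
* `Par Q` : the standing hypotheses on `V`;
* `rich_N` : `W ∩ ⟨w, w'⟩^⊥` is rich;
* `T_mem_P` : Siegel elements of `P`.
-/

set_option autoImplicit false
set_option linter.unusedSectionVars false
set_option linter.unusedVariables false

namespace Cfsg.Agent.OddHalf.Orth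

open QuadraticMap Cfsg.Agent.LieClassical.OrthCore Cfsg.Agent.LieClassical.OrthTrans
  Cfsg.Agent.LieClassical.OrthSimple Cfsg.Agent.ClassicalGeometry.OrthAutBasic
  Cfsg.Agent.ClassicalGeometry.OrthAutRoot Face

variable {F V : Type*} [Field F] [AddCommGroup V] [Module F V] {Q : QuadraticForm F V}

/-- dimension at least 3, or anisotropic, or `q ≥ 3` -/
def Rich (Q : QuadraticForm F V) (N : Submodule F V) : Prop :=
  3 ≤ Module.finrank F N ∨ (∀ s ∈ N, Q s = 0 → s = 0) ∨ ∃ θ : F, θ ≠ 0 ∧ θ ≠ 1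

section two
variable [CharP F 2] {N : Submodule F V}

theorem NS.spn [FiniteDimensional F V] (hN : NS Q N) (hR : Rich Q N) {z : V} (hz : z ∈ N) (h0 : z ≠ 0) :
    ∃ b ∈ N, Q b ≠ 0 ∧ polar Q z b ≠ 0 := by
  by_cases hq : Q z = 0
  · obtain ⟨z', hz', h⟩ := hN.exists_hyp hz h0 hq
    refine ⟨z + z', N.add_mem hz hz', ?_, ?_⟩
    · rw [Q_add, hq, h.right, h.pair]; simp
    · rw [polar_add_right, polar_self2, h.pair]; simp
  · obtain ⟨y, hy, e⟩ := hN.exists_eq hz h0 1
    by_cases hqy : Q y = 0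
    · rcases hR with h3 | ha | ⟨θ, hθ, hθ'⟩
      · set c := (Q z)⁻¹ with hc
        have hc0 : c ≠ 0 := inv_ne_zero hq
        have hh : Hyp Q y (z + Q z • y) := by
          refine ⟨hqy, ?_, ?_⟩
          · rw [Q_add, QuadraticMap.map_smul, hqy, polar_smul_right, e]
            simp [CharTwo.add_self_eq_zero]
          · rw [polar_add_right, polar_smul_right, polar_self2, polar_comm Q y z, e]; simp
        have hyy := N.add_mem hz (N.smul_mem (Q z) hy)
        have hN2 := hN.perp2 hh hy hyy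
        have hf := NS.finrank_perp2 (Q := Q) N y (z + Q z • y)
        obtain ⟨m, hm, hm0⟩ := hN2.exists_nonsing (by omega)
        obtain ⟨hm1, hm2⟩ := Submodule.mem_inf.1 hm
        rw [mem_perp2] at hm2
        refine ⟨y + m, N.add_mem hy hm1, ?_, ?_⟩
        · rw [Q_add, hqy, hm2.1]; simpa using hm0
        · have h1 := hm2.2
          rw [polar_add_left, polar_smul_left, hm2.1, smul_zero, add_zero] at h1
          rw [polar_add_right, e, h1]; simp
      · exfalso
        rw [ha y hy hqy, polar_zero_right] at e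
        exact zero_ne_one e
      · refine ⟨y + (θ * (Q z)⁻¹) • z, N.add_mem hy (N.smul_mem _ hz), ?_, ?_⟩
        · rw [Q_add, QuadraticMap.map_smul, hqy, polar_smul_right, polar_comm Q y z, e]
          simp only [smul_eq_mul]
          have h1 : (0 : F) + θ * (Q z)⁻¹ * (θ * (Q z)⁻¹) * Q z + θ * (Q z)⁻¹ * 1 =
              θ * (Q z)⁻¹ * (θ + 1) := by
            field_simp; ring
          rw [h1]
          refine mul_ne_zero (mul_ne_zero hθ (inv_ne_zero hq)) fun h2 => hθ' ?_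
          have h3 : θ = -1 := eq_neg_of_add_eq_zero_left h2
          rw [h3, CharTwo.neg_eq]
        · rw [polar_add_right, polar_smul_right, polar_self2, e]; simp
    · exact ⟨y, hy, hqy, by rw [e]; exact one_ne_zero⟩

theorem NS.two [FiniteDimensional F V] (hN : NS Q N) (hR : Rich Q N) {z : V} (hz : z ∈ N) (h0 : z ≠ 0) :
    Q z ≠ 0 ∨ ∃ a ∈ N, ∃ b ∈ N, Q a ≠ 0 ∧ Q b ≠ 0 ∧ z = a + b := by
  by_cases hq : Q z = 0
  · right
    obtain ⟨z', hz', h⟩ := hN.exists_hyp hz h0 hq
    rcases hR with h3 | ha | ⟨θ, hθ, hθ'⟩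
    · have hN2 := hN.perp2 h hz hz'
      have hf := NS.finrank_perp2 (Q := Q) N z z'
      obtain ⟨m, hm, hm0⟩ := hN2.exists_nonsing (by omega)
      obtain ⟨hm1, hm2⟩ := Submodule.mem_inf.1 hm
      rw [mem_perp2] at hm2
      refine ⟨m, hm1, z + m, N.add_mem hz hm1, hm0, ?_, ?_⟩
      · rw [Q_add, hq, hm2.1]; simpa using hm0
      · rw [← add_assoc, add_comm m z, add_assoc, add_self' (F := F), add_zero]
    · exact absurd (ha z hz hq) h0
    · refine ⟨θ • (z + z'), N.smul_mem _ (N.add_mem hz hz'), z + θ • (z + z'),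
        N.add_mem hz (N.smul_mem _ (N.add_mem hz hz')), ?_, ?_, ?_⟩
      · rw [QuadraticMap.map_smul, Q_add, hq, h.right, h.pair]
        simpa using hθ
      · rw [Q_add, QuadraticMap.map_smul, Q_add, hq, h.right, h.pair, polar_smul_right, polar_add_right,
          polar_self2, h.pair]
        simp only [smul_eq_mul, zero_add, mul_one]
        have h1 : θ * θ + θ = θ * (θ + 1) := by ring
        rw [h1]
        refine mul_ne_zero hθ fun h2 => hθ' ?_
        have h3 : θ = -1 := eq_neg_of_add_eq_zero_left h2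
        rw [h3, CharTwo.neg_eq]
      · rw [← add_assoc, add_comm (θ • (z + z')) z, add_assoc, add_self' (F := F), add_zero]
  · exact Or.inl hq

end two

/-- The standing hypotheses on `V`. -/
structure Par (Q : QuadraticForm F V) : Prop where
  nd : Nondeg Q
  d8 : 8 ≤ Module.finrank F V
  rich : (∃ θ : F, θ ≠ 0 ∧ θ ≠ 1) ∨ NoFour Q

theorem Par.fd (hP : Par Q) : FiniteDimensional F V :=
  Module.finite_of_finrank_pos (by have := hP.d8; omega)

theorem Par.good (hP : Par Q) [Finite F] : Good Q := Big.good ⟨hP.nd, by have := hP.d8; omega⟩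

section W
variable [CharP F 2] {u v u' v' : V}

theorem W4_rich (hP : Par Q) : Rich Q (W4 Q u v u' v') := by
  have := hP.fd
  left
  have h1 := W4_dim Q u v u' v'
  have := hP.d8
  omega

theorem Par.exists_pair [Finite F] (hP : Par Q) (h : LF Q u v u' v') :
    ∃ b b', In Q u v u' v' b ∧ In Q u v u' v' b' ∧ Hyp Q b b' := by
  have := hP.fd
  obtain ⟨b, b', hb, hb', hbb⟩ := (W4_ns hP.nd h).exists_pair (by
    have := W4_dim Q u v u' v'; have := hP.d8; omega)
  exact ⟨b, b', In.iff_mem.2 hb, In.iff_mem.2 hb', hbb⟩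

/-- the vectors of `W` perpendicular to the hyperbolic pair `w, w'` -/
def N6 (Q : QuadraticForm F V) (u v u' v' w w' : V) : Submodule F V := W4 Q u v u' v' ⊓ perp2 Q w w'

theorem mem_N6 {w w' x : V} : x ∈ N6 Q u v u' v' w w' ↔ In Q u v u' v' x ∧ polar Q w x = 0 ∧ polar Q w' x = 0 := by
  rw [N6, Submodule.mem_inf, In.iff_mem, mem_perp2]

theorem N6_ns (hQ : Nondeg Q) (h : LF Q u v u' v') {w w' : V} (hw : In Q u v u' v' w)
    (hw' : In Q u v u' v' w') (hh : Hyp Q w w') : NS Q (N6 Q u v u' v' w w') :=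
  (W4_ns hQ h).perp2 hh (In.iff_mem.1 hw) (In.iff_mem.1 hw')

theorem N6_dim (hP : Par Q) (w w' : V) : 2 ≤ Module.finrank F ↥(N6 Q u v u' v' w w') := by
  have := hP.fd
  have h1 := W4_dim Q u v u' v'
  have h2 := NS.finrank_perp2 (Q := Q) (W4 Q u v u' v') w w'
  have h3 := hP.d8
  have h4 : N6 Q u v u' v' w w' = W4 Q u v u' v' ⊓ perp2 Q w w' := rfl
  rw [h4]
  omega

theorem span_TS {S : Set V} (hS : ∀ x ∈ S, Q x = 0) (hS2 : ∀ x ∈ S, ∀ y ∈ S, polar Q x y = 0) {x : V}
    (hx : x ∈ Submodule.span F S) : Q x = 0 := by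
  have h1 : ∀ s ∈ S, ∀ x ∈ Submodule.span F S, polar Q s x = 0 := by
    intro s hs x hx
    induction hx using Submodule.span_induction with
    | mem y hy => exact hS2 s hs y hy
    | zero => exact QuadraticMap.polar_zero_right Q s
    | add a b _ _ ha hb => rw [polar_add_right, ha, hb, add_zero]
    | smul c a _ ha => rw [polar_smul_right, ha, smul_zero]
  have h2 : ∀ x ∈ Submodule.span F S, ∀ y ∈ Submodule.span F S, polar Q x y = 0 := by
    intro x hx y hy
    induction hx using Submodule.span_induction with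
    | mem z hz => exact h1 z hz y hy
    | zero => exact QuadraticMap.polar_zero_left Q y
    | add a b _ _ ha hb => rw [polar_add_left, ha, hb, add_zero]
    | smul c a _ ha => rw [polar_smul_left, ha, smul_zero]
  induction hx using Submodule.span_induction with
  | mem y hy => exact hS y hy
  | zero => exact QuadraticMap.map_zero Q
  | add a b ha hb iha ihb => rw [Q_add, iha, ihb, h2 a ha b hb]; simp
  | smul c a _ ha => rw [QuadraticMap.map_smul, ha, smul_zero]

theorem N6_rich [Finite F] (hP : Par Q) (h : LF Q u v u' v') {w w' : V} (hw : In Q u v u' v' w)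
    (hw' : In Q u v u' v' w') (hh : Hyp Q w w') : Rich Q (N6 Q u v u' v' w w') := by
  have := hP.fd
  have h1 := W4_dim Q u v u' v'
  have h2 := NS.finrank_perp2 (Q := Q) (W4 Q u v u' v') w w'
  have h3 := hP.d8
  have h4 : N6 Q u v u' v' w w' = W4 Q u v u' v' ⊓ perp2 Q w w' := rfl
  by_cases h9 : 9 ≤ Module.finrank F V
  · left; rw [h4]; omega
  · rcases hP.rich with hθ | hno
    · exact Or.inr (Or.inr hθ)
    · right; left
      intro s hs hqs
      by_contra hs0
      rw [mem_N6] at hs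
      obtain ⟨hs1, hs2, hs3⟩ := hs
      apply hno
      refine ⟨by omega, Submodule.span F (Set.range ![u, v, w, s]), ?_, ?_⟩
      · intro x hx
        apply span_TS (S := Set.range ![u, v, w, s]) _ _ hx
        · rintro _ ⟨i, rfl⟩
          fin_cases i
          · exact h.qu
          · exact h.qv
          · exact hh.left
          · exact hqs
        · rintro _ ⟨i, rfl⟩ _ ⟨j, rfl⟩
          fin_cases i <;> fin_cases j
          · exact h.uu
          · exact h.uv
          · exact hw.u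
          · exact hs1.u
          · exact h.vu
          · exact h.vv
          · exact hw.v
          · exact hs1.v
          · exact hw.ru
          · exact hw.rv
          · exact polar_self2 w
          · exact hs2
          · exact hs1.ru
          · exact hs1.rv
          · exact polar_zero_of_comm hs2
          · exact polar_self2 s
      · have hli : LinearIndependent F ![u, v, w, s] := by
          rw [Fintype.linearIndependent_iff]
          intro g hg
          rw [Fin.sum_univ_four] at hg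
          have hg' : g 0 • u + g 1 • v + g 2 • w + g 3 • s = 0 := hg
          have a0 : g 0 = 0 := by
            have := congrArg (polar Q u') hg'
            rw [polar_add_right, polar_add_right, polar_add_right, polar_smul_right, polar_smul_right,
              polar_smul_right, polar_smul_right, h.u'u, h.u'v, hw.u', hs1.u', polar_zero_right] at this
            simpa using this
          have a1 : g 1 = 0 := by
            have := congrArg (polar Q v') hg'
            rw [polar_add_right, polar_add_right, polar_add_right, polar_smul_right, polar_smul_right,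
              polar_smul_right, polar_smul_right, h.v'u, h.v'v, hw.v', hs1.v', polar_zero_right] at this
            simpa using this
          have a2 : g 2 = 0 := by
            have := congrArg (polar Q w') hg'
            rw [polar_add_right, polar_add_right, polar_add_right, polar_smul_right, polar_smul_right,
              polar_smul_right, polar_smul_right, hw'.ru, hw'.rv, hh.pair', hs3, polar_zero_right] at this
            simpa using this
          have a3 : g 3 = 0 := by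
            rw [a0, a1, a2, zero_smul, zero_smul, zero_smul, zero_add, zero_add, zero_add] at hg'
            exact (smul_eq_zero.1 hg').resolve_right hs0
          intro i
          fin_cases i <;> assumption
        rw [finrank_span_eq_card hli]; rfl

end W

/-! ### Rotations -/

section rot
variable [CharP F 2] [Finite F]

theorem exists_sqrt' (c : F) : ∃ d : F, c = d * d := by
  obtain ⟨d, hd⟩ := FiniteField.isSquare_of_char_two (ringChar.eq F 2) c
  exact ⟨d, hd⟩

/-- a nonsingular `z ∈ N` is `δ y + y`, `δ` of odd order, supported on `N` -/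
theorem exists_rot (hG : Good Q) [FiniteDimensional F V] {N : Submodule F V} (hN : NS Q N) (hR : Rich Q N)
    {z : V} (hz : z ∈ N) (hq : Q z ≠ 0) : ∃ y ∈ N, ∃ δ : ↥(E Q), Odd (orderOf δ) ∧
      (δ : V ≃ₗ[F] V) y = y + z ∧ ∀ x, (∀ w ∈ N, polar Q x w = 0) → (δ : V ≃ₗ[F] V) x = x := by
  have h0 : z ≠ 0 := by rintro rfl; exact hq (QuadraticMap.map_zero Q)
  obtain ⟨b0, hb0, hqb0, hzb0⟩ := hN.spn hR hz h0
  obtain ⟨d, hd⟩ := exists_sqrt' (Q z * (Q b0)⁻¹)
  have hd0 : d ≠ 0 := by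
    rintro rfl
    rw [mul_zero] at hd
    exact mul_ne_zero hq (inv_ne_zero hqb0) hd
  set b := d • b0 with hb
  have hbN : b ∈ N := N.smul_mem _ hb0
  have hqb : Q b = Q z := by
    rw [hb, QuadraticMap.map_smul, ← hd, smul_eq_mul, mul_assoc, inv_mul_cancel₀ hqb0, mul_one]
  have hqb1 : Q b ≠ 0 := by rw [hqb]; exact hq
  have hzb : polar Q z b ≠ 0 := by
    rw [hb, polar_smul_right]; exact mul_ne_zero hd0 hzb0
  have hmem := hG.refl_mul_refl_mem hqb1 hq hqb
  set κ := Q z * (polar Q z b)⁻¹ with hκ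
  refine ⟨κ • b, N.smul_mem _ hbN, ⟨refl Q z hq * refl Q b hqb1, hmem⟩, ?_, ?_, ?_⟩
  · have h1 := odd_refl_mul hq hqb1 hzb
    rwa [← Subgroup.orderOf_mk _ hmem] at h1
  · show refl Q z hq (refl Q b hqb1 (κ • b)) = κ • b + z
    have h5 : κ * ((Q z)⁻¹ * polar Q z b) = 1 := by rw [hκ]; field_simp
    clear_value b κ
    rw [map_smul, refl_self2, map_smul, refl_apply2, smul_add, smul_smul, h5, one_smul]
  · intro x hx
    show refl Q z hq (refl Q b hqb1 x) = x
    rw [refl_fix hqb1 (polar_zero_of_comm (hx b hbN)), refl_fix hq (polar_zero_of_comm (hx z hz))]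

end rot

/-! ### Elements of `P` -/

section P
variable [CharP F 2] [Finite F] {u v u' v' : V}

theorem mem_P0_of_fix (hu : Q u = 0) (huv : polar Q u v = 0) {g : ↥(E Q)} (h1 : (g : V ≃ₗ[F] V) u = u)
    (h2 : (g : V ≃ₗ[F] V) v = v) : g ∈ P0 Q u v hu huv := by
  rw [mem_P0]
  intro c
  have h3 := tE_conj g u (c • v)
  rw [h1, map_smul, h2] at h3
  exact mul_inv_eq_iff_eq_mul.1 h3

theorem T_mem_P (hP : Par Q) (h : LF Q u v u' v') {N : Submodule F V} (hN : NS Q N) (hR : Rich Q N)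
    (hNu : ∀ x ∈ N, polar Q u x = 0) (hNv : ∀ x ∈ N, polar Q v x = 0) {w : V} (hw : Q w = 0)
    (hwN : ∀ x ∈ N, polar Q w x = 0) (hwu : polar Q w u = 0) (hwv : polar Q w v = 0) {z : V} (hz : z ∈ N) :
    tE Q w z ∈ P Q u v h.qu h.uv := by
  have := hP.fd
  have key : ∀ z ∈ N, Q z ≠ 0 → tE Q w z ∈ P Q u v h.qu h.uv := by
    intro z hz hq
    obtain ⟨y, hy, δ, ho, e, hf⟩ := exists_rot hP.good hN hR hz hq
    have du := hf u hNu
    have dv := hf v hNv
    have dw := hf w hwN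
    have hδ : δ ∈ P Q u v h.qu h.uv := mem_P_of_odd (mem_P0_of_fix h.qu h.uv du dv) ho
    have hT : tE Q w y ∈ P0 Q u v h.qu h.uv := mem_P0_of_fix h.qu h.uv
      (T_fix hwu (polar_zero_of_comm (hNu y hy))) (T_fix hwv (polar_zero_of_comm (hNv y hy)))
    have h1 := comm_mem_P' hT hδ
    rw [tE_conj, dw, e, tE_inv hw (hwN y hy), tE_mul hw (hwN _ (N.add_mem hy hz)) (hwN y hy)] at h1
    have h2 : y + z + y = z := by
      have : y + z + y = z + (y + y) := by abel
      rw [this, add_self' (F := F), add_zero]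
    rwa [h2] at h1
  by_cases h0 : z = 0
  · rw [h0, tE_zero_right]; exact one_mem _
  · rcases hN.two hR hz h0 with h1 | ⟨a, ha, b, hb, ha0, hb0, rfl⟩
    · exact key z hz h1
    · rw [← tE_mul hw (hwN a ha) (hwN b hb)]
      exact mul_mem (key a ha ha0) (key b hb hb0)

/-- `T w z ∈ P` for `w, z ∈ W` -/
theorem TW_mem_P (hP : Par Q) (h : LF Q u v u' v') {w z : V} (hw : In Q u v u' v' w)
    (hz : In Q u v u' v' z) (hq : Q w = 0) (hwz : polar Q w z = 0) : tE Q w z ∈ P Q u v h.qu h.uv := by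
  have := hP.fd
  by_cases h0 : w = 0
  · rw [h0, tE_zero_left]; exact one_mem _
  obtain ⟨w', hw', hh⟩ := (W4_ns hP.nd h).exists_hyp (In.iff_mem.1 hw) h0 hq
  have hw'' := In.iff_mem.2 hw'
  have hN := N6_ns hP.nd h hw hw'' hh
  have hR := N6_rich hP h hw hw'' hh
  set y := z + polar Q w' z • w with hy
  have hyN : y ∈ N6 Q u v u' v' w w' := by
    rw [mem_N6]
    refine ⟨hz.add (hw.smul _), ?_, ?_⟩
    · rw [hy, polar_add_right, hwz, polar_smul_right, polar_self2]; simp
    · rw [hy, polar_add_right, polar_smul_right, hh.pair', smul_eq_mul, mul_one, CharTwo.add_self_eq_zero]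
  have h1 := T_mem_P hP h hN hR (fun x hx => (mem_N6.1 hx).1.u) (fun x hx => (mem_N6.1 hx).1.v) hq
    (fun x hx => (mem_N6.1 hx).2.1) hw.ru hw.rv hyN
  rwa [hy, tE_add_smul hq hwz] at h1

/-- `T u x ∈ P` for `x ∈ W` -/
theorem Tu_mem_P (hP : Par Q) (h : LF Q u v u' v') {x : V} (hx : In Q u v u' v' x) :
    tE Q u x ∈ P Q u v h.qu h.uv :=
  T_mem_P hP h (W4_ns hP.nd h) (W4_rich hP) (fun x hx => (In.iff_mem.2 hx).u)
    (fun x hx => (In.iff_mem.2 hx).v) h.qu (fun x hx => (In.iff_mem.2 hx).u) h.uu h.uv (In.iff_mem.1 hx)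

theorem Tv_mem_P (hP : Par Q) (h : LF Q u v u' v') {x : V} (hx : In Q u v u' v' x) :
    tE Q v x ∈ P Q u v h.qu h.uv :=
  T_mem_P hP h (W4_ns hP.nd h) (W4_rich hP) (fun x hx => (In.iff_mem.2 hx).u)
    (fun x hx => (In.iff_mem.2 hx).v) h.qv (fun x hx => (In.iff_mem.2 hx).v) h.vu h.vv (In.iff_mem.1 hx)

end P

end Cfsg.Agent.OddHalf.Orth

end

-- merged: Cfsg.Agent.OddHalf.Orth.KPl
section

/-!
# The parabolic of a totally singular line

* `QL_le_P`; `NL` : the stabiliser of the line; `P0_le_NL`; `QL_conj`, `X_conj`, `P_conj_NL`;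
* `rho` : the element of order 3; `tau` : transvections on the line (`q ≥ 4`).
-/

set_option autoImplicit false
set_option linter.unusedSectionVars false
set_option linter.unusedVariables false

namespace Cfsg.Agent.OddHalf.Orth

open QuadraticMap Cfsg.Agent.LieClassical.OrthCore Cfsg.Agent.LieClassical.OrthTrans
  Cfsg.Agent.LieClassical.OrthSimple Cfsg.Agent.ClassicalGeometry.OrthAutBasic
  Cfsg.Agent.ClassicalGeometry.OrthAutRoot Face

variable {F V : Type*} [Field F] [AddCommGroup V] [Module F V] {Q : QuadraticForm F V}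

/-! ### The stabiliser of the line -/

/-- The stabiliser of the line `⟨u, v⟩`. -/
def NL (Q : QuadraticForm F V) (u v : V) : Subgroup ↥(E Q) where
  carrier := {g | ∀ x, (g : V ≃ₗ[F] V) x ∈ L F u v ↔ x ∈ L F u v}
  one_mem' := fun x => Iff.rfl
  mul_mem' := by
    intro g h hg hh x
    show (g : V ≃ₗ[F] V) ((h : V ≃ₗ[F] V) x) ∈ L F u v ↔ x ∈ L F u v
    rw [hg, hh]
  inv_mem' := by
    intro g hg x
    show (g : V ≃ₗ[F] V).symm x ∈ L F u v ↔ x ∈ L F u v
    rw [← hg, LinearEquiv.apply_symm_apply]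

theorem mem_NL {u v : V} {g : ↥(E Q)} : g ∈ NL Q u v ↔ ∀ x, (g : V ≃ₗ[F] V) x ∈ L F u v ↔ x ∈ L F u v :=
  Iff.rfl

theorem L_eq_of_mem {u v a b : V} (hab : a ∈ L F u v) (hb : b ∈ L F u v) (h : Ln Q a b) (h' : Ln Q u v) :
    L F a b = L F u v := by
  obtain ⟨α, β, ea⟩ := mem_L.1 hab
  obtain ⟨γ, δ, eb⟩ := mem_L.1 hb
  have hdet : α * δ - β * γ ≠ 0 := by
    intro hd
    -- `δ a - β b = (αδ - βγ) u = 0`, `γ a - α b = -(αδ-βγ) v`
    have h1 : δ • a + (-β) • b = 0 := by
      rw [← ea, ← eb]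
      have : δ • (α • u + β • v) + (-β) • (γ • u + δ • v) = (α * δ - β * γ) • u := by module
      rw [this, hd, zero_smul]
    have h2 : γ • a + (-α) • b = 0 := by
      rw [← ea, ← eb]
      have : γ • (α • u + β • v) + (-α) • (γ • u + δ • v) = -((α * δ - β * γ) • v) := by module
      rw [this, hd, zero_smul, neg_zero]
    have h3 := h.coeff h1
    have h4 := h.coeff h2
    have hα : α = 0 := by simpa using h4.2
    have hβ : β = 0 := by simpa using h3.2
    apply h.ne
    rw [← ea, hα, hβ, zero_smul, zero_smul, add_zero]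
  apply le_antisymm
  · rw [L, Submodule.span_le]
    rintro x (rfl | rfl)
    · exact hab
    · exact hb
  · rw [L, Submodule.span_le]
    rintro x (rfl | rfl)
    · rw [SetLike.mem_coe, mem_L]
      refine ⟨(α * δ - β * γ)⁻¹ * δ, -((α * δ - β * γ)⁻¹ * β), ?_⟩
      have : ((α * δ - β * γ)⁻¹ * δ) • a + (-((α * δ - β * γ)⁻¹ * β)) • b =
          ((α * δ - β * γ)⁻¹ * (α * δ - β * γ)) • x := by
        rw [← ea, ← eb]; module
      rw [this, inv_mul_cancel₀ hdet, one_smul]
    · rw [SetLike.mem_coe, mem_L]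
      refine ⟨-((α * δ - β * γ)⁻¹ * γ), (α * δ - β * γ)⁻¹ * α, ?_⟩
      have : (-((α * δ - β * γ)⁻¹ * γ)) • a + ((α * δ - β * γ)⁻¹ * α) • b =
          ((α * δ - β * γ)⁻¹ * (α * δ - β * γ)) • x := by
        rw [← ea, ← eb]; module
      rw [this, inv_mul_cancel₀ hdet, one_smul]

theorem mem_NL_of {u v : V} (huv : Ln Q u v) {g : ↥(E Q)} (h1 : (g : V ≃ₗ[F] V) u ∈ L F u v)
    (h2 : (g : V ≃ₗ[F] V) v ∈ L F u v) : g ∈ NL Q u v := by
  have e := L_eq_of_mem h1 h2 (huv.map (mem_O' g)) huv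
  intro x
  constructor
  · intro hx
    rw [← e] at hx
    obtain ⟨a, b, e'⟩ := mem_L.1 hx
    have : x = a • u + b • v := (g : V ≃ₗ[F] V).injective (by rw [map_add, map_smul, map_smul, e'])
    rw [this]
    exact mem_L.2 ⟨a, b, rfl⟩
  · intro hx
    obtain ⟨a, b, e'⟩ := mem_L.1 hx
    rw [← e', map_add, map_smul, map_smul, ← e]
    exact mem_L.2 ⟨a, b, rfl⟩

section two
variable [CharP F 2] {u v u' v' : V}

theorem P0_le_NL (hQ : Nondeg Q) (h : LF Q u v u' v') : P0 Q u v h.qu h.uv ≤ NL Q u v := by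
  intro g hg
  have h1 := mem_P0.1 hg 1
  rw [one_smul] at h1
  have h2 : tE Q ((g : V ≃ₗ[F] V) u) ((g : V ≃ₗ[F] V) v) = tE Q u v := by
    rw [← tE_conj, h1, mul_inv_cancel_right]
  have e1 : D (T Q ((g : V ≃ₗ[F] V) u) ((g : V ≃ₗ[F] V) v)) = D (T Q u v) := by
    have := congrArg Subtype.val h2
    rw [coe_tE, coe_tE] at this
    rw [this]
  rw [D_T hQ (h.ln.map (mem_O' g)), D_T hQ h.ln] at e1
  apply mem_NL_of h.ln
  · rw [← e1]; exact left_mem_L _ _
  · rw [← e1]; exact right_mem_L _ _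

/-- the line and its perp -/
theorem perp_L {x : V} (hu : polar Q u x = 0) (hv : polar Q v x = 0) {y : V} (hy : y ∈ L F u v) :
    polar Q y x = 0 := by
  obtain ⟨a, b, rfl⟩ := mem_L.1 hy
  rw [polar_add_left, polar_smul_left, polar_smul_left, hu, hv]; simp

theorem NL_perp {g : ↥(E Q)} (hg : g ∈ NL Q u v) {x : V} (hu : polar Q u x = 0) (hv : polar Q v x = 0) :
    polar Q u ((g : V ≃ₗ[F] V) x) = 0 ∧ polar Q v ((g : V ≃ₗ[F] V) x) = 0 := by
  have key : ∀ y ∈ L F u v, polar Q y ((g : V ≃ₗ[F] V) x) = 0 := by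
    intro y hy
    have h1 : (g : V ≃ₗ[F] V) ((g : V ≃ₗ[F] V).symm y) = y := LinearEquiv.apply_symm_apply _ _
    have h2 : (g : V ≃ₗ[F] V).symm y ∈ L F u v := (mem_NL.1 hg _).1 (by rw [h1]; exact hy)
    rw [← h1, polar_map']
    exact perp_L hu hv h2
  exact ⟨key u (left_mem_L _ _), key v (right_mem_L _ _)⟩

theorem QL_fix {g : ↥(E Q)} (hg : g ∈ QL Q u v) {x : V} (hx : x ∈ L F u v) : (g : V ≃ₗ[F] V) x = x := by
  obtain ⟨a, b, rfl⟩ := mem_L.1 hx
  obtain ⟨h1, h2, -⟩ := mem_QL.1 hg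
  rw [map_add, map_smul, map_smul, h1, h2]

theorem QL_conj {g k : ↥(E Q)} (hg : g ∈ NL Q u v) (hk : k ∈ QL Q u v) : g * k * g⁻¹ ∈ QL Q u v := by
  have hg' := inv_mem hg
  have hco : ∀ x : V, (g : V ≃ₗ[F] V) (((g⁻¹ : ↥(E Q)) : V ≃ₗ[F] V) x) = x := fun x =>
    LinearEquiv.apply_symm_apply _ _
  have key : ∀ x ∈ L F u v, ((g * k * g⁻¹ : ↥(E Q)) : V ≃ₗ[F] V) x = x := by
    intro x hx
    show (g : V ≃ₗ[F] V) ((k : V ≃ₗ[F] V) (((g⁻¹ : ↥(E Q)) : V ≃ₗ[F] V) x)) = x
    rw [QL_fix hk ((mem_NL.1 hg' x).2 hx), hco]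
  refine ⟨key u (left_mem_L _ _), key v (right_mem_L _ _), fun w h1 h2 => ?_⟩
  obtain ⟨h3, h4⟩ := NL_perp hg' h1 h2
  obtain ⟨-, -, h5⟩ := mem_QL.1 hk
  obtain ⟨a, b, e⟩ := h5 _ h3 h4
  have h6 : (g : V ≃ₗ[F] V) (a • u + b • v) ∈ L F u v := (mem_NL.1 hg _).2 (mem_L.2 ⟨a, b, rfl⟩)
  obtain ⟨c, d, e2⟩ := mem_L.1 h6
  refine ⟨c, d, ?_⟩
  show (g : V ≃ₗ[F] V) ((k : V ≃ₗ[F] V) (((g⁻¹ : ↥(E Q)) : V ≃ₗ[F] V) w)) = _
  rw [e, add_assoc, map_add, hco, ← e2, add_assoc]

/-- the determinant on the line -/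
theorem NL_X (h : LF Q u v u' v') {g : ↥(E Q)} (hg : g ∈ NL Q u v) : ∃ d : F, d ≠ 0 ∧
    ∀ c : F, g * tE Q u (c • v) * g⁻¹ = tE Q u ((d * c) • v) := by
  obtain ⟨a, b, ea⟩ := mem_L.1 ((mem_NL.1 hg u).2 (left_mem_L _ _))
  obtain ⟨a', b', eb⟩ := mem_L.1 ((mem_NL.1 hg v).2 (right_mem_L _ _))
  have key : ∀ c : F, g * tE Q u (c • v) * g⁻¹ = tE Q u (((a * b' - b * a') * c) • v) := by
    intro c
    rw [tE_conj, map_smul, ← ea, ← eb]
    apply Subtype.ext
    rw [coe_tE, coe_tE]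
    have := T_det h.ln a b (c * a') (c * b')
    rw [show c • (a' • u + b' • v) = (c * a') • u + (c * b') • v by module, this]
    congr 2
    ring
  refine ⟨a * b' - b * a', ?_, key⟩
  intro hd
  have h1 := h.ln.map (mem_O' g)
  have h2 : b' • (g : V ≃ₗ[F] V) u + (-b) • (g : V ≃ₗ[F] V) v = 0 := by
    rw [← ea, ← eb]
    have : b' • (a • u + b • v) + (-b) • (a' • u + b' • v) = (a * b' - b * a') • u := by module
    rw [this, hd, zero_smul]
  have h3 : a' • (g : V ≃ₗ[F] V) u + (-a) • (g : V ≃ₗ[F] V) v = 0 := by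
    rw [← ea, ← eb]
    have : a' • (a • u + b • v) + (-a) • (a' • u + b' • v) = -((a * b' - b * a') • v) := by module
    rw [this, hd, zero_smul, neg_zero]
  have h4 := h1.coeff h2
  have h5 := h1.coeff h3
  apply h1.ne
  rw [← ea, show a = 0 by simpa using h5.2, show b = 0 by simpa using h4.2, zero_smul, zero_smul, add_zero]

theorem X_conj (h : LF Q u v u' v') {g k : ↥(E Q)} (hg : g ∈ NL Q u v) (hk : k ∈ X Q u v h.qu h.uv) :
    g * k * g⁻¹ ∈ X Q u v h.qu h.uv := by
  obtain ⟨c, rfl⟩ := mem_X.1 hk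
  obtain ⟨d, -, e⟩ := NL_X h hg
  exact mem_X.2 ⟨d * c, e c⟩

theorem P0_conj (h : LF Q u v u' v') {g k : ↥(E Q)} (hg : g ∈ NL Q u v) (hk : k ∈ P0 Q u v h.qu h.uv) :
    g * k * g⁻¹ ∈ P0 Q u v h.qu h.uv := by
  rw [P0, Subgroup.mem_centralizer_iff] at hk ⊢
  intro x hx
  have h1 := X_conj h (inv_mem hg) hx
  have h2 := hk _ h1
  rw [inv_inv] at h2
  calc x * (g * k * g⁻¹) = g * ((g⁻¹ * x * g) * k) * g⁻¹ := by group
    _ = g * (k * (g⁻¹ * x * g)) * g⁻¹ := by rw [h2]
    _ = _ := by group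

theorem P_conj_NL (h : LF Q u v u' v') {g p : ↥(E Q)} (hg : g ∈ NL Q u v) (hp : p ∈ P Q u v h.qu h.uv) :
    g * p * g⁻¹ ∈ P Q u v h.qu h.uv := by
  have h1 : P Q u v h.qu h.uv ≤ (P Q u v h.qu h.uv).comap (MulAut.conj g).toMonoidHom := by
    conv_lhs => rw [P]
    rw [Subgroup.closure_le]
    rintro x ⟨hx, hox⟩
    show g * x * g⁻¹ ∈ P Q u v h.qu h.uv
    exact mem_P_of_odd (P0_conj h hg hx) (by rwa [orderOf_conj'])
  exact h1 hp

theorem P_le_NL (hQ : Nondeg Q) (h : LF Q u v u' v') : P Q u v h.qu h.uv ≤ NL Q u v :=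
  P_le_P0.trans (P0_le_NL hQ h)

/-- an element of `K` fixing the line pointwise -/
theorem NL_of_fix {g : ↥(E Q)} (h : Ln Q u v) (h1 : (g : V ≃ₗ[F] V) u = u) (h2 : (g : V ≃ₗ[F] V) v = v) :
    g ∈ NL Q u v := mem_NL_of h (by rw [h1]; exact left_mem_L _ _) (by rw [h2]; exact right_mem_L _ _)

/-! ### `QL ≤ P` -/

theorem exists_polar_W [Finite F] (hP : Par Q) (h : LF Q u v u' v') (c : F) :
    ∃ x y, In Q u v u' v' x ∧ In Q u v u' v' y ∧ polar Q x y = c := by
  obtain ⟨b, b', hb, hb', hbb⟩ := hP.exists_pair h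
  exact ⟨c • b, b', hb.smul c, hb', by rw [polar_smul_left, hbb.pair]; simp⟩

theorem tE_eq_q {x : V} : tE Q u x = q Q u v x 0 0 := by
  rw [q, tE_zero_right, zero_smul, tE_zero_right, mul_one, mul_one]

theorem tE_eq_q' {y : V} : tE Q v y = q Q u v 0 y 0 := by
  rw [q, tE_zero_right, zero_smul, tE_zero_right, mul_one, one_mul]

theorem xc_tE (h : LF Q u v u' v') {x : V} (hx : In Q u v u' v' x) : xc Q u v u' v' (tE Q u x) = x := by
  rw [tE_eq_q (v := v)]; exact xc_q h hx In.zero 0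

theorem yc_tE (h : LF Q u v u' v') {x : V} (hx : In Q u v u' v' x) : yc Q u v u' v' (tE Q u x) = 0 := by
  rw [tE_eq_q (v := v)]; exact yc_q h hx In.zero 0

theorem xc_tE' (h : LF Q u v u' v') {x : V} (hx : In Q u v u' v' x) : xc Q u v u' v' (tE Q v x) = 0 := by
  rw [tE_eq_q' (u := u)]; exact xc_q h In.zero hx 0

theorem yc_tE' (h : LF Q u v u' v') {x : V} (hx : In Q u v u' v' x) : yc Q u v u' v' (tE Q v x) = x := by
  rw [tE_eq_q' (u := u)]; exact yc_q h In.zero hx 0

theorem tE_QL (h : LF Q u v u' v') {x : V} (hx : In Q u v u' v' x) : tE Q u x ∈ QL Q u v :=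
  tE_mem_QL h.ln hx.u hx.v

theorem tE_QL' (h : LF Q u v u' v') {x : V} (hx : In Q u v u' v' x) : tE Q v x ∈ QL Q u v :=
  tE_mem_QL' h.ln hx.u hx.v

/-- the commutator of `T u x` and `T v y` -/
theorem comm_xy (h : LF Q u v u' v') {x y : V} (hx : In Q u v u' v' x) (hy : In Q u v u' v' y) :
    tE Q u x * tE Q v y * (tE Q u x)⁻¹ * (tE Q v y)⁻¹ = tE Q u (polar Q x y • v) := by
  rw [comm_q h (tE_QL h hx) (tE_QL' h hy), xc_tE h hx, yc_tE' h hy, xc_tE' h hy, yc_tE h hx,
    polar_zero_left, add_zero]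

theorem X_le_P [Finite F] (hP : Par Q) (h : LF Q u v u' v') : X Q u v h.qu h.uv ≤ P Q u v h.qu h.uv := by
  intro g hg
  obtain ⟨c, rfl⟩ := mem_X.1 hg
  obtain ⟨x, y, hx, hy, rfl⟩ := exists_polar_W hP h c
  rw [← comm_xy h hx hy]
  exact mul_mem (mul_mem (mul_mem (Tu_mem_P hP h hx) (Tv_mem_P hP h hy)) (inv_mem (Tu_mem_P hP h hx)))
    (inv_mem (Tv_mem_P hP h hy))

theorem QL_le_P [Finite F] (hP : Par Q) (h : LF Q u v u' v') : QL Q u v ≤ P Q u v h.qu h.uv := by
  intro g hg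
  obtain ⟨x, y, c, hx, hy, rfl⟩ := exists_q h hg
  exact mul_mem (mul_mem (Tu_mem_P hP h hx) (Tv_mem_P hP h hy)) (X_le_P hP h (mem_X.2 ⟨c, rfl⟩))

theorem X_le_comm [Finite F] (hP : Par Q) (h : LF Q u v u' v') : X Q u v h.qu h.uv ≤ ⁅QL Q u v, QL Q u v⁆ := by
  intro g hg
  obtain ⟨c, rfl⟩ := mem_X.1 hg
  obtain ⟨x, y, hx, hy, rfl⟩ := exists_polar_W hP h c
  rw [← comm_xy h hx hy]
  exact Subgroup.commutator_mem_commutator (tE_QL h hx) (tE_QL' h hy)

theorem comm_QL (h : LF Q u v u' v') {g g' : ↥(E Q)} (hg : g ∈ QL Q u v) (hg' : g' ∈ QL Q u v) :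
    g * g' * g⁻¹ * g'⁻¹ ∈ X Q u v h.qu h.uv := by
  rw [comm_q h hg hg']
  exact mem_X.2 ⟨_, rfl⟩

theorem tE_smul_eq_one_iff (h : LF Q u v u' v') (hQ : Nondeg Q) {c : F} : tE Q u (c • v) = 1 ↔ c = 0 := by
  constructor
  · intro e
    rw [← tE_zero_right (Q := Q) u, tE_eq_iff hQ h.qu h.h1.left_ne (perp_smul_v h c) (by rw [polar_zero_right])] at e
    obtain ⟨d, e⟩ := e
    have h1 : d • u + c • v = 0 := by rw [add_comm]; exact e.symm
    exact (h.ln.coeff h1).2
  · rintro rfl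
    rw [zero_smul, tE_zero_right]

theorem ZQL (hQ : Nondeg Q) (h : LF Q u v u' v') {g : ↥(E Q)} (hg : g ∈ QL Q u v)
    (hc : ∀ k ∈ QL Q u v, g * k = k * g) : g ∈ X Q u v h.qu h.uv := by
  rw [mem_X_iff h hg]
  have key : ∀ k ∈ QL Q u v, polar Q (xc Q u v u' v' g) (yc Q u v u' v' k) +
      polar Q (xc Q u v u' v' k) (yc Q u v u' v' g) = 0 := by
    intro k hk
    have h1 := comm_q h hg hk
    rw [hc k hk, mul_inv_cancel_right, mul_inv_cancel] at h1
    exact (tE_smul_eq_one_iff h hQ).1 h1.symm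
  constructor
  · apply eq_zero_of_in hQ h (xc_in h g)
    intro y hy
    have := key _ (tE_QL' h hy)
    rwa [yc_tE' h hy, xc_tE' h hy, polar_zero_left, add_zero] at this
  · apply eq_zero_of_in hQ h (yc_in h g)
    intro x hx
    have := key _ (tE_QL h hx)
    rw [yc_tE h hx, xc_tE h hx, polar_zero_right, zero_add] at this
    exact polar_zero_of_comm this

end two

end Cfsg.Agent.OddHalf.Orth

end
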