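import Cfsg.Agent.OddHalf.Orth.StarBig

-- merged: Cfsg.Agent.OddHalf.Orth.StarTwo
section

/-!
# ODD D7, `K = Ω(V)`, `q = 2`: `V*_u` is additive
-/

set_option autoImplicit false

namespace Cfsg.Agent.OddHalf.Orth.Star

open QuadraticMap Cfsg.Agent.LieClassical.OrthCore Cfsg.Agent.LieClassical.OrthTrans
  Cfsg.Agent.ClassicalGeometry.OrthAutBasic Cfsg.Agent.ClassicalGeometry.OrthAutRoot Cfsg.Agent.OddHalf.Orth
  Cfsg.Agent.OddHalf.Orth.Face

variable {F V : Type*} [Field F] [AddCommGroup V] [Module F V] {Q : QuadraticForm F V}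
variable {G : Type*} [Group G] {t : G} {j : ↥(E Q) →* G} {W : V → V → Subgroup G}

/-- The bad alternative for `q = 2`. -/
def TAd (Q : QuadraticForm F V) (t : G) (j : ↥(E Q) →* G) (W : V → V → Subgroup G) : Prop :=
  ∀ {u v w : V} {f g h : G}, Ln3 Q u v w → f ∈ W u v → g ∈ W u w → h ∈ W u (v + w) →
    ph t f = j (tE Q u v) → ph t g = j (tE Q u w) → ph t h = j (tE Q u (v + w)) →
    ∃ r ∈ Ru Q j u, h = g * f * (t * r)

variable (D : Dbl Q t j W)
include D

/-- two elements of `W u v` with the same `φ` differ by an element of `R_u` -/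
theorem W_same (hK : KFacts Q) {u v : V} (hv : Ln Q u v) {f g : G} (hf : f ∈ W u v) (hg : g ∈ W u v)
    (h : ph t f = ph t g) : ∃ r ∈ Ru Q j u, g = f * r := by
  have := hK.nondeg
  refine ⟨f⁻¹ * g, ?_, by group⟩
  apply W_fix D hv (mul_mem (inv_mem hf) hg)
  rw [Vs_ph_mul D hv.qu (inv_mem (mem_Vs hv hf)) (mem_Vs hv hg), Vs_ph_inv D hv.qu (mem_Vs hv hf), h,
    inv_mul_cancel]

theorem dich [CharP F 2] (hK : KFacts Q) (h2 : ∀ c : F, c = 0 ∨ c = 1) :
    (∀ u, Ad Q t j W u) ∨ TAd Q t j W := by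
  by_cases hA : ∀ u, Ad Q t j W u
  · exact Or.inl hA
  right
  push Not at hA
  obtain ⟨u, hA⟩ := hA
  rw [Ad] at hA
  push Not at hA
  obtain ⟨v, w, f, g, h, h3, hf, hg, hh, he, hne⟩ := hA
  have hu := h3.uv.qu
  have hfV := mem_Vs h3.uv hf
  have hgV := mem_Vs h3.uw hg
  have hhV := mem_Vs h3.add hh
  have hgf := mul_mem hgV hfV
  have hfix : ph t ((g * f)⁻¹ * h) = 1 := by
    rw [Vs_ph_mul D hu (inv_mem hgf) hhV, Vs_ph_inv D hu hgf, Vs_ph_mul D hu hgV hfV, he,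
      Ru_comm hu (Vs_ph D hu hfV) (Vs_ph D hu hgV), inv_mul_cancel]
  obtain ⟨r, hr, e | e⟩ := Vs_fix' D hK hu h3.uv.ne (mul_mem (inv_mem hgf) hhV) hfix
  · exact (hne r hr (inv_mul_eq_iff_eq_mul.1 e)).elim
  have e' : h = g * f * (t * r) := inv_mul_eq_iff_eq_mul.1 e
  -- `φ f`, `φ g` are not trivial
  obtain ⟨cf, hcf⟩ := ph_W D h3.uv hf
  obtain ⟨cg, hcg⟩ := ph_W D h3.uw hg
  obtain ⟨ch, hch⟩ := ph_W D h3.add hh
  have pv : ∀ c : F, polar Q u (c • v) = 0 := fun c => by rw [polar_smul_right, h3.uv.perp, smul_zero]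
  have pw : ∀ c : F, polar Q u (c • w) = 0 := fun c => by rw [polar_smul_right, h3.uw.perp, smul_zero]
  have pvw : ∀ c : F, polar Q u (c • (v + w)) = 0 := fun c => by
    rw [polar_smul_right, h3.add.perp, smul_zero]
  have hcc : cf = ch ∧ cg = ch := by
    rw [hch, hcf, hcg, D.rmul hu (pv _) (pw _)] at he
    obtain ⟨c, hc⟩ := r_inj D hK hu h3.uv.ne (pvw ch)
      (by rw [polar_add_right, pv, pw, add_zero]) he
    have := h3.coeff (a := -c) (b := cf - ch) (c := cg - ch) (by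
      have : cf • v + cg • w - (ch • (v + w) + c • u) = 0 := by rw [hc, sub_self]
      rw [← this]; module)
    exact ⟨sub_eq_zero.1 this.2.1, sub_eq_zero.1 this.2.2⟩
  have hc1 : ch = 1 := by
    rcases h2 ch with h0 | h1
    · exfalso
      rw [hcc.1, h0, zero_smul, tE_zero_right, map_one] at hcf
      rw [hcc.2, h0, zero_smul, tE_zero_right, map_one] at hcg
      rw [h0, zero_smul, tE_zero_right, map_one] at hch
      have r1 := W_fix D h3.uv hf hcf
      have r2 := W_fix D h3.uw hg hcg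
      have r3 := W_fix D h3.add hh hch
      exact hne ((g * f)⁻¹ * h) (Ru_mul hu (Ru_inv hu (Ru_mul hu r2 r1)) r3) (by group)
    · exact h1
  rw [hcc.1, hc1, one_smul] at hcf
  rw [hcc.2, hc1, one_smul] at hcg
  rw [hc1, one_smul] at hch
  intro u' v' w' f' g' h' h3' hf' hg' hh' pf' pg' ph'
  have hu' := h3'.uv.qu
  obtain ⟨k, k1, k2, k3⟩ := hK.trans3 h3 h3'
  have mf := D.conj k h3.uv hf
  have mg := D.conj k h3.uw hg
  have mh := D.conj k h3.add hh
  rw [k1, k2] at mf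
  rw [k1, k3] at mg
  rw [k1, map_add, k2, k3] at mh
  obtain ⟨r1, m1, e1⟩ := W_same D hK h3'.uv mf hf' (by
    rw [ph_conj (D.tj k), hcf, D.rconj, k1, k2, pf'])
  obtain ⟨r2, m2, e2⟩ := W_same D hK h3'.uw mg hg' (by
    rw [ph_conj (D.tj k), hcg, D.rconj, k1, k3, pg'])
  obtain ⟨r3, m3, e3⟩ := W_same D hK h3'.add mh hh' (by
    rw [ph_conj (D.tj k), hch, D.rconj, k1, map_add, k2, k3, ph'])
  obtain ⟨x, hx, rfl⟩ := hr
  have mr : j k * j (tE Q u x) * (j k)⁻¹ ∈ Ru Q j u' := by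
    rw [D.rconj, k1]
    exact Ru_mem (by rw [← k1, polar_map']; exact hx)
  generalize hr' : j k * j (tE Q u x) * (j k)⁻¹ = r at mr
  have e4 : j k * h * (j k)⁻¹ = (j k * g * (j k)⁻¹) * (j k * f * (j k)⁻¹) * (t * r) := by
    rw [← hr', e']
    calc j k * (g * f * (t * j (tE Q u x))) * (j k)⁻¹
        = (j k * g * (j k)⁻¹) * (j k * f * (j k)⁻¹) * (j k * t) * j (tE Q u x) * (j k)⁻¹ := by group
      _ = (j k * g * (j k)⁻¹) * (j k * f * (j k)⁻¹) * (t * j k) * j (tE Q u x) * (j k)⁻¹ := by rw [D.tj k]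
      _ = _ := by group
  have mfV := mem_Vs h3'.uv mf
  have mgV := mem_Vs h3'.uw mg
  rw [e3, e4]
  generalize j k * f * (j k)⁻¹ = f1 at *
  generalize j k * g * (j k)⁻¹ = g1 at *
  have ef : f1 = f' * r1⁻¹ := by rw [e1]; group
  have eg : g1 = g' * r2⁻¹ := by rw [e2]; group
  have hr1i := Ru_inv hu' m1
  have hr2i := Ru_inv hu' m2
  refine ⟨r1⁻¹ * r2⁻¹ * r * r3, Ru_mul hu' (Ru_mul hu' (Ru_mul hu' hr1i hr2i) mr) m3, ?_⟩
  have hf'V := mem_Vs h3'.uv hf'
  rw [ef, eg]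
  calc g' * r2⁻¹ * (f' * r1⁻¹) * (t * r) * r3 = g' * (r2⁻¹ * f') * r1⁻¹ * t * r * r3 := by group
    _ = g' * f' * r2⁻¹ * (r1⁻¹ * t) * r * r3 := by rw [Vs_comm D hu' hf'V hr2i]; group
    _ = g' * f' * (r2⁻¹ * t) * r1⁻¹ * r * r3 := by rw [← Ru_t D hr1i]; group
    _ = g' * f' * t * (r2⁻¹ * r1⁻¹) * r * r3 := by rw [← Ru_t D hr2i]; group
    _ = g' * f' * t * (r1⁻¹ * r2⁻¹) * r * r3 := by rw [Ru_comm hu' hr2i hr1i]
    _ = _ := by group

/-- the variant of `step` with a factor `t` -/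
theorem stepT [CharP F 2] (hK : KFacts Q) {u v s : V} (h3 : Ln3 Q u v s) {f g r : G}
    (hf : f ∈ W u v) (hg : g ∈ Vs Q W u) (hr : r ∈ Ru Q j u) (hpf : ph t f = j (tE Q u v))
    (hgx : j (tE Q v s) * g * (j (tE Q v s))⁻¹ = g * f * (t * r))
    {y : V} (hy : polar Q u y = 0) (hc : f⁻¹ * g⁻¹ * f * g = j (tE Q u y)) :
    polar Q v y = 0 ∧ polar Q s y = 1 := by
  have hu := h3.uv.qu
  have hfV := mem_Vs h3.uv hf
  have hfx : j (tE Q v s) * f * (j (tE Q v s))⁻¹ = f := by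
    rw [D.cent h3.uv hf (k := tE Q v s), mul_inv_cancel_right]
    rw [tE_swap h3.uv.qu h3.uv.qw h3.uv.perp]
    exact tE_comm h3.uv.qw h3.perp h3.uv.perp'
  have htr := Ru_t D hr
  have hti := D.t_inv
  have h1 : j (tE Q v s) * j (tE Q u y) * (j (tE Q v s))⁻¹ = j (tE Q u (v + y)) := by
    have hcc := Vs_comm D hu hfV (Ru_mem (j := j) hy)
    have hmem : f⁻¹ * g⁻¹ * f * g * f ∈ Vs Q W u :=
      mul_mem (mul_mem (mul_mem (mul_mem (inv_mem hfV) (inv_mem hg)) hfV) hg) hfV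
    calc j (tE Q v s) * j (tE Q u y) * (j (tE Q v s))⁻¹
        = (j (tE Q v s) * f * (j (tE Q v s))⁻¹)⁻¹ * (j (tE Q v s) * g * (j (tE Q v s))⁻¹)⁻¹ *
          (j (tE Q v s) * f * (j (tE Q v s))⁻¹) * (j (tE Q v s) * g * (j (tE Q v s))⁻¹) := by
          rw [← hc]; group
      _ = f⁻¹ * (t * r)⁻¹ * (f⁻¹ * g⁻¹ * f * g * f) * (t * r) := by rw [hfx, hgx]; group
      _ = f⁻¹ * (t * r)⁻¹ * (f⁻¹ * g⁻¹ * f * g * f) * (r * t) := by rw [htr]
      _ = f⁻¹ * (t * r)⁻¹ * ((f⁻¹ * g⁻¹ * f * g * f) * r) * t := by group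
      _ = f⁻¹ * (t * r)⁻¹ * (r * (f⁻¹ * g⁻¹ * f * g * f)) * t := by rw [Vs_comm D hu hmem hr]
      _ = f⁻¹ * (r⁻¹ * t⁻¹ * r) * (f⁻¹ * g⁻¹ * f * g * f) * t := by group
      _ = f⁻¹ * (r⁻¹ * (t * r)) * (f⁻¹ * g⁻¹ * f * g * f) * t := by rw [hti]; group
      _ = f⁻¹ * (r⁻¹ * (r * t)) * (f⁻¹ * g⁻¹ * f * g * f) * t := by rw [htr]
      _ = f⁻¹ * t * ((f⁻¹ * g⁻¹ * f * g) * f) * t := by group
      _ = f⁻¹ * t * (j (tE Q u y) * f) * t := by rw [hc]
      _ = f⁻¹ * t * f * (j (tE Q u y) * t) := by rw [hcc]; group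
      _ = f⁻¹ * (t * f * t) * j (tE Q u y) := by rw [← D.tj]; group
      _ = ph t f * j (tE Q u y) := rfl
      _ = _ := by rw [hpf, D.rmul hu h3.uv.perp hy]
  rw [D.rconj, coe_tE] at h1
  have h2 : T Q v s u = u := by
    rw [T_apply2 h3.uv.qw h3.perp, h3.uv.perp', polar_comm Q s u, h3.uw.perp]; simp
  have h4 : T Q v s y = y + polar Q v y • s + polar Q s y • v := by
    rw [T_apply2 h3.uv.qw h3.perp, h3.uw.qw, zero_mul, add_zero]
  have h5 : polar Q u (T Q v s y) = 0 := by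
    rw [h4, polar_add_right, polar_add_right, polar_smul_right, polar_smul_right, h3.uw.perp, h3.uv.perp, hy]
    simp
  rw [h2] at h1
  obtain ⟨c, e⟩ := r_inj D hK hu h3.uv.ne h5 (by rw [polar_add_right, h3.uv.perp, hy, add_zero]) h1
  rw [h4] at e
  have h6 : c • u + (polar Q s y - 1) • v + polar Q v y • s = 0 := by
    have e2 : v + y = (v + y) + (c • u + (polar Q s y - 1) • v + polar Q v y • s) := by
      conv_lhs => rw [e]
      module
    exact left_eq_add.1 e2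
  exact ⟨(h3.coeff h6).2.2, sub_eq_zero.1 (h3.coeff h6).2.1⟩

theorem comm_TAd_aux [CharP F 2] (hK : KFacts Q) (h2 : ∀ c : F, c = 0 ∨ c = 1) (hT : TAd Q t j W) {u v w : V}
    (h3 : Ln3 Q u v w) {f g : G} (hf : f ∈ W u v) (hg : g ∈ W u w) (pf : ph t f = j (tE Q u v))
    (pg : ph t g = j (tE Q u w)) : ∃ b : F, f⁻¹ * g⁻¹ * f * g = j (tE Q u (w + b • v)) := by
  have hu := h3.uv.qu
  have hgV := mem_Vs h3.uw hg
  obtain ⟨y, hy, hc⟩ := comm_gen D hK h3.uv h3.uw hf hg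
  have key : ∀ s, Ln3 Q u v s → polar Q (y + w) s = 0 := by
    intro s hs
    have e2 : T Q v s u = u := by
      rw [T_apply2 hs.uv.qw hs.perp, hs.uv.perp', polar_comm Q s u, hs.uw.perp]; simp
    have e4 : T Q v s w = polar Q s w • v + w := by
      rw [T_apply2 hs.uv.qw hs.perp, hs.uw.qw, zero_mul, add_zero, h3.perp, zero_smul, add_zero, add_comm]
    have hm := D.conj (tE Q v s) h3.uw hg
    have hp := ph_conj (D.tj (tE Q v s)) g
    rw [pg, D.rconj] at hp
    rw [coe_tE, e2, e4] at hm hp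
    rw [polar_add_left, polar_comm Q y s, polar_comm Q w s]
    rcases h2 (polar Q s w) with hγ | hγ
    · rw [hγ, zero_smul, zero_add] at hm hp
      obtain ⟨r, hr, e⟩ := W_same D hK h3.uw hg hm (by rw [pg, hp])
      rw [(step D hK hs hf hgV (one_mem _) hr (by rw [one_mul, mul_one]) (by rw [e]; group) hy hc).2, hγ,
        add_zero]
    · rw [hγ, one_smul] at hm hp
      obtain ⟨r, hr, e⟩ := hT h3 hf hg hm pf pg hp
      rw [(stepT D hK hs hf hgV hr pf e hy hc).2, hγ]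
      exact CharTwo.add_self_eq_zero 1
  obtain ⟨a, b, e⟩ := hK.perp2 h3.uv key
  refine ⟨b, ?_⟩
  have e' : y = (w + b • v) + a • u := by
    have : y = (y + w) + w := by rw [add_assoc, add_self' (F := F), add_zero]
    rw [this, e]; abel
  rw [hc, e', tE_add_smul hu (by rw [polar_add_right, polar_smul_right, h3.uv.perp, h3.uw.perp]; simp)]

theorem comm_TAd [CharP F 2] (hK : KFacts Q) (h2 : ∀ c : F, c = 0 ∨ c = 1) (hT : TAd Q t j W) {u v w : V}
    (h3 : Ln3 Q u v w) {f g : G} (hf : f ∈ W u v) (hg : g ∈ W u w) (pf : ph t f = j (tE Q u v))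
    (pg : ph t g = j (tE Q u w)) : f⁻¹ * g⁻¹ * f * g = j (tE Q u v) * j (tE Q u w) := by
  have hu := h3.uv.qu
  obtain ⟨b, hb⟩ := comm_TAd_aux D hK h2 hT h3 hf hg pf pg
  obtain ⟨b', hb'⟩ := comm_TAd_aux D hK h2 hT h3.symm hg hf pg pf
  have p1 : polar Q u (w + b • v) = 0 := by
    rw [polar_add_right, polar_smul_right, h3.uv.perp, h3.uw.perp]; simp
  have p2 : polar Q u (v + b' • w) = 0 := by
    rw [polar_add_right, polar_smul_right, h3.uv.perp, h3.uw.perp]; simp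
  have e : j (tE Q u (w + b • v)) = j (tE Q u (v + b' • w)) := by
    have h1 : j (tE Q u (v + b' • w)) = (j (tE Q u (w + b • v)))⁻¹ := by rw [← hb, ← hb']; group
    rw [h1, ← map_inv, tE_inv hu p1]
  obtain ⟨c, hc⟩ := r_inj D hK hu h3.uv.ne p1 p2 e
  have h0 := h3.coeff (a := -c) (b := 1 - b) (c := b' - 1) (by
    have : v + b' • w - (w + b • v + c • u) = 0 := by rw [hc, sub_self]
    rw [← this]; module)
  have hb1 : b = 1 := (sub_eq_zero.1 h0.2.1).symm
  rw [hb, hb1, one_smul, D.rmul hu h3.uv.perp h3.uw.perp, add_comm]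

theorem zz_comm [CharP F 2] (hK : KFacts Q) (h2 : ∀ c : F, c = 0 ∨ c = 1) (hT : TAd Q t j W) {u v w : V}
    (h3 : Ln3 Q u v w) {f g : G} (hf : f ∈ W u v) (hg : g ∈ W u w) (pf : ph t f = j (tE Q u v))
    (pg : ph t g = j (tE Q u w)) : (f * t) * (g * t) = (g * t) * (f * t) := by
  have h1 := comm_TAd D hK h2 hT h3 hf hg pf pg
  have e1 : t * g * t = g * ph t g := by rw [ph_def]; group
  have e2 : t * f * t = f * ph t f := by rw [ph_def]; group
  have e3 : f * g = g * f * (f⁻¹ * g⁻¹ * f * g) := by group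
  have e4 : j (tE Q u w) * j (tE Q u w) = 1 := by rw [← map_mul, tE_mul_self h3.uw.qu h3.uw.perp, map_one]
  calc (f * t) * (g * t) = f * (t * g * t) := by group
    _ = f * g * ph t g := by rw [e1]; group
    _ = g * f * (j (tE Q u v) * (j (tE Q u w) * j (tE Q u w))) := by rw [e3, h1, pg]; group
    _ = g * (f * ph t f) := by rw [e4, pf, mul_one, mul_assoc]
    _ = (g * t) * (f * t) := by rw [← e2]; group

theorem zz_sq [CharP F 2] (h2 : ∀ c : F, c = 0 ∨ c = 1) {u v : V} (hv : Ln Q u v) {f : G} (hf : f ∈ W u v) :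
    (f * t) * (f * t) = ph t f := by
  have e2 : t * f * t = f * ph t f := by rw [ph_def]; group
  calc (f * t) * (f * t) = f * (t * f * t) := by group
    _ = f * f * ph t f := by rw [e2]; group
    _ = ph t f := by rw [D.sq h2 hv hf, one_mul]

/-- the image of a line coordinate under a transvection: `k` fixes `u, w`, `v ↦ v + w` -/
theorem lemA [CharP F 2] [FiniteDimensional F V] (hK : KFacts Q) (h2 : ∀ c : F, c = 0 ∨ c = 1)
    (hT : TAd Q t j W) {u v w : V}
    (h3 : Ln3 Q u v w) {f g : G} (hf : f ∈ W u v) (hg : g ∈ W u w) (pf : ph t f = j (tE Q u v))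
    (pg : ph t g = j (tE Q u w)) {k : ↥(E Q)} (ku : (k : V ≃ₗ[F] V) u = u) (kv : (k : V ≃ₗ[F] V) v = v + w)
    (kw : (k : V ≃ₗ[F] V) w = w) (kk : k * k = 1) :
    ∃ m : ℤ, Odd m ∧ j k * (f * t) * (j k)⁻¹ = (f * t)⁻¹ * (g * t) ^ m := by
  have hu := h3.uv.qu
  have hm := D.conj k h3.uv hf
  have hp := ph_conj (D.tj k) f
  rw [pf, D.rconj] at hp
  rw [ku, kv] at hm hp
  obtain ⟨r, ⟨y, hy, rfl⟩, e⟩ := hT h3 hf hg hm pf pg hp
  -- `r` commutes with `T v x`, `x ⊥ u, v, w`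
  have hfx : ∀ x, polar Q u x = 0 → polar Q v x = 0 → polar Q w x = 0 → polar Q v y • x +
      (polar Q x y + Q x * polar Q v y) • v ∈ Submodule.span F {u} := by
    intro x hux hvx hwx
    have e1 : T Q v x u = u := by
      rw [T_apply2 h3.uv.qw hvx, h3.uv.perp', polar_comm Q x u, hux]; simp
    have e2 : T Q v x v = v := by
      rw [T_apply2 h3.uv.qw hvx, polar_self2, polar_comm Q x v, hvx]; simp
    have e3 : T Q v x w = w := by
      rw [T_apply2 h3.uv.qw hvx, h3.perp, polar_comm Q x w, hwx]; simp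
    have c1 := D.cent h3.uv hf (k := tE Q v x) (tE_comm_of e1 e2)
    have c2 := D.cent h3.uw hg (k := tE Q v x) (tE_comm_of e1 e3)
    have c3 := D.cent h3.add hm (k := tE Q v x) (tE_comm_of e1 (by rw [map_add, e2, e3]))
    have c4 := D.tj (tE Q v x)
    have er : j (tE Q u y) = t⁻¹ * (f⁻¹ * g⁻¹) * (j k * f * (j k)⁻¹) := by rw [e]; group
    have c5 : j (tE Q v x) * j (tE Q u y) = j (tE Q u y) * j (tE Q v x) := by
      rw [er]
      generalize j (tE Q v x) = z at *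
      have k1 : z * t⁻¹ = t⁻¹ * z := by rw [D.t_inv, c4]
      have k2 : z * (f⁻¹ * g⁻¹) = (f⁻¹ * g⁻¹) * z := by
        have a1 : z * f⁻¹ = f⁻¹ * z := by rw [eq_inv_mul_iff_mul_eq, ← mul_assoc, ← c1, mul_inv_cancel_right]
        have a2 : z * g⁻¹ = g⁻¹ * z := by rw [eq_inv_mul_iff_mul_eq, ← mul_assoc, ← c2, mul_inv_cancel_right]
        rw [← mul_assoc, a1, mul_assoc, a2, mul_assoc]
      calc z * (t⁻¹ * (f⁻¹ * g⁻¹) * (j k * f * (j k)⁻¹))
          = (z * t⁻¹) * (f⁻¹ * g⁻¹) * (j k * f * (j k)⁻¹) := by group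
        _ = t⁻¹ * (z * (f⁻¹ * g⁻¹)) * (j k * f * (j k)⁻¹) := by rw [k1]; group
        _ = t⁻¹ * (f⁻¹ * g⁻¹) * (z * (j k * f * (j k)⁻¹)) := by rw [k2]; group
        _ = _ := by rw [c3]; group
    have c6 : j (tE Q u (T Q v x y)) = j (tE Q u y) := by
      have := D.rconj (tE Q v x) u y
      rw [c5, mul_inv_cancel_right, coe_tE, e1] at this
      exact this.symm
    have e4 : T Q v x y = y + (polar Q v y • x + (polar Q x y + Q x * polar Q v y) • v) := by
      rw [T_apply2 h3.uv.qw hvx]; abel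
    rw [e4] at c6
    obtain ⟨c, hc⟩ := r_inj D hK hu h3.uv.ne (by
      rw [polar_add_right, polar_add_right, polar_smul_right, polar_smul_right, hux, h3.uv.perp, hy]; simp) hy c6
    rw [Submodule.mem_span_singleton]
    refine ⟨-c, ?_⟩
    have e5 : y = y + ((polar Q v y • x + (polar Q x y + Q x * polar Q v y) • v) + c • u) := by
      conv_lhs => rw [hc]
      abel
    have e6 := left_eq_add.1 e5
    rw [neg_smul]
    exact (eq_neg_of_add_eq_zero_left e6).symm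
  have hvy : polar Q v y = 0 := by
    have h1 := hfx w h3.uw.perp h3.perp (polar_self2 w)
    rw [h3.uw.qw, zero_mul, add_zero] at h1
    obtain ⟨c, hc⟩ := Submodule.mem_span_singleton.1 h1
    exact (h3.coeff (a := -c) (b := polar Q w y) (c := polar Q v y) (by rw [neg_smul, hc]; abel)).2.2
  have hmem : y ∈ Submodule.span F ({u, v, w} : Set V) := by
    by_contra hn
    obtain ⟨z, hz1, hz2⟩ := exists_sep_sub hK.nondeg hn
    have hz3 : ∀ s ∈ ({u, v, w} : Set V), polar Q s z = 0 := fun s hs => hz2 s (Submodule.subset_span hs)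
    have h1 := hfx z (hz3 u (by simp)) (hz3 v (by simp)) (hz3 w (by simp))
    rw [hvy, zero_smul, zero_add, mul_zero, add_zero] at h1
    obtain ⟨c, hc⟩ := Submodule.mem_span_singleton.1 h1
    have h4 := (h3.uv.coeff (a := -c) (b := polar Q z y) (by rw [neg_smul, hc]; abel)).2
    rw [polar_comm, hz1] at h4
    exact one_ne_zero h4
  obtain ⟨a0, b0, c0, hy0⟩ : ∃ a b c : F, y = a • u + b • v + c • w := by
    rw [Submodule.mem_span_insert] at hmem
    obtain ⟨a, z, hz, rfl⟩ := hmem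
    obtain ⟨b, c, rfl⟩ := Submodule.mem_span_pair.1 hz
    exact ⟨a, b, c, by abel⟩
  have pv : ∀ c : F, polar Q u (c • v) = 0 := fun c => by rw [polar_smul_right, h3.uv.perp, smul_zero]
  have pw : ∀ c : F, polar Q u (c • w) = 0 := fun c => by rw [polar_smul_right, h3.uw.perp, smul_zero]
  have er : j (tE Q u y) = j (tE Q u (b0 • v)) * j (tE Q u (c0 • w)) := by
    have : y = (b0 • v + c0 • w) + a0 • u := by rw [hy0]; abel
    rw [this, tE_add_smul hu (by rw [polar_add_right, pv, pw, add_zero]), D.rmul hu (pv _) (pw _)]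
  -- notation
  have hab := zz_comm D hK h2 hT h3 hf hg pf pg
  have ha2 : (f * t) * (f * t) = j (tE Q u v) := by rw [zz_sq D h2 h3.uv hf, pf]
  have hb2 : (g * t) * (g * t) = j (tE Q u w) := by rw [zz_sq D h2 h3.uw hg, pg]
  have hA2 : j (tE Q u v) * j (tE Q u v) = 1 := by rw [← map_mul, tE_mul_self hu h3.uv.perp, map_one]
  have hB2 : j (tE Q u w) * j (tE Q u w) = 1 := by rw [← map_mul, tE_mul_self hu h3.uw.perp, map_one]
  have hB1 : j (tE Q u w) ≠ 1 := by
    intro h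
    have h5 : j (tE Q u 0) = j (tE Q u w) := by rw [tE_zero_right, map_one, h]
    obtain ⟨c, hc⟩ := r_inj D hK hu h3.uv.ne (polar_zero_right _ _) h3.uw.perp h5
    exact h3.uw.ind c (by rw [hc, zero_add])
  have hti := D.t_inv
  have htk := D.tj k
  have hA := D.tj (tE Q u v)
  have hrr := D.tj (tE Q u y)
  have hgf : g * f = (g * t) * (f * t) * j (tE Q u v) := by
    have e2 : t * f * t = f * ph t f := by rw [ph_def]; group
    calc g * f = g * (f * ph t f) * j (tE Q u v) := by rw [pf, mul_assoc g, mul_assoc f, hA2, mul_one]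
      _ = _ := by rw [← e2]; group
  have hka : j k * (f * t) * (j k)⁻¹ = (g * t) * (f * t) * j (tE Q u v) * j (tE Q u y) := by
    have h5 : t * (j k)⁻¹ = (j k)⁻¹ * t := by
      rw [eq_inv_mul_iff_mul_eq, ← mul_assoc, ← htk, mul_inv_cancel_right]
    calc j k * (f * t) * (j k)⁻¹ = j k * f * (t * (j k)⁻¹) := by group
      _ = (j k * f * (j k)⁻¹) * t := by rw [h5]; group
      _ = g * f * (t * (j (tE Q u y) * t)) := by rw [e]; group
      _ = g * f * (t * t * j (tE Q u y)) := by rw [← hrr]; group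
      _ = _ := by rw [D.tt, one_mul, hgf]
  rw [er] at hka
  generalize hga : f * t = a at *
  generalize hgb : g * t = b at *
  have hab' : Commute a b := hab
  obtain ⟨m, hm1, hm2, hm3⟩ : ∃ m : ℤ, Odd m ∧ b * j (tE Q u (c0 • w)) = b ^ m ∧ b ^ m * b ^ m = j (tE Q u w) := by
    rcases h2 c0 with h | h
    · exact ⟨1, odd_one, by rw [h, zero_smul, tE_zero_right, map_one, mul_one, zpow_one], by
        rw [zpow_one, hb2]⟩
    · have hb3 : b ^ (3 : ℤ) = b * (b * b) := by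
        have h := zpow_natCast b 3
        push_cast at h
        rw [h, pow_succ, pow_succ, pow_one, mul_assoc]
      refine ⟨3, by decide, ?_, ?_⟩
      · rw [h, one_smul, ← hb2, hb3]
      · have : b ^ (3 : ℤ) * b ^ (3 : ℤ) = (b * b) * ((b * b) * (b * b)) := by
          rw [hb3]; simp only [mul_assoc]
        rw [this, hb2, hB2, mul_one]
  have hAb : ∀ c : F, j (tE Q u (c • w)) * a = a * j (tE Q u (c • w)) := by
    intro c
    have h5 := Vs_comm D hu (mem_Vs h3.uv hf) (Ru_mem (j := j) (pw c))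
    rw [← hga, ← mul_assoc, h5, mul_assoc, ← D.tj, mul_assoc]
  rcases h2 b0 with h | h
  · refine ⟨m, hm1, ?_⟩
    have ha4 : a * j (tE Q u v) = a⁻¹ := by
      rw [eq_inv_iff_mul_eq_one]
      have h6 : j (tE Q u v) * a = a * j (tE Q u v) := by rw [← ha2]; group
      rw [mul_assoc, h6, ← mul_assoc, ha2, hA2]
    have h7 : a⁻¹ * j (tE Q u (c0 • w)) = j (tE Q u (c0 • w)) * a⁻¹ := by
      rw [inv_mul_eq_iff_eq_mul, ← mul_assoc, ← hAb c0, mul_inv_cancel_right]
    rw [hka, h, zero_smul, tE_zero_right, map_one, one_mul, mul_assoc b a, ha4, mul_assoc, h7, ← mul_assoc, hm2]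
    exact ((hab'.zpow_right m).inv_left).eq.symm
  · exfalso
    have h8 : j k * a * (j k)⁻¹ = a * b ^ m := by
      rw [hka, h, one_smul, ← mul_assoc, mul_assoc (b * a), hA2, mul_one, mul_assoc b, ← hAb c0, ← mul_assoc, hm2]
      exact (hab'.zpow_right m).eq.symm
    have h9 : j k * b * (j k)⁻¹ = b := by
      have h10 := D.cent h3.uw hg (k := k) (by
        have := tE_conj k u w
        rw [ku, kw] at this
        exact mul_inv_eq_iff_eq_mul.1 this)
      rw [← hgb, ← mul_assoc, h10, mul_assoc g, ← htk]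
      group
    have h10 : j k * j k = 1 := by rw [← map_mul, kk, map_one]
    have h11 : a = (j k * a * (j k)⁻¹) * (j k * b * (j k)⁻¹) ^ m := by
      have h12 : j k * (j k * a * (j k)⁻¹) * (j k)⁻¹ = a := by
        have : j k * (j k * a * (j k)⁻¹) * (j k)⁻¹ = (j k * j k) * a * (j k * j k)⁻¹ := by group
        rw [this, h10, one_mul, inv_one, mul_one]
      have h13 : j k * (a * b ^ m) * (j k)⁻¹ = (j k * a * (j k)⁻¹) * (j k * b * (j k)⁻¹) ^ m := by
        rw [conj_zpow]; group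
      rw [← h13, ← h8, h12]
    rw [h9, h8, mul_assoc, hm3] at h11
    exact hB1 (left_eq_mul.1 h11)

/-- the bad alternative is impossible -/
theorem not_TAd [CharP F 2] [FiniteDimensional F V] (hK : KFacts Q) (h2 : ∀ c : F, c = 0 ∨ c = 1)
    {e1 e2 e3 : V} (h3 : Ln3 Q e1 e2 e3) : ¬ TAd Q t j W := by
  intro hT
  -- dual vectors
  obtain ⟨f1, a1, a2⟩ : ∃ y, polar Q e1 y = 1 ∧ ∀ s ∈ Submodule.span F ({e2, e3} : Set V), polar Q s y = 0 := by
    apply exists_sep_sub hK.nondeg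
    exact h3.rot.symm.ind
  have a3 : polar Q e2 f1 = 0 := a2 _ (Submodule.subset_span (by simp))
  have a4 : polar Q e3 f1 = 0 := a2 _ (Submodule.subset_span (by simp))
  obtain ⟨g2, b1, b2⟩ : ∃ y, polar Q e2 y = 1 ∧ ∀ s ∈ Submodule.span F ({e1, e3, f1} : Set V), polar Q s y = 0 := by
    apply exists_sep_sub hK.nondeg
    intro hmem
    rw [Submodule.mem_span_insert] at hmem
    obtain ⟨a, z, hz, e⟩ := hmem
    obtain ⟨b, c, rfl⟩ := Submodule.mem_span_pair.1 hz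
    have hc : polar Q e1 e2 = 0 := h3.uv.perp
    rw [e, polar_add_right, polar_add_right, polar_smul_right, polar_smul_right, polar_smul_right, a1,
      h3.uw.perp, polar_self2] at hc
    have hc0 : c = 0 := by simpa using hc
    rw [hc0, zero_smul, add_zero] at e
    have := (h3.coeff (a := a) (b := -1) (c := b) (by rw [neg_smul, one_smul, e]; abel)).2.1
    simp at this
  have b3 : polar Q e1 g2 = 0 := b2 _ (Submodule.subset_span (by simp))
  have b4 : polar Q e3 g2 = 0 := b2 _ (Submodule.subset_span (by simp))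
  have b5 : polar Q f1 g2 = 0 := b2 _ (Submodule.subset_span (by simp))
  obtain ⟨f2, c1, c2, c3, c4, c5⟩ : ∃ y, polar Q e2 y = 1 ∧ polar Q e1 y = 0 ∧ polar Q e3 y = 0 ∧
      polar Q f1 y = 0 ∧ Q y = 0 := by
    refine ⟨g2 + Q g2 • e2, ?_, ?_, ?_, ?_, ?_⟩
    · rw [polar_add_right, polar_smul_right, polar_self2, b1]; simp
    · rw [polar_add_right, polar_smul_right, h3.uv.perp, b3]; simp
    · rw [polar_add_right, polar_smul_right, polar_comm Q e3 e2, h3.perp, b4]; simp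
    · rw [polar_add_right, polar_smul_right, polar_comm Q f1 e2, a3, b5]; simp
    · rw [Q_add, QuadraticMap.map_smul, h3.uv.qw, polar_smul_right, polar_comm Q g2 e2, b1, smul_zero, add_zero,
        smul_eq_mul, mul_one]
      exact CharTwo.add_self_eq_zero _
  -- the three transvections
  have q1 := h3.uv.qu
  have q2 := h3.uv.qw
  have q3 := h3.uw.qw
  have p12 := h3.uv.perp
  have p13 := h3.uw.perp
  have p23 := h3.perp
  have p21 : polar Q e2 e1 = 0 := h3.uv.perp'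
  have p31 : polar Q e3 e1 = 0 := h3.uw.perp'
  have p32 : polar Q e3 e2 = 0 := by rw [polar_comm]; exact h3.perp
  have a1' : polar Q f1 e1 = 1 := by rw [polar_comm]; exact a1
  have a3' : polar Q f1 e2 = 0 := by rw [polar_comm]; exact a3
  have a4' : polar Q f1 e3 = 0 := by rw [polar_comm]; exact a4
  have c1' : polar Q f2 e2 = 1 := by rw [polar_comm]; exact c1
  have c2' : polar Q f2 e1 = 0 := by rw [polar_comm]; exact c2
  have c3' : polar Q f2 e3 = 0 := by rw [polar_comm]; exact c3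
  have c4' : polar Q f2 f1 = 0 := by rw [polar_comm]; exact c4
  have k1a : T Q e3 f1 e1 = e1 + e3 := by rw [T_apply2 q3 a4, p31, a1']; simp
  have k1b : T Q e3 f1 e2 = e2 := by rw [T_apply2 q3 a4, p32, a3']; simp
  have k1c : T Q e3 f1 e3 = e3 := by rw [T_apply2 q3 a4, polar_self2, a4']; simp
  have k2a : T Q e1 f2 e1 = e1 := by rw [T_apply2 q1 c2, polar_self2, c2']; simp
  have k2b : T Q e1 f2 e2 = e2 + e1 := by rw [T_apply2 q1 c2, p12, c1']; simp
  have k2c : T Q e1 f2 e3 = e3 := by rw [T_apply2 q1 c2, p13, c3']; simp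
  have k3a : T Q e3 f2 e1 = e1 := by rw [T_apply2 q3 c3, p31, c2']; simp
  have k3b : T Q e3 f2 e2 = e2 + e3 := by rw [T_apply2 q3 c3, p32, c1']; simp
  have k3c : T Q e3 f2 e3 = e3 := by rw [T_apply2 q3 c3, polar_self2, c3']; simp
  have hrel : tE Q e1 f2 * tE Q e3 f1 * (tE Q e1 f2)⁻¹ = tE Q e3 f1 * tE Q e3 f2 := by
    rw [tE_conj, coe_tE, k2c, tE_mul q3 a4 c3]
    congr 1
    rw [T_apply2 q1 c2, a1, c4', c5]; simp
  -- the elements
  obtain ⟨f12, m12, s12⟩ := surj_W D h3.uv 1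
  obtain ⟨f13, m13, s13⟩ := surj_W D h3.uw 1
  obtain ⟨f23, m23, s23⟩ := surj_W D h3.vw 1
  rw [one_smul] at s12 s13 s23
  have m21 : f12 ∈ W e2 e1 := by rw [← D.swap h3.uv]; exact m12
  have m32 : f23 ∈ W e3 e2 := by rw [← D.swap h3.vw]; exact m23
  have m31 : f13 ∈ W e3 e1 := by rw [← D.swap h3.uw]; exact m13
  have s21 : ph t f12 = j (tE Q e2 e1) := by rw [s12, tE_swap q1 q2 p12]
  have s32 : ph t f23 = j (tE Q e3 e2) := by rw [s23, tE_swap q2 q3 p23]
  have s31 : ph t f13 = j (tE Q e3 e1) := by rw [s13, tE_swap q1 q3 p13]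
  have n213 : Ln3 Q e2 e1 e3 := h3.rot
  have n321 : Ln3 Q e3 e2 e1 := h3.symm.rot.symm
  have hab : Commute (f12 * t) (f23 * t) := zz_comm D hK h2 hT n213 m21 m23 s21 s23
  have hac : Commute (f12 * t) (f13 * t) := zz_comm D hK h2 hT h3 m12 m13 s12 s13
  have hbc : Commute (f23 * t) (f13 * t) := zz_comm D hK h2 hT n321 m32 m31 s32 s31
  have sq (x : V) {y : V} (hx : Q x = 0) (hy : polar Q x y = 0) : tE Q x y * tE Q x y = 1 := tE_mul_self hx hy
  obtain ⟨m, hm, r1⟩ := lemA D hK h2 hT n213 m21 m23 s21 s23 (k := tE Q e3 f1) k1b k1a k1c (sq _ q3 a4)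
  obtain ⟨n, hn, r3⟩ := lemA D hK h2 hT h3 m12 m13 s12 s13 (k := tE Q e3 f2) k3a k3b k3c (sq _ q3 c3)
  obtain ⟨l, hl, r2⟩ := lemA D hK h2 hT n321 m32 m31 s32 s31 (k := tE Q e1 f2) k2c k2b k2a (sq _ q1 c2)
  have hA2 : (f12 * t) * (f12 * t) = j (tE Q e1 e2) := by rw [zz_sq D h2 h3.uv m12, s12]
  have hC2 : (f13 * t) * (f13 * t) = j (tE Q e1 e3) := by rw [zz_sq D h2 h3.uw m13, s13]
  -- commuting
  have hz {k : ↥(E Q)} {u v : V} {f : G} (hv : Ln Q u v) (hf : f ∈ W u v) (h : k * tE Q u v = tE Q u v * k) :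
      j k * (f * t) * (j k)⁻¹ = f * t := by
    have h10 := D.cent hv hf h
    rw [← mul_assoc, h10, mul_assoc f, ← D.tj k]
    group
  have v2a : j (tE Q e1 f2) * (f12 * t) * (j (tE Q e1 f2))⁻¹ = f12 * t := hz h3.uv m12 (tE_comm q1 c2 p12)
  have v1c : j (tE Q e3 f1) * (f13 * t) * (j (tE Q e3 f1))⁻¹ = f13 * t :=
    hz h3.uw.symm m31 (tE_comm q3 a4 p31)
  generalize f12 * t = a at *
  generalize f23 * t = b at *
  generalize f13 * t = c at *
  have hrel' : j (tE Q e1 f2) * j (tE Q e3 f1) * (j (tE Q e1 f2))⁻¹ = j (tE Q e3 f1) * j (tE Q e3 f2) := by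
    rw [← map_mul, ← map_inv, ← map_mul, hrel, map_mul]
  generalize j (tE Q e1 f2) = x2 at *
  generalize j (tE Q e3 f1) = x1 at *
  generalize j (tE Q e3 f2) = x3 at *
  have L1 : (x1 * x3) * a * (x1 * x3)⁻¹ = (a⁻¹ * b ^ m)⁻¹ * c ^ n := by
    have : (x1 * x3) * a * (x1 * x3)⁻¹ = x1 * (x3 * a * x3⁻¹) * x1⁻¹ := by group
    rw [this, r3]
    have e1 : x1 * (a⁻¹ * c ^ n) * x1⁻¹ = (x1 * a * x1⁻¹)⁻¹ * (x1 * c * x1⁻¹) ^ n := by rw [conj_zpow]; group
    rw [e1, r1, v1c]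
  have L2 : (x2 * x1 * x2⁻¹) * a * (x2 * x1 * x2⁻¹)⁻¹ = a⁻¹ * (b⁻¹ * c ^ l) ^ m := by
    have e0 : x2⁻¹ * a * x2 = a := by
      have : a = x2⁻¹ * (x2 * a * x2⁻¹) * x2 := by group
      rw [v2a] at this
      exact this.symm
    have : (x2 * x1 * x2⁻¹) * a * (x2 * x1 * x2⁻¹)⁻¹ = x2 * (x1 * (x2⁻¹ * a * x2) * x1⁻¹) * x2⁻¹ := by group
    rw [this, e0, r1]
    have e1 : x2 * (a⁻¹ * b ^ m) * x2⁻¹ = (x2 * a * x2⁻¹)⁻¹ * (x2 * b * x2⁻¹) ^ m := by rw [conj_zpow]; group
    rw [e1, v2a, r2]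
  rw [hrel', L1] at L2
  have hcb : Commute b⁻¹ (c ^ l) := (hbc.zpow_right l).inv_left
  rw [hcb.mul_zpow, mul_inv_rev, inv_inv, ← zpow_mul] at L2
  -- `b^{-m} a c^n = a⁻¹ b^{-m} c^{lm}`
  have e5 : a * a = c ^ (l * m - n) := by
    have hbm : Commute a (b ^ m) := hab.zpow_right m
    have hbm' : (b ^ m)⁻¹ * a = a * (b ^ m)⁻¹ := (hbm.inv_right).eq.symm
    have hcn : Commute c (c ^ n) := Commute.self_zpow c n
    have e6 : a⁻¹ * (b⁻¹ ^ m * c ^ (l * m)) = a⁻¹ * (b ^ m)⁻¹ * c ^ (l * m) := by rw [inv_zpow]; group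
    rw [e6, hbm'] at L2
    have e7 : a⁻¹ * (b ^ m)⁻¹ = (b ^ m)⁻¹ * a⁻¹ := ((hbm.inv_right).inv_left).eq
    rw [e7] at L2
    have e8 : a * a = (b ^ m) * (a * (b ^ m)⁻¹ * c ^ n) * (c ^ n)⁻¹ * a := by
      rw [← hbm']; group
    rw [e8, L2]
    have hca : Commute (c ^ (l * m) * (c ^ n)⁻¹) a :=
      ((hac.zpow_right (l * m)).mul_right ((hac.zpow_right n).inv_right)).symm
    calc b ^ m * ((b ^ m)⁻¹ * a⁻¹ * c ^ (l * m)) * (c ^ n)⁻¹ * a = a⁻¹ * ((c ^ (l * m) * (c ^ n)⁻¹) * a) := by group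
      _ = a⁻¹ * (a * (c ^ (l * m) * (c ^ n)⁻¹)) := by rw [hca.eq]
      _ = _ := by rw [zpow_sub]; group
  obtain ⟨i, hi⟩ : Even (l * m - n) := (hl.mul hm).sub_odd hn
  rw [hi, hA2, ← two_mul, zpow_mul, zpow_two, hC2] at e5
  -- `j (tE e1 e2) = j (tE e1 e3) ^ i`
  have e9 : ∀ i : ℤ, ∃ d : F, j (tE Q e1 e3) ^ i = j (tE Q e1 (d • e3)) := by
    intro i
    have hsq : j (tE Q e1 e3) * j (tE Q e1 e3) = 1 := by rw [← map_mul, tE_mul_self q1 p13, map_one]
    rcases Int.even_or_odd' i with ⟨i', rfl | rfl⟩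
    · exact ⟨0, by rw [zpow_mul, zpow_two, hsq, one_zpow, zero_smul, tE_zero_right, map_one]⟩
    · exact ⟨1, by rw [zpow_add, zpow_mul, zpow_two, hsq, one_zpow, one_mul, zpow_one, one_smul]⟩
  obtain ⟨d, hd⟩ := e9 i
  rw [hd] at e5
  obtain ⟨c', hc'⟩ := r_inj D hK q1 h3.uv.ne p12 (by rw [polar_smul_right, p13, smul_zero]) e5
  have := (h3.coeff (a := c') (b := 1) (c := -d) (by rw [neg_smul, hc']; module)).2.1
  exact one_ne_zero this

/-- `q = 2`: `V*_u` is additive. -/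
theorem ad_two [CharP F 2] [FiniteDimensional F V] (hK : KFacts Q) (h2 : ∀ c : F, c = 0 ∨ c = 1)
    {e1 e2 e3 : V} (h3 : Ln3 Q e1 e2 e3) (u : V) : Ad Q t j W u := by
  rcases dich D hK h2 with h | h
  · exact h u
  · exact (not_TAd D hK h2 h3 h).elim

/-- all `q` -/
theorem ad_all [CharP F 2] [FiniteDimensional F V] (hK : KFacts Q)
    {e1 e2 e3 : V} (h3 : Ln3 Q e1 e2 e3) (u : V) : Ad Q t j W u := by
  by_cases h2 : ∀ c : F, c = 0 ∨ c = 1
  · exact ad_two D hK h2 h3 u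
  · push Not at h2
    exact ad_big D hK h2 u

end Cfsg.Agent.OddHalf.Orth.Star

end

-- merged: Cfsg.Agent.OddHalf.Orth.Lines
section

/-!
# ODD D7, `K = Ω(V)`: the relations of the doubled long root groups, first part
(`[W_m, X_l] ≤ W_{l+m}`, the `W_l` are elementary abelian)
-/

set_option autoImplicit false

namespace Cfsg.Agent.OddHalf.Orth.Lines

open QuadraticMap Cfsg.Agent.LieClassical.OrthCore Cfsg.Agent.LieClassical.OrthTrans
  Cfsg.Agent.ClassicalGeometry.OrthAutBasic Cfsg.Agent.ClassicalGeometry.OrthAutRoot Cfsg.Agent.OddHalf.Orth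
  Cfsg.Agent.OddHalf.Orth.Face Cfsg.Agent.OddHalf.Orth.Star

variable {F V : Type*} [Field F] [AddCommGroup V] [Module F V] {Q : QuadraticForm F V}
variable {G : Type*} [Group G] {t : G} {j : ↥(E Q) →* G} {W : V → V → Subgroup G}

/-- The situation after section 2. -/
structure Full (Q : QuadraticForm F V) (t : G) (j : ↥(E Q) →* G) (W : V → V → Subgroup G) : Prop
    extends Dbl Q t j W where
  kf : KFacts Q
  ad : ∀ u, Ad Q t j W u

theorem full_of [CharP F 2] [FiniteDimensional F V] (D : Dbl Q t j W) (hK : KFacts Q) : Full Q t j W where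
  toDbl := D
  kf := hK
  ad := by
    obtain ⟨u, hu, hu0⟩ := hK.sing
    obtain ⟨v, hv⟩ := hK.exLn hu hu0
    obtain ⟨w, hw⟩ := hK.exLn3 hv
    exact ad_all D hK hw

theorem rel_symm {u v a b : V} (h : Rel Q u v a b) : Rel Q a b u v where
  uv := h.ab
  ab := h.uv
  ua := h.ua.symm
  ub := by rw [polar_comm]; exact h.va
  va := by rw [polar_comm]; exact h.ub
  vb := by rw [polar_comm]; exact h.vb

theorem T_perp2 [CharP F 2] {u w y : V} (hu : Q u = 0) (hw : polar Q u w = 0) (hy : polar Q u y = 0) :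
    T Q u w y = y + polar Q w y • u := by
  rw [T_apply2 hu hw, hy]; simp

theorem T_id [CharP F 2] {u w y : V} (hu : Q u = 0) (hw : polar Q u w = 0) (hy : polar Q u y = 0)
    (h : polar Q w y = 0) : T Q u w y = y := by
  rw [T_perp2 hu hw hy, h, zero_smul, add_zero]

variable (D : Full Q t j W)
include D

namespace Full

theorem ab [CharP F 2] {u : V} {f g : G} (hf : f ∈ Vs Q W u) (hg : g ∈ Vs Q W u) : Commute f g :=
  Vs_ab_of D.toDbl D.kf (D.ad u) hf hg

theorem t_notin [CharP F 2] {u : V} (hu : Q u = 0) (hu0 : u ≠ 0) : t ∉ Vs Q W u :=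
  t_notin_of_ad D.toDbl D.kf hu hu0 (D.ad u)

theorem fixR [CharP F 2] {u : V} (hu : Q u = 0) (hu0 : u ≠ 0) {f : G} (hf : f ∈ Vs Q W u) (h : ph t f = 1) :
    f ∈ Ru Q j u := Vs_fix_of D.toDbl D.kf hu hu0 (D.t_notin hu hu0) hf h

theorem cR {u v x : V} (h : Ln Q u v) {w : G} (hw : w ∈ W u v) (hx : polar Q u x = 0) :
    Commute (j (tE Q u x)) w := Vs_comm D.toDbl h.qu (mem_Vs h hw) (Ru_mem hx)

theorem cfix {u v x y : V} (h : Ln Q u v) {w : G} (hw : w ∈ W u v) (h1 : T Q x y u = u) (h2 : T Q x y v = v) :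
    Commute (j (tE Q x y)) w := D.cent h hw (tE_comm_of h1 h2)

/-- `W u v`: an element fixed by `t` is in `X` -/
theorem fixW {u v : V} (h : Ln Q u v) {w : G} (hw : w ∈ W u v) (h1 : ph t w = 1) :
    ∃ c : F, w = j (tE Q u (c • v)) := D.fix h hw ((ph_eq_one D.tt).1 h1)

theorem swapW {u v : V} (h : Ln Q u v) {w : G} (hw : w ∈ W u v) : w ∈ W v u := by
  rwa [← D.swap h]

/-- a vector whose root element commutes with `k` is fixed modulo the centre -/
theorem comm_vec {a y : V} (ha : Q a = 0) (ha0 : a ≠ 0) (hy : polar Q a y = 0) {k : ↥(E Q)}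
    (hk : (k : V ≃ₗ[F] V) a = a) (hc : Commute (j k) (j (tE Q a y))) :
    ∃ e : F, (k : V ≃ₗ[F] V) y = y + e • a := by
  have h1 := D.rconj k a y
  rw [hc.eq, mul_inv_cancel_right, hk] at h1
  have h2 : polar Q a ((k : V ≃ₗ[F] V) y) = 0 := by
    have := polar_map' (Q := Q) k a y
    rw [hk] at this
    rw [this, hy]
  obtain ⟨c, hc⟩ := r_inj D.toDbl D.kf ha ha0 hy h2 h1
  exact ⟨c, hc⟩

end Full

omit D in
theorem commute_comm {z w k : G} (h1 : Commute z w) (h2 : Commute z k) : Commute z (w⁻¹ * (k * w * k⁻¹)) :=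
  h1.inv_right.mul_right ((h2.mul_right h1).mul_right h2.inv_right)

omit D in
theorem rel_u'  [FiniteDimensional F V] [CharP F 2] (hK : KFacts Q) {u v a b : V} (h : Rel Q u v a b) :
    ∃ u', Hyp Q u u' ∧ polar Q u' v = 0 ∧ polar Q u' a = 0 ∧ polar Q u' b = 0 := by
  have hn : u ∉ Submodule.span F ({v, a, b} : Set V) := by
    intro hm
    rw [Submodule.mem_span_insert] at hm
    obtain ⟨α, z, hz, e⟩ := hm
    obtain ⟨β, γ, rfl⟩ := Submodule.mem_span_pair.1 hz
    have h1 : polar Q u b = 0 := h.ub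
    rw [e, polar_add_left, polar_add_left, polar_smul_left, polar_smul_left, polar_smul_left, h.vb, h.ab.perp,
      polar_self2] at h1
    have hα : α = 0 := by simpa using h1
    have h2 : polar Q u v = 0 := h.uv.perp
    rw [e, polar_add_left, polar_add_left, polar_smul_left, polar_smul_left, polar_smul_left, polar_self2,
      polar_comm Q a v, h.va, polar_comm Q b v, h.vb] at h2
    have hγ : γ = 0 := by simpa using h2
    apply h.ua.symm.ind β
    rw [e, hα, hγ]; simp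
  obtain ⟨y, hy1, hy2⟩ := exists_sep_sub hK.nondeg hn
  have y1 : polar Q v y = 0 := hy2 _ (Submodule.subset_span (by simp))
  have y2 : polar Q a y = 0 := hy2 _ (Submodule.subset_span (by simp))
  have y3 : polar Q b y = 0 := hy2 _ (Submodule.subset_span (by simp))
  refine ⟨y + Q y • u, ⟨h.uv.qu, ?_, ?_⟩, ?_, ?_, ?_⟩
  · rw [Q_add, QuadraticMap.map_smul, h.uv.qu, polar_smul_right, polar_comm Q y u, hy1]
    simp only [smul_eq_mul, mul_zero, add_zero, mul_one]
    exact CharTwo.add_self_eq_zero _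
  · rw [polar_add_right, hy1, polar_smul_right, polar_self2]; simp
  · rw [polar_add_left, polar_comm Q y v, y1, polar_smul_left, h.uv.perp]; simp
  · rw [polar_add_left, polar_comm Q y a, y2, polar_smul_left, h.ua.perp]; simp
  · rw [polar_add_left, polar_comm Q y b, y3, polar_smul_left, h.ub]; simp

section c1

variable [CharP F 2] {u v a b : V}

/-- `φ` of the commutator `[w, x]`, `x = T u (c v)` -/
theorem ph_c1 (h : Rel Q u v a b) {w : G} (hw : w ∈ W a b) (c : F) {β : F}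
    (hβ : ph t w = j (tE Q a (β • b))) :
    w⁻¹ * (j (tE Q u (c • v)) * w * (j (tE Q u (c • v)))⁻¹) ∈ Vs Q W a ∧
    ph t (w⁻¹ * (j (tE Q u (c • v)) * w * (j (tE Q u (c • v)))⁻¹)) = j (tE Q a ((β * c) • u)) := by
  have pv : polar Q u (c • v) = 0 := by rw [polar_smul_right, h.uv.perp, smul_zero]
  have ka : T Q u (c • v) a = a := T_id h.uv.qu pv h.ua.perp (by rw [polar_smul_left, h.va, smul_zero])
  have kb : T Q u (c • v) b = b + c • u := by
    rw [T_perp2 h.uv.qu pv h.ub, polar_smul_left, h.vb]; simp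
  have hwV := mem_Vs h.ab hw
  have h1 := Vs_conj D.toDbl (tE Q u (c • v)) hwV
  have h2 := ph_W_conj D.toDbl hβ (tE Q u (c • v))
  rw [coe_tE, ka] at h1
  rw [coe_tE, ka, kb] at h2
  refine ⟨mul_mem (inv_mem hwV) h1, ?_⟩
  have pb : ∀ d : F, polar Q a (d • b) = 0 := fun d => by rw [polar_smul_right, h.ab.perp, smul_zero]
  have pu : ∀ d : F, polar Q a (d • u) = 0 := fun d => by
    rw [polar_smul_right, polar_comm, h.ua.perp, smul_zero]
  rw [Vs_ph_mul D.toDbl h.ab.qu (inv_mem hwV) h1, Vs_ph_inv D.toDbl h.ab.qu hwV, hβ, h2, ← map_inv,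
    tE_inv h.ab.qu (pb _), smul_add, smul_smul, D.rmul h.ab.qu (pb _) (by rw [polar_add_right, pb, pu, add_zero]),
    ← add_assoc, add_self' (F := F), zero_add]

theorem P1 [FiniteDimensional F V] (h : Rel Q u v a b) {w : G} (hw : w ∈ W a b) (c : F) :
    ∃ w1 ∈ W a u, ∃ δ : F, w⁻¹ * (j (tE Q u (c • v)) * w * (j (tE Q u (c • v)))⁻¹) =
      w1 * j (tE Q a (δ • b)) := by
  obtain ⟨β, hβ⟩ := ph_W D.toDbl h.ab hw
  obtain ⟨hd, hph⟩ := ph_c1 D h hw c hβ
  obtain ⟨w1, hw1, hφ1⟩ := surj_W D.toDbl h.ua.symm (β * c)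
  have hw1V := mem_Vs h.ua.symm hw1
  have pv : polar Q u (c • v) = 0 := by rw [polar_smul_right, h.uv.perp, smul_zero]
  have hqa := h.ab.qu
  -- commuting elements
  have hcomm : ∀ {x z : V}, T Q x z u = u → tE Q x z * tE Q u v = tE Q u v * tE Q x z →
      tE Q x z * tE Q a b = tE Q a b * tE Q x z → tE Q x z * tE Q a u = tE Q a u * tE Q x z →
      Commute (j (tE Q x z)) (w1⁻¹ * (w⁻¹ * (j (tE Q u (c • v)) * w * (j (tE Q u (c • v)))⁻¹))) := by
    intro x z h0 h1 h2 h3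
    have k1 : Commute (j (tE Q x z)) w := D.cent h.ab hw h2
    have k2 : Commute (j (tE Q x z)) w1 := D.cent h.ua.symm hw1 h3
    have k3 : Commute (j (tE Q x z)) (j (tE Q u (c • v))) := by
      show j _ * j _ = j _ * j _
      rw [← map_mul, ← map_mul]
      congr 1
      -- `T x z` maps `v` to `v + e u`
      have e1 := tE_conj (tE Q x z) u v
      rw [h1, mul_inv_cancel_right, coe_tE, h0] at e1
      have hp : polar Q u (T Q x z v) = 0 := by
        have := polar_map' (Q := Q) (tE Q x z) u v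
        rw [coe_tE, h0] at this
        rw [this, h.uv.perp]
      obtain ⟨e, he⟩ := (tE_eq_iff D.kf.nondeg h.uv.qu h.uv.ne h.uv.perp hp).1 e1
      have e2 := tE_conj (tE Q x z) u (c • v)
      rw [coe_tE, h0, map_smul, he, smul_add, smul_smul, tE_add_smul h.uv.qu pv] at e2
      exact mul_inv_eq_iff_eq_mul.1 e2
    exact k2.inv_right.mul_right (commute_comm k1 k3)
  obtain ⟨y0, hy0, hy⟩ := D.fixR hqa h.ab.ne (mul_mem (inv_mem hw1V) hd) (by
    rw [Vs_ph_mul D.toDbl hqa (inv_mem hw1V) hd, Vs_ph_inv D.toDbl hqa hw1V, hφ1, hph, inv_mul_cancel])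
  rw [hy] at hcomm
  have hqu := h.uv.qu
  have hua := h.ua.perp
  have hau : polar Q a u = 0 := h.ua.perp'
  have hba : polar Q b a = 0 := h.ab.perp'
  have hbu : polar Q b u = 0 := by rw [polar_comm]; exact h.ub
  have hbv : polar Q b v = 1 := by rw [polar_comm]; exact h.vb
  -- `T u b`
  have e1 : polar Q u y0 = 0 ∧ polar Q b y0 = 0 := by
    have k0 : T Q u b u = u := T_id hqu h.ub (polar_self2 u) hbu
    have ka : T Q u b a = a := T_id hqu h.ub hua hba
    have kb : T Q u b b = b := T_id hqu h.ub h.ub (polar_self2 b)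
    obtain ⟨e, he⟩ := D.comm_vec hqa h.ab.ne hy0 (k := tE Q u b) ka (hcomm k0 (tE_comm hqu h.ub h.uv.perp)
      (tE_comm_of ka kb) (tE_comm_of ka k0))
    rw [coe_tE, T_apply2 hqu h.ub, h.ab.qw, zero_mul, add_zero] at he
    have he' : polar Q u y0 • b + polar Q b y0 • u = e • a := by
      have : y0 + (polar Q u y0 • b + polar Q b y0 • u) = y0 + e • a := by rw [← he]; abel
      exact add_left_cancel this
    have h5 : polar Q v (polar Q u y0 • b + polar Q b y0 • u) = polar Q v (e • a) := by rw [he']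
    rw [polar_add_right, polar_smul_right, polar_smul_right, polar_smul_right, h.vb, h.va, h.uv.perp'] at h5
    have h6 : polar Q u y0 = 0 := by simpa using h5
    rw [h6, zero_smul, zero_add] at he'
    refine ⟨h6, ?_⟩
    have := h.ua.coeff (a := polar Q b y0) (b := -e) (by rw [he']; module)
    exact this.1
  -- `T u x`
  have e2 : ∀ x, polar Q u x = 0 → polar Q v x = 0 → polar Q a x = 0 → polar Q b x = 0 → polar Q y0 x = 0 := by
    intro x hux hvx hax hbx
    have k0 : T Q u x u = u := T_id hqu hux (polar_self2 u) (by rw [polar_comm]; exact hux)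
    have ka : T Q u x a = a := T_id hqu hux hua (by rw [polar_comm]; exact hax)
    have kb : T Q u x b = b := T_id hqu hux h.ub (by rw [polar_comm]; exact hbx)
    obtain ⟨e, he⟩ := D.comm_vec hqa h.ab.ne hy0 (k := tE Q u x) ka (hcomm k0 (tE_comm hqu hux h.uv.perp)
      (tE_comm_of ka kb) (tE_comm_of ka k0))
    rw [coe_tE, T_perp2 hqu hux e1.1] at he
    have he' := add_left_cancel he
    have := h.ua.coeff (a := polar Q x y0) (b := -e) (by rw [he']; module)
    rw [polar_comm]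
    exact this.1
  -- hence `y0 ∈ ⟨u,v,a,b⟩`
  have hmem : y0 ∈ Submodule.span F ({u, v, a, b} : Set V) := by
    by_contra hn
    obtain ⟨z, hz1, hz2⟩ := exists_sep_sub D.kf.nondeg hn
    have hz3 : ∀ s ∈ ({u, v, a, b} : Set V), polar Q s z = 0 := fun s hs => hz2 s (Submodule.subset_span hs)
    have h1 := e2 z (hz3 u (by simp)) (hz3 v (by simp)) (hz3 a (by simp)) (hz3 b (by simp))
    rw [h1] at hz1
    exact zero_ne_one hz1
  rw [Submodule.mem_span_insert] at hmem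
  obtain ⟨α, z, hz, e3⟩ := hmem
  rw [Submodule.mem_span_insert] at hz
  obtain ⟨β', z', hz', rfl⟩ := hz
  obtain ⟨γ, δ, rfl⟩ := Submodule.mem_span_pair.1 hz'
  have hβ0 : β' = 0 := by
    have h5 := e1.2
    rw [e3, polar_add_right, polar_add_right, polar_add_right, polar_smul_right, polar_smul_right,
      polar_smul_right, polar_smul_right, hbu, hbv, hba, polar_self2] at h5
    simpa using h5
  have pu' : polar Q a (α • u) = 0 := by rw [polar_smul_right, hau, smul_zero]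
  have pb' : polar Q a (δ • b) = 0 := by rw [polar_smul_right, h.ab.perp, smul_zero]
  refine ⟨w1 * j (tE Q a (α • u)), mul_mem hw1 (D.X_le α h.ua.symm), δ, ?_⟩
  rw [mul_assoc w1, D.rmul hqa pu' pb', ← inv_mul_eq_iff_eq_mul, hy]
  have : y0 = (α • u + δ • b) + γ • a := by rw [e3, hβ0]; module
  rw [this, tE_add_smul hqa (by rw [polar_add_right, pu', pb', add_zero])]

/-- (3c'): `[W_m, X_l] ≤ W_{l+m}` -/
theorem c1 [FiniteDimensional F V] (h : Rel Q u v a b) {w : G} (hw : w ∈ W a b) (c : F) :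
    w⁻¹ * (j (tE Q u (c • v)) * w * (j (tE Q u (c • v)))⁻¹) ∈ W a u := by
  have hqu := h.uv.qu
  have hqa := h.ab.qu
  have pv : ∀ c : F, polar Q u (c • v) = 0 := fun c => by rw [polar_smul_right, h.uv.perp, smul_zero]
  have pu : ∀ d : F, polar Q a (d • u) = 0 := fun d => by
    rw [polar_smul_right, polar_comm, h.ua.perp, smul_zero]
  have pb : ∀ d : F, polar Q a (d • b) = 0 := fun d => by rw [polar_smul_right, h.ab.perp, smul_zero]
  -- `k` commutes with `W a u`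
  have hk1 : ∀ c : F, ∀ {w1 : G}, w1 ∈ W a u → Commute (j (tE Q u (c • v))) w1 := by
    intro c w1 hw1
    exact D.cR h.ua (by rw [D.swap h.ua]; exact hw1) (pv c)
  have ka : ∀ c : F, T Q u (c • v) a = a := fun c =>
    T_id h.uv.qu (pv c) h.ua.perp (by rw [polar_smul_left, h.va, smul_zero])
  have kb : ∀ c : F, T Q u (c • v) b = b + c • u := fun c => by
    rw [T_perp2 h.uv.qu (pv c) h.ub, polar_smul_left, h.vb]; simp
  have kδ : ∀ c δ : F, j (tE Q u (c • v)) * j (tE Q a (δ • b)) * (j (tE Q u (c • v)))⁻¹ =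
      j (tE Q a (δ • b)) * j (tE Q a ((δ * c) • u)) := by
    intro c δ
    rw [D.rconj, coe_tE, ka, map_smul, kb, D.rmul hqa (pb _) (pu _), smul_add, smul_smul]
  by_cases h2 : ∀ c : F, c = 0 ∨ c = 1
  · obtain ⟨w1, hw1, δ, e⟩ := P1 D h hw c
    rcases h2 c with hc | hc
    · rw [hc, zero_smul, tE_zero_right, map_one, one_mul, inv_one, mul_one, inv_mul_cancel]
      exact one_mem _
    subst hc
    rcases h2 δ with hδ | hδ
    · rw [e, hδ, zero_smul, tE_zero_right, map_one, mul_one]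
      exact hw1
    · exfalso
      subst hδ
      generalize hk : j (tE Q u ((1 : F) • v)) = k at *
      have hkk : k * k = 1 := by
        rw [← hk, ← map_mul, tE_mul_self hqu (pv 1), map_one]
      have e1 : k * (w⁻¹ * (k * w * k⁻¹)) * k⁻¹ = (w⁻¹ * (k * w * k⁻¹))⁻¹ := by
        have : k * (w⁻¹ * (k * w * k⁻¹)) * k⁻¹ = k * w⁻¹ * k⁻¹ * ((k * k) * w * (k * k)⁻¹) := by group
        rw [this, hkk]; group
      rw [e] at e1
      have e2 : k * (w1 * j (tE Q a ((1 : F) • b))) * k⁻¹ =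
          (k * w1 * k⁻¹) * (k * j (tE Q a ((1 : F) • b)) * k⁻¹) := by group
      have hkw : k * w1 * k⁻¹ = w1 := by
        have := hk1 1 hw1
        rw [hk] at this
        rw [this.eq, mul_inv_cancel_right]
      have kδ' := kδ 1 1
      rw [hk] at kδ'
      rw [e2, hkw, kδ', mul_inv_rev, ← map_inv, tE_inv hqa (pb _), one_mul] at e1
      have hw11 := D.sq h2 h.ua.symm hw1
      have hcw : Commute (j (tE Q a ((1 : F) • b))) w1 := D.cR h.ua.symm hw1 (pb _)
      have hw1i : w1⁻¹ = w1 := inv_eq_of_mul_eq_one_left hw11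
      rw [hw1i, hcw.eq] at e1
      have e3 : j (tE Q a ((1 : F) • u)) = 1 := by
        have := mul_left_cancel (mul_left_cancel (e1.trans (by rw [mul_one])) :
          j (tE Q a ((1 : F) • b)) * j (tE Q a ((1 : F) • u)) = j (tE Q a ((1 : F) • b)) * 1)
        exact this
      have e4 : j (tE Q a 0) = j (tE Q a ((1 : F) • u)) := by rw [tE_zero_right, map_one, e3]
      obtain ⟨c', hc'⟩ := r_inj D.toDbl D.kf hqa h.ab.ne (polar_zero_right _ _) (pu 1) e4
      exact h.ua.symm.ind c' (by rw [one_smul, zero_add] at hc'; exact hc')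
  · push Not at h2
    obtain ⟨κ, hκ0, hκ1⟩ := h2
    have hκ' : 1 + κ ≠ 0 := by
      intro h
      exact hκ1 (by rw [← CharTwo.neg_eq (1 : F)]; exact (neg_eq_of_add_eq_zero_right h).symm)
    -- it suffices to treat `(1 + κ) c`
    obtain ⟨d, hd⟩ : ∃ d : F, c = (1 + κ) * d := ⟨(1 + κ)⁻¹ * c, by rw [← mul_assoc, mul_inv_cancel₀ hκ', one_mul]⟩
    obtain ⟨w1, hw1, δ, e⟩ := P1 D h hw d
    obtain ⟨u', hH, hv', ha', hb'⟩ := rel_u' D.kf h
    obtain ⟨h0, s1, -, s2⟩ := D.kf.scal hH hκ0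
    have hhv : (h0 : V ≃ₗ[F] V) v = v := s2 v h.uv.perp hv'
    have hha : (h0 : V ≃ₗ[F] V) a = a := s2 a h.ua.perp ha'
    have hhb : (h0 : V ≃ₗ[F] V) b = b := s2 b h.ub hb'
    have c0 : Commute (j h0) w := D.cent h.ab hw (by
      have := tE_conj h0 a b
      rw [hha, hhb] at this
      exact mul_inv_eq_iff_eq_mul.1 this)
    have c1 : j h0 * j (tE Q u (d • v)) * (j h0)⁻¹ = j (tE Q u ((κ * d) • v)) := by
      rw [D.rconj, s1, map_smul, hhv, tE_smul_left κ hqu (pv _), smul_smul]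
    have c2 : j h0 * j (tE Q a (δ • b)) * (j h0)⁻¹ = j (tE Q a (δ • b)) := by
      rw [D.rconj, hha, map_smul, hhb]
    have c3 : j h0 * w1 * (j h0)⁻¹ ∈ W a u := by
      have := D.conj h0 h.ua.symm hw1
      rw [hha, s1, D.smul h.ua.symm hκ0] at this
      exact this
    have e1 : w⁻¹ * (j (tE Q u ((κ * d) • v)) * w * (j (tE Q u ((κ * d) • v)))⁻¹) =
        (j h0 * w1 * (j h0)⁻¹) * j (tE Q a (δ • b)) := by
      have hcc : j h0 * w⁻¹ * (j h0)⁻¹ = w⁻¹ := by rw [c0.inv_right.eq, mul_inv_cancel_right]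
      have hcc2 : j h0 * w * (j h0)⁻¹ = w := by rw [c0.eq, mul_inv_cancel_right]
      calc w⁻¹ * (j (tE Q u ((κ * d) • v)) * w * (j (tE Q u ((κ * d) • v)))⁻¹)
          = (j h0 * w⁻¹ * (j h0)⁻¹) * ((j h0 * j (tE Q u (d • v)) * (j h0)⁻¹) * (j h0 * w * (j h0)⁻¹) *
            (j h0 * j (tE Q u (d • v)) * (j h0)⁻¹)⁻¹) := by rw [hcc, hcc2, c1]
        _ = j h0 * (w⁻¹ * (j (tE Q u (d • v)) * w * (j (tE Q u (d • v)))⁻¹)) * (j h0)⁻¹ := by group
        _ = j h0 * (w1 * j (tE Q a (δ • b))) * (j h0)⁻¹ := by rw [e]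
        _ = (j h0 * w1 * (j h0)⁻¹) * (j h0 * j (tE Q a (δ • b)) * (j h0)⁻¹) := by group
        _ = _ := by rw [c2]
    have ec : j (tE Q u (c • v)) = j (tE Q u (d • v)) * j (tE Q u ((κ * d) • v)) := by
      rw [D.rmul hqu (pv _) (pv _), ← add_smul, hd]
      congr 3
      ring
    generalize j h0 * w1 * (j h0)⁻¹ = w2 at *
    have hk3 := hk1 d c3
    have hkδ := kδ d δ
    rw [ec]
    generalize j (tE Q u (d • v)) = k at *
    generalize j (tE Q u ((κ * d) • v)) = k' at *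
    have e2 : w⁻¹ * (k * k' * w * (k * k')⁻¹) = (w1 * j (tE Q a (δ • b))) *
        (w2 * (j (tE Q a (δ • b)) * j (tE Q a ((δ * d) • u)))) := by
      have : w⁻¹ * (k * k' * w * (k * k')⁻¹) = (w⁻¹ * (k * w * k⁻¹)) * (k * (w⁻¹ * (k' * w * k'⁻¹)) * k⁻¹) := by
        group
      rw [this, e, e1]
      have h5 : k * (w2 * j (tE Q a (δ • b))) * k⁻¹ = (k * w2 * k⁻¹) * (k * j (tE Q a (δ • b)) * k⁻¹) := by group
      rw [h5, hkδ, hk3.eq, mul_inv_cancel_right]
    rw [e2]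
    have hcw : Commute (j (tE Q a (δ • b))) w2 := D.cR h.ua.symm c3 (pb _)
    have hbb : j (tE Q a (δ • b)) * j (tE Q a (δ • b)) = 1 := by
      rw [← map_mul, tE_mul_self hqa (pb _), map_one]
    have e3 : (w1 * j (tE Q a (δ • b))) * (w2 * (j (tE Q a (δ • b)) * j (tE Q a ((δ * d) • u)))) =
        w1 * w2 * j (tE Q a ((δ * d) • u)) := by
      calc (w1 * j (tE Q a (δ • b))) * (w2 * (j (tE Q a (δ • b)) * j (tE Q a ((δ * d) • u))))
          = w1 * (j (tE Q a (δ • b)) * w2) * (j (tE Q a (δ • b)) * j (tE Q a ((δ * d) • u))) := by group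
        _ = w1 * w2 * (j (tE Q a (δ • b)) * j (tE Q a (δ • b))) * j (tE Q a ((δ * d) • u)) := by
            rw [hcw.eq]; group
        _ = _ := by rw [hbb, mul_one]
    rw [e3]
    exact mul_mem (mul_mem hw1 c3) (D.X_le _ h.ua.symm)

end c1

end Cfsg.Agent.OddHalf.Orth.Lines

end

-- merged: Cfsg.Agent.OddHalf.Orth.LinesTwo
section

/-!
# ODD D7, `K = Ω(V)`: the relations of the doubled long root groups, second part
(`W_l` elementary abelian, `[W_l, W_m] ≤ W_{l+m}`)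
-/

set_option autoImplicit false

namespace Cfsg.Agent.OddHalf.Orth.Lines

open QuadraticMap Cfsg.Agent.LieClassical.OrthCore Cfsg.Agent.LieClassical.OrthTrans
  Cfsg.Agent.ClassicalGeometry.OrthAutBasic Cfsg.Agent.ClassicalGeometry.OrthAutRoot Cfsg.Agent.OddHalf.Orth
  Cfsg.Agent.OddHalf.Orth.Face Cfsg.Agent.OddHalf.Orth.Star

variable {F V : Type*} [Field F] [AddCommGroup V] [Module F V] {Q : QuadraticForm F V}
variable {G : Type*} [Group G] {t : G} {j : ↥(E Q) →* G} {W : V → V → Subgroup G}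

theorem exRel [CharP F 2] [FiniteDimensional F V] (hK : KFacts Q) {u a : V} (h : Ln Q u a) :
    ∃ v b, Face.Rel Q u v a b := by
  obtain ⟨v, hv⟩ := hK.exLn3 h
  obtain ⟨y, hy1, hy2⟩ := exists_sep_sub hK.nondeg hv.ind
  have y1 : polar Q u y = 0 := hy2 _ (left_mem_L _ _)
  have y2 : polar Q a y = 0 := hy2 _ (right_mem_L _ _)
  have hvb : polar Q v (y + Q y • v) = 1 := by
    rw [polar_add_right, hy1, polar_smul_right, polar_self2]; simp
  have hva : polar Q v a = 0 := by rw [polar_comm]; exact hv.perp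
  refine ⟨v, y + Q y • v, hv.uw, ⟨h.qw, ?_, ?_, h.ne', ?_⟩, h, ?_, hva, hvb⟩
  · rw [Q_add, QuadraticMap.map_smul, hv.uw.qw, polar_smul_right, polar_comm Q y v, hy1]
    simp only [smul_eq_mul, mul_zero, add_zero, mul_one]
    exact CharTwo.add_self_eq_zero _
  · rw [polar_add_right, y2, polar_smul_right, hv.perp]; simp
  · intro c hc
    rw [hc, polar_smul_right, hva, smul_zero] at hvb
    exact zero_ne_one hvb
  · rw [polar_add_right, y1, polar_smul_right, hv.uw.perp]; simp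

theorem ph_eq {f : G} (_ht : t * t = 1) : t * f * t = f * ph t f := by rw [ph_def]; group

theorem conj_t {f : G} (ht : t * t = 1) : f⁻¹ * t * f = ph t f * t := by
  rw [ph_def]
  calc f⁻¹ * t * f = f⁻¹ * t * f * 1 := by rw [mul_one]
    _ = f⁻¹ * t * f * (t * t) := by rw [ht]
    _ = _ := by group

theorem comm_central {f g n1 n2 : G} (h1 : Commute n1 f) (h2 : Commute n1 g) (h3 : Commute n2 f)
    (h4 : Commute n2 g) (h5 : Commute n1 n2) :
    (f * n1)⁻¹ * (g * n2)⁻¹ * (f * n1) * (g * n2) = f⁻¹ * g⁻¹ * f * g := by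
  have e1 : Commute n1 (f⁻¹ * g⁻¹ * f * g) :=
    ((h1.inv_right.mul_right h2.inv_right).mul_right h1).mul_right h2
  have e2 : Commute n2 (g⁻¹ * f * g * n1) :=
    (((h4.inv_right).mul_right h3).mul_right h4).mul_right h5.symm
  calc (f * n1)⁻¹ * (g * n2)⁻¹ * (f * n1) * (g * n2)
      = n1⁻¹ * f⁻¹ * n2⁻¹ * g⁻¹ * f * (n1 * g) * n2 := by group
    _ = n1⁻¹ * f⁻¹ * n2⁻¹ * ((g⁻¹ * f * g * n1) * n2) := by rw [h2.eq]; group
    _ = n1⁻¹ * f⁻¹ * n2⁻¹ * (n2 * (g⁻¹ * f * g * n1)) := by rw [e2.eq]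
    _ = n1⁻¹ * ((f⁻¹ * g⁻¹ * f * g) * n1) := by group
    _ = n1⁻¹ * (n1 * (f⁻¹ * g⁻¹ * f * g)) := by rw [e1.eq]
    _ = _ := by group

variable (D : Full Q t j W)
include D

section

variable [CharP F 2] [FiniteDimensional F V] {u v a b : V}

/-- the commutator `[w, x]` is an involution -/
theorem sq_c1 (h : Rel Q u v a b) {w : G} (hw : w ∈ W a b) (c : F) {β : F}
    (hβ : ph t w = j (tE Q a (β • b))) :
    w⁻¹ * (j (tE Q u (c • v)) * w * (j (tE Q u (c • v)))⁻¹) *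
      (w⁻¹ * (j (tE Q u (c • v)) * w * (j (tE Q u (c • v)))⁻¹)) = 1 := by
  have hqu := h.uv.qu
  have hqa := h.ab.qu
  have pv : polar Q u (c • v) = 0 := by rw [polar_smul_right, h.uv.perp, smul_zero]
  have pu : ∀ d : F, polar Q a (d • u) = 0 := fun d => by
    rw [polar_smul_right, polar_comm, h.ua.perp, smul_zero]
  have pb : ∀ d : F, polar Q a (d • b) = 0 := fun d => by rw [polar_smul_right, h.ab.perp, smul_zero]
  have hm := c1 D h hw c
  have hph := (ph_c1 D h hw c hβ).2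
  have ka : T Q u (c • v) a = a := T_id h.uv.qu pv h.ua.perp (by rw [polar_smul_left, h.va, smul_zero])
  have kb : T Q u (c • v) b = b + c • u := by
    rw [T_perp2 h.uv.qu pv h.ub, polar_smul_left, h.vb]; simp
  have kP : j (tE Q u (c • v)) * j (tE Q a (β • b)) * (j (tE Q u (c • v)))⁻¹ =
      j (tE Q a (β • b)) * j (tE Q a ((β * c) • u)) := by
    rw [D.rconj, coe_tE, ka, map_smul, kb, D.rmul hqa (pb _) (pu _), smul_add, smul_smul]
  have hkk : j (tE Q u (c • v)) * j (tE Q u (c • v)) = 1 := by rw [← map_mul, tE_mul_self hqu pv, map_one]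
  have hkt := D.tj (tE Q u (c • v))
  have hPt := D.tj (tE Q a (β • b))
  have hφt := D.tj (tE Q a ((β * c) • u))
  have hφφ : j (tE Q a ((β * c) • u)) * j (tE Q a ((β * c) • u)) = 1 := by
    rw [← map_mul, tE_mul_self hqa (pu _), map_one]
  have hPP : j (tE Q a (β • b)) * j (tE Q a (β • b)) = 1 := by
    rw [← map_mul, tE_mul_self hqa (pb _), map_one]
  have hPφ : Commute (j (tE Q a (β • b))) (j (tE Q a ((β * c) • u))) := by
    show _ * _ = _ * _
    rw [← map_mul, ← map_mul, tE_comm hqa (pb _) (pu _)]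
  have hkD : Commute (j (tE Q u (c • v))) (w⁻¹ * (j (tE Q u (c • v)) * w * (j (tE Q u (c • v)))⁻¹)) :=
    D.cR h.ua (by rw [D.swap h.ua]; exact hm) pv
  have hkφ : Commute (j (tE Q u (c • v))) (j (tE Q a ((β * c) • u))) :=
    D.cR h.ua (by rw [D.swap h.ua]; exact D.X_le _ h.ua.symm) pv
  have hPD : Commute (j (tE Q a (β • b))) (w⁻¹ * (j (tE Q u (c • v)) * w * (j (tE Q u (c • v)))⁻¹)) :=
    D.cR h.ua.symm hm (pb _)
  have hwt : w⁻¹ * t * w = ph t w * t := conj_t D.tt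
  rw [hβ] at hwt
  have hDt : t * (w⁻¹ * (j (tE Q u (c • v)) * w * (j (tE Q u (c • v)))⁻¹)) * t =
      (w⁻¹ * (j (tE Q u (c • v)) * w * (j (tE Q u (c • v)))⁻¹)) * ph t
        (w⁻¹ * (j (tE Q u (c • v)) * w * (j (tE Q u (c • v)))⁻¹)) := ph_eq D.tt
  rw [hph] at hDt
  have hDk : w⁻¹ * j (tE Q u (c • v)) * w =
      (w⁻¹ * (j (tE Q u (c • v)) * w * (j (tE Q u (c • v)))⁻¹)) * j (tE Q u (c • v)) := by group
  generalize w⁻¹ * (j (tE Q u (c • v)) * w * (j (tE Q u (c • v)))⁻¹) = d at *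
  generalize j (tE Q u (c • v)) = k at *
  generalize j (tE Q a (β • b)) = P at *
  generalize j (tE Q a ((β * c) • u)) = φ at *
  have tt := D.tt
  have e1 : (P * t * d * k) * (P * t * d * k) = 1 := by
    have h1 : w⁻¹ * (t * k) * w = P * t * d * k := by
      calc w⁻¹ * (t * k) * w = (w⁻¹ * t * w) * (w⁻¹ * k * w) := by group
        _ = _ := by rw [hwt, hDk]; group
    rw [← h1]
    calc w⁻¹ * (t * k) * w * (w⁻¹ * (t * k) * w) = w⁻¹ * (t * (k * t) * k) * w := by group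
      _ = w⁻¹ * ((t * t) * (k * k)) * w := by rw [← hkt]; group
      _ = 1 := by rw [tt, hkk]; group
  have ki : k⁻¹ = k := inv_eq_of_mul_eq_one_left hkk
  rw [ki] at kP
  calc d * d = d * ((P * P) * (φ * φ)) * d := by rw [hPP, hφφ]; group
    _ = d * (P * (φ * P) * φ) * d := by rw [← hPφ.eq]; group
    _ = d * P * φ * (P * φ) * d := by group
    _ = d * P * φ * (k * P * k) * d := by rw [kP]
    _ = (P * d) * φ * k * P * (k * d) := by rw [hPD.eq]; group
    _ = (P * d) * φ * k * P * (d * k) := by rw [hkD.eq]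
    _ = (P * (d * φ)) * k * P * d * k := by group
    _ = (P * (t * d * t)) * k * P * d * k := by rw [hDt]
    _ = P * t * d * (t * k) * P * d * k := by group
    _ = P * t * d * k * (t * P) * d * k := by rw [hkt]; group
    _ = P * t * d * k * (P * t * d * k) := by rw [hPt]; group
    _ = 1 := e1

/-- the doubled root groups are elementary abelian -/
theorem sqW (h : Ln Q u a) {g : G} (hg : g ∈ W u a) : g * g = 1 := by
  obtain ⟨v, b, hR⟩ := exRel D.kf h
  rw [D.swap h] at hg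
  obtain ⟨e, he⟩ := ph_W D.toDbl h.symm hg
  obtain ⟨w, hw, hw1⟩ := surj_W D.toDbl hR.ab 1
  have h1 := c1 D hR hw e
  have h2 := (ph_c1 D hR hw e hw1).2
  have h3 := sq_c1 D hR hw e hw1
  generalize w⁻¹ * (j (tE Q u (e • v)) * w * (j (tE Q u (e • v)))⁻¹) = d at *
  rw [one_mul] at h2
  obtain ⟨r, hr, rfl⟩ := W_same D.toDbl D.kf h.symm h1 hg (by rw [h2, he])
  have h4 : Commute r d := Vs_comm D.toDbl h.qw (mem_Vs h.symm h1) hr
  calc d * r * (d * r) = d * (r * d) * r := by group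
    _ = (d * d) * (r * r) := by rw [h4.eq]; group
    _ = 1 := by rw [h3, Ru_sq h.qw hr, one_mul]

theorem sqVs {f : G} (hf : f ∈ Vs Q W u) : f * f = 1 := by
  have hf' := hf
  rw [Vs] at hf
  induction hf using Subgroup.closure_induction with
  | mem w hw =>
    obtain ⟨v, hv, hw⟩ := hw
    exact sqW D hv hw
  | one => rw [mul_one]
  | mul a b ha hb iha ihb =>
    have h1 := iha ha
    have h2 := ihb hb
    have h3 := D.ab ha hb
    calc a * b * (a * b) = a * (b * a) * b := by group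
      _ = (a * a) * (b * b) := by rw [← h3.eq]; group
      _ = 1 := by rw [h1, h2, one_mul]
  | inv a ha iha =>
    have h1 := iha ha
    rw [← mul_inv_rev, h1, inv_one]

omit [FiniteDimensional F V] [CharP F 2] in
/-- reading off the action on `V` -/
theorem act_eq {g : G} {M : V ≃+ V} (hM : ∀ u x, Q u = 0 → polar Q u x = 0 →
    g * j (tE Q u x) * g⁻¹ = j (tE Q (M u) (M x))) {x y : V} (hx : Q x = 0) (hy : polar Q x y = 0)
    (hc : Commute (j (tE Q x y)) g) : tE Q (M x) (M y) = tE Q x y := by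
  apply D.inj
  rw [← hM x y hx hy, ← hc.eq, mul_inv_cancel_right]

/-- (3c), first half -/
theorem c2_aux (h : Rel Q u v a b) {f g : G} (hf : f ∈ W a b) (hg : g ∈ W u v) :
    ∃ w ∈ W a u, f⁻¹ * g⁻¹ * f * g = w ∨ f⁻¹ * g⁻¹ * f * g = t * w := by
  have hqu := h.uv.qu
  have hqa := h.ab.qu
  have tt := D.tt
  have cf : ∀ {n : G}, n ∈ W a u → Commute n f := fun hn => D.ab (mem_Vs h.ua.symm hn) (mem_Vs h.ab hf)
  have cg : ∀ {n : G}, n ∈ W a u → Commute n g := fun hn =>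
    D.ab (mem_Vs h.ua (D.swapW h.ua.symm hn)) (mem_Vs h.uv hg)
  have cn : ∀ {n n' : G}, n ∈ W a u → n' ∈ W a u → Commute n n' := fun hn hn' => D.com h.ua.symm hn hn'
  -- conjugates under `X_l`, `X_m`
  have kl : ∀ c : F, ∀ {f' : G}, f' ∈ W a b → ∃ n ∈ W a u, j (tE Q u (c • v)) * f' * (j (tE Q u (c • v)))⁻¹ = f' * n :=
    fun c f' hf' => ⟨_, c1 D h hf' c, by group⟩
  have km : ∀ c : F, ∀ {g' : G}, g' ∈ W u v → ∃ n ∈ W a u, j (tE Q a (c • b)) * g' * (j (tE Q a (c • b)))⁻¹ = g' * n :=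
    fun c g' hg' => ⟨_, D.swapW h.ua (c1 D (rel_symm h) hg' c), by group⟩
  have pv : ∀ c : F, polar Q u (c • v) = 0 := fun c => by rw [polar_smul_right, h.uv.perp, smul_zero]
  have pb : ∀ d : F, polar Q a (d • b) = 0 := fun d => by rw [polar_smul_right, h.ab.perp, smul_zero]
  have klg : ∀ c : F, Commute (j (tE Q u (c • v))) g := fun c => D.cR h.uv hg (pv c)
  have kmf : ∀ c : F, Commute (j (tE Q a (c • b))) f := fun c => D.cR h.ab hf (pb c)
  have cl : ∀ c : F, Commute (j (tE Q u (c • v))) (f⁻¹ * g⁻¹ * f * g) := by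
    intro c
    obtain ⟨n, hn, e⟩ := kl c hf
    have e2 : j (tE Q u (c • v)) * g * (j (tE Q u (c • v)))⁻¹ = g * 1 := by
      rw [(klg c).eq, mul_inv_cancel_right, mul_one]
    have e3 := comm_central (cf hn) (cg hn) (Commute.one_left f) (Commute.one_left g) (Commute.one_right n)
    rw [← e, ← e2] at e3
    have e4 : j (tE Q u (c • v)) * (f⁻¹ * g⁻¹ * f * g) * (j (tE Q u (c • v)))⁻¹ = f⁻¹ * g⁻¹ * f * g := by
      conv_rhs => rw [← e3]
      group
    exact mul_inv_eq_iff_eq_mul.1 e4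
  have cm : ∀ c : F, Commute (j (tE Q a (c • b))) (f⁻¹ * g⁻¹ * f * g) := by
    intro c
    obtain ⟨n, hn, e⟩ := km c hg
    have e2 : j (tE Q a (c • b)) * f * (j (tE Q a (c • b)))⁻¹ = f * 1 := by
      rw [(kmf c).eq, mul_inv_cancel_right, mul_one]
    have e3 := comm_central (Commute.one_left f) (Commute.one_left g) (cf hn) (cg hn) (Commute.one_left n)
    rw [← e, ← e2] at e3
    have e4 : j (tE Q a (c • b)) * (f⁻¹ * g⁻¹ * f * g) * (j (tE Q a (c • b)))⁻¹ = f⁻¹ * g⁻¹ * f * g := by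
      conv_rhs => rw [← e3]
      group
    exact mul_inv_eq_iff_eq_mul.1 e4
  have ccn : ∀ {n : G}, n ∈ W a u → Commute n (f⁻¹ * g⁻¹ * f * g) := fun hn =>
    (((cf hn).inv_right.mul_right (cg hn).inv_right).mul_right (cf hn)).mul_right (cg hn)
  -- `ph c ∈ W a u`
  have hphc : ph t (f⁻¹ * g⁻¹ * f * g) ∈ W a u := by
    obtain ⟨β, hβ⟩ := ph_W D.toDbl h.ab hf
    obtain ⟨γ, hγ⟩ := ph_W D.toDbl h.uv hg
    obtain ⟨n1, hn1, e1⟩ := km β hg
    obtain ⟨n2, hn2, e2⟩ := kl γ hf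
    obtain ⟨n3, hn3, e3⟩ := kl γ (D.X_le β h.ab)
    have tf : t * f * t = f * ph t f := ph_eq tt
    have tg : t * g * t = g * ph t g := ph_eq tt
    rw [hβ] at tf
    rw [hγ] at tg
    have cc := ccn hn1
    have cc1 := cl γ
    have cc2 := cm β
    have q1 : Commute (j (tE Q u (γ • v))) n1 := D.cR h.ua (D.swapW h.ua.symm hn1) (pv γ)
    have q2 : Commute (j (tE Q u (γ • v))) n2 := D.cR h.ua (D.swapW h.ua.symm hn2) (pv γ)
    have q3 : Commute (j (tE Q u (γ • v))) n3 := D.cR h.ua (D.swapW h.ua.symm hn3) (pv γ)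
    have q4 : Commute (j (tE Q a (β • b))) n1 := D.cR h.ua.symm hn1 (pb β)
    have q5 : Commute (j (tE Q a (β • b))) n2 := D.cR h.ua.symm hn2 (pb β)
    have cc3 := ccn hn2
    have cc4 := ccn hn3
    have hmem : n2⁻¹ * n1 * n3⁻¹ ∈ W a u := mul_mem (mul_mem (inv_mem hn2) hn1) (inv_mem hn3)
    have ecomm := ccn hmem
    have q6 : Commute n3⁻¹ n1 := (cn hn1 hn3).symm.inv_left
    generalize hP : j (tE Q a (β • b)) = P at *
    generalize hR : j (tE Q u (γ • v)) = R at *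
    have e1' : P * g = g * n1 * P := mul_inv_eq_iff_eq_mul.1 e1
    have e2' : f⁻¹ * R⁻¹ = R⁻¹ * n2⁻¹ * f⁻¹ := by
      have : R * f = f * n2 * R := mul_inv_eq_iff_eq_mul.1 e2
      rw [← mul_inv_rev, this]; group
    have e3' : P⁻¹ * R⁻¹ = R⁻¹ * n3⁻¹ * P⁻¹ := by
      have : R * P = P * n3 * R := mul_inv_eq_iff_eq_mul.1 e3
      rw [← mul_inv_rev, this]; group
    have tct : t * (f⁻¹ * g⁻¹ * f * g) * t = (f⁻¹ * g⁻¹ * f * g) * (n2⁻¹ * n1 * n3⁻¹) := by
      have s1 : t * (f⁻¹ * g⁻¹ * f * g) * t = (f * P)⁻¹ * (g * R)⁻¹ * (f * P) * (g * R) := by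
        rw [← tf, ← tg, mul_inv_rev, mul_inv_rev, mul_inv_rev, mul_inv_rev, D.t_inv]
        calc t * (f⁻¹ * g⁻¹ * f * g) * t = t * f⁻¹ * 1 * g⁻¹ * 1 * f * 1 * g * t := by group
          _ = t * f⁻¹ * (t * t) * g⁻¹ * (t * t) * f * (t * t) * g * t := by rw [tt]
          _ = _ := by group
      rw [s1]
      calc (f * P)⁻¹ * (g * R)⁻¹ * (f * P) * (g * R)
          = P⁻¹ * (f⁻¹ * R⁻¹) * g⁻¹ * f * (P * g) * R := by group
        _ = P⁻¹ * (R⁻¹ * n2⁻¹) * (f⁻¹ * g⁻¹ * f * g) * (n1 * P) * R := by rw [e2', e1']; group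
        _ = P⁻¹ * (n2⁻¹ * R⁻¹) * (f⁻¹ * g⁻¹ * f * g) * (P * n1) * R := by
            rw [(q2.inv_inv).eq, q4.eq]
        _ = (P⁻¹ * n2⁻¹) * (R⁻¹ * ((f⁻¹ * g⁻¹ * f * g) * P)) * (n1 * R) := by group
        _ = (n2⁻¹ * P⁻¹) * (R⁻¹ * (P * (f⁻¹ * g⁻¹ * f * g))) * (R * n1) := by
            rw [(q5.inv_inv).eq, cc2.eq, q1.eq]
        _ = n2⁻¹ * (P⁻¹ * R⁻¹) * P * ((f⁻¹ * g⁻¹ * f * g) * R) * n1 := by group
        _ = n2⁻¹ * (R⁻¹ * n3⁻¹) * (R * (f⁻¹ * g⁻¹ * f * g)) * n1 := by rw [e3', cc1.eq]; group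
        _ = n2⁻¹ * (n3⁻¹ * R⁻¹) * (R * (f⁻¹ * g⁻¹ * f * g)) * n1 := by rw [(q3.inv_inv).eq]
        _ = n2⁻¹ * n3⁻¹ * ((f⁻¹ * g⁻¹ * f * g) * n1) := by group
        _ = n2⁻¹ * (n3⁻¹ * n1) * (f⁻¹ * g⁻¹ * f * g) := by rw [← cc.eq]; group
        _ = (n2⁻¹ * n1 * n3⁻¹) * (f⁻¹ * g⁻¹ * f * g) := by rw [q6.eq]; group
        _ = _ := ecomm.eq
    rw [ph_def, tct, inv_mul_cancel_left]
    exact hmem
  -- remove the `φ`-part
  generalize hc : f⁻¹ * g⁻¹ * f * g = c at *
  have hn0 : ph t (ph t c) = 1 := by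
    have s1 : t * c * t = c * ph t c := ph_eq tt
    have s2 : c = c * ph t c * (t * ph t c * t) := by
      calc c = (t * t) * c * (t * t) := by rw [tt]; group
        _ = t * (t * c * t) * t := by group
        _ = t * c * 1 * ph t c * t := by rw [s1]; group
        _ = t * c * (t * t) * ph t c * t := by rw [tt]
        _ = (t * c * t) * (t * ph t c * t) := by group
        _ = _ := by rw [s1]
    have s3 : ph t c * (t * ph t c * t) = 1 := by
      have : c * (ph t c * (t * ph t c * t)) = c * 1 := by rw [← mul_assoc, ← s2, mul_one]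
      exact mul_left_cancel this
    have s4 := sqW D h.ua.symm hphc
    have s5 : t * ph t c * t = ph t c := mul_left_cancel (s3.trans s4.symm)
    rw [ph_def, s5, inv_mul_cancel]
  obtain ⟨e, he⟩ := D.fixW h.ua.symm hphc hn0
  obtain ⟨w1, hw1, hφ1⟩ := surj_W D.toDbl h.ua.symm e
  have hw1i := inv_mem hw1
  have hp1 : ph t (c * w1⁻¹) = 1 := by
    rw [ph_mul_of tt (cn hphc hw1i).eq, ph_inv_of tt, hφ1, he, mul_inv_cancel]
    rw [hφ1, ← he]
    exact (cn hphc hw1).eq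
  have hpt := (ph_eq_one tt).1 hp1
  obtain ⟨M, σ, hM, hact⟩ := D.act _ hpt
  -- the list
  have cw : ∀ {x y : V}, T Q x y a = a → T Q x y u = u → Commute (j (tE Q x y)) w1⁻¹ := fun h1 h2 =>
    (D.cfix h.ua.symm hw1 h1 h2).inv_right
  have hua := h.ua.perp
  have hau := h.ua.perp'
  have hbu : polar Q b u = 0 := by rw [polar_comm]; exact h.ub
  have hav : polar Q a v = 0 := by rw [polar_comm]; exact h.va
  have hba := h.ab.perp'
  have huu := polar_self2 (Q := Q) u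
  have haa := polar_self2 (Q := Q) a
  have list : ∀ {x y : V}, T Q x y a = a → T Q x y u = u → Commute (j (tE Q x y)) f → Commute (j (tE Q x y)) g →
      Commute (j (tE Q x y)) (c * w1⁻¹) := by
    intro x y h1 h2 h3 h4
    refine Commute.mul_right ?_ (cw h1 h2)
    rw [← hc]
    exact ((h3.inv_right.mul_right h4.inv_right).mul_right h3).mul_right h4
  obtain ⟨d, hd⟩ := D.kf.cent3 hM h
    (act_eq D hact hqu h.uv.perp ((by simpa using cl 1 : Commute (j (tE Q u v)) c).mul_right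
      (cw (T_id hqu h.uv.perp hua h.va) (T_id hqu h.uv.perp huu h.uv.perp'))))
    (act_eq D hact hqa h.ab.perp ((by simpa using cm 1 : Commute (j (tE Q a b)) c).mul_right
      (cw (T_id hqa h.ab.perp haa hba) (T_id hqa h.ab.perp hau hbu))))
    (act_eq D hact hqu h.ub (list (T_id hqu h.ub hua hba) (T_id hqu h.ub huu hbu)
      (D.cfix h.ab hf (T_id hqu h.ub hua hba) (T_id hqu h.ub h.ub (polar_self2 b)))
      (D.cR h.uv hg h.ub)))
    (act_eq D hact hqa hav (list (T_id hqa hav haa h.va) (T_id hqa hav hau h.uv.perp')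
      (D.cR h.ab hf hav)
      (D.cfix h.uv hg (T_id hqa hav hau h.uv.perp') (T_id hqa hav hav (polar_self2 v)))))
    (by
      intro x hux hvx hax hbx
      have hxu : polar Q x u = 0 := by rw [polar_comm]; exact hux
      have hxv : polar Q x v = 0 := by rw [polar_comm]; exact hvx
      have hxa : polar Q x a = 0 := by rw [polar_comm]; exact hax
      have hxb : polar Q x b = 0 := by rw [polar_comm]; exact hbx
      exact ⟨act_eq D hact hqu hux (list (T_id hqu hux hua hxa) (T_id hqu hux huu hxu)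
        (D.cfix h.ab hf (T_id hqu hux hua hxa) (T_id hqu hux h.ub hxb)) (D.cR h.uv hg hux)),
        act_eq D hact hqa hax (list (T_id hqa hax haa hxa) (T_id hqa hax hau hxu)
        (D.cR h.ab hf hax) (D.cfix h.uv hg (T_id hqa hax hau hxu) (T_id hqa hax hav hxv)))⟩)
  have hpa : polar Q u (d • a) = 0 := by rw [polar_smul_right, hua, smul_zero]
  have hX : j (tE Q u (d • a)) ∈ W a u := D.swapW h.ua (D.X_le d h.ua)
  rcases D.of_act hpt hact (k := tE Q u (d • a)) hd with hh | hh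
  · exact ⟨_, mul_mem hX hw1, Or.inl (by rw [← hh]; group)⟩
  · exact ⟨_, mul_mem hX hw1, Or.inr (by rw [← mul_assoc, ← hh]; group)⟩

/-- (3c): `[W_m, W_l] ≤ W_{l+m}` -/
theorem c2 (h : Rel Q u v a b) {f g : G} (hf : f ∈ W a b) (hg : g ∈ W u v) :
    f⁻¹ * g⁻¹ * f * g ∈ W a u := by
  obtain ⟨w, hw, e | e⟩ := c2_aux D h hf hg
  · rw [e]; exact hw
  exfalso
  have tt := D.tt
  obtain ⟨f1, hf1, hφ⟩ := surj_W D.toDbl h.ab 1
  rw [one_smul] at hφ
  have cn : ∀ {n : G}, n ∈ W a u → t * n * t ∈ W a u := by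
    intro n hn
    obtain ⟨c, hc⟩ := ph_W D.toDbl h.ua.symm hn
    rw [ph_eq tt, hc]
    exact mul_mem hn (D.X_le c h.ua.symm)
  -- the group `⟨t⟩ W a u`
  have key : ∀ {x : G}, (x ∈ W a u ∨ t * x ∈ W a u) → ∀ {y : G}, (y ∈ W a u ∨ t * y ∈ W a u) →
      (x * y ∈ W a u ∨ t * (x * y) ∈ W a u) := by
    intro x hx y hy
    rcases hx with hx | hx <;> rcases hy with hy | hy
    · exact Or.inl (mul_mem hx hy)
    · right
      have : t * (x * y) = (t * x * t) * (t * y) := by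
        calc t * (x * y) = t * x * 1 * y := by group
          _ = t * x * (t * t) * y := by rw [tt]
          _ = _ := by group
      rw [this]; exact mul_mem (cn hx) hy
    · right
      rw [← mul_assoc]; exact mul_mem hx hy
    · left
      have : x * y = (t * (t * x) * t) * (t * y) := by
        calc x * y = (t * t) * x * (t * t) * y := by rw [tt]; group
          _ = _ := by group
      rw [this]; exact mul_mem (cn hx) hy
  have keyi : ∀ {x : G}, (x ∈ W a u ∨ t * x ∈ W a u) → (x⁻¹ ∈ W a u ∨ t * x⁻¹ ∈ W a u) := by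
    intro x hx
    rcases hx with hx | hx
    · exact Or.inl (inv_mem hx)
    · right
      have : t * x⁻¹ = t * (t * x)⁻¹ * t := by rw [mul_inv_rev, D.t_inv]; calc
        t * x⁻¹ = t * x⁻¹ * 1 := by group
        _ = t * x⁻¹ * (t * t) := by rw [tt]
        _ = _ := by group
      rw [this]; exact cn (inv_mem hx)
  have tmem : (t ∈ W a u ∨ t * t ∈ W a u) := Or.inr (by rw [tt]; exact one_mem _)
  have hin : ∀ {f' : G}, f' ∈ W a b → (f'⁻¹ * g⁻¹ * f' * g ∈ W a u ∨ t * (f'⁻¹ * g⁻¹ * f' * g) ∈ W a u) := by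
    intro f' hf'
    obtain ⟨w', hw', e' | e'⟩ := c2_aux D h hf' hg
    · rw [e']; exact Or.inl hw'
    · right
      rw [e', ← mul_assoc, tt, one_mul]; exact hw'
  have h1 := hin hf1
  have h2 := hin (mul_mem hf hf1)
  have e1 : (f * f1)⁻¹ * g⁻¹ * (f * f1) * g = f1⁻¹ * (f⁻¹ * g⁻¹ * f * g) * f1 * (f1⁻¹ * g⁻¹ * f1 * g) := by
    group
  have cwf : Commute w f1 := D.ab (mem_Vs h.ua.symm hw) (mem_Vs h.ab hf1)
  have e2 : f1⁻¹ * (t * w) * f1 = j (tE Q a b) * (t * w) := by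
    calc f1⁻¹ * (t * w) * f1 = f1⁻¹ * t * (w * f1) := by group
      _ = (f1⁻¹ * t * f1) * w := by rw [cwf.eq]; group
      _ = _ := by rw [conj_t tt, hφ]; group
  rw [e1, e, e2] at h2
  have h3 : (j (tE Q a b) ∈ W a u ∨ t * j (tE Q a b) ∈ W a u) := by
    have : j (tE Q a b) = (j (tE Q a b) * (t * w) * (f1⁻¹ * g⁻¹ * f1 * g)) * (f1⁻¹ * g⁻¹ * f1 * g)⁻¹ *
        (w⁻¹ * t⁻¹) := by group
    rw [this]
    refine key (key h2 (keyi h1)) (key (Or.inl (inv_mem hw)) ?_)
    rw [D.t_inv]; exact tmem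
  have hjt := D.tj (tE Q a b)
  have pab := h.ab.perp
  rcases h3 with h3 | h3
  · obtain ⟨d, hd⟩ := D.fixW h.ua.symm h3 ((ph_eq_one tt).2 hjt.symm)
    obtain ⟨c', hc'⟩ := r_inj D.toDbl D.kf h.ab.qu h.ab.ne pab
      (by rw [polar_smul_right, h.ua.perp', smul_zero]) hd
    have h5 : polar Q v (d • u) = polar Q v (b + c' • a) := by rw [hc']
    rw [polar_smul_right, h.uv.perp', polar_add_right, h.vb, polar_smul_right, h.va] at h5
    simp at h5
  · obtain ⟨d, hd⟩ := D.fixW h.ua.symm h3 ((ph_eq_one tt).2 (by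
      rw [mul_assoc, ← hjt]))
    apply D.tK (tE Q a (d • u) * (tE Q a b)⁻¹)
    rw [map_mul, ← hd, map_inv, mul_inv_cancel_right]

end

end Cfsg.Agent.OddHalf.Orth.Lines

end
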