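import Mathlib
import Cfsg.Agent.OddHalf.Orth.LinesTwo
import Cfsg.Agent.OddHalf.Orth.Delta
import Cfsg.Agent.OddHalf.Orth.KFace

-- merged: Cfsg.Agent.OddHalf.D7Out.ConstO
section

/-!
# ODD D7, outer 2-part, `K = Ω^-_{2n}(q)`: the constant of a reflection-type element (helper991; text: helper490 #11669)

`Wl`, `Wm`, `Wd` doubled root groups with `[Wm, Wl] ≤ Wd`, `g ∈ C_G(t)` centralises the root groups: `g` or `t g`
centralises `Wd`, `Wl`, `Wm`.
-/

set_option autoImplicit false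

namespace Cfsg.Agent.OddHalf.D7Out.ConstO

variable {G F : Type*} [Group G] [Field F]

/-- Three doubled root groups `Wl`, `Wm`, `Wd`, `[Wm, Wl] ≤ Wd`, and `g` trivial on the root groups. -/
structure Tri (t g : G) (Wl Wm Wd : Subgroup G) (xl xm xd : F → G) : Prop where
  tt : t * t = 1
  /-- the root groups -/
  xlm : ∀ a, xl a ∈ Wl
  xmm : ∀ a, xm a ∈ Wm
  xdm : ∀ a, xd a ∈ Wd
  xla : ∀ a b, xl (a + b) = xl a * xl b
  xma : ∀ a b, xm (a + b) = xm a * xm b
  xda : ∀ a b, xd (a + b) = xd a * xd b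
  xdi : ∀ a b, xd a = xd b → a = b
  /-- `Wd` commutes with everything -/
  dd : ∀ z ∈ Wd, ∀ y ∈ Wd, z * y = y * z
  dl : ∀ z ∈ Wd, ∀ y ∈ Wl, z * y = y * z
  dm : ∀ z ∈ Wd, ∀ y ∈ Wm, z * y = y * z
  /-- commutators -/
  br : ∀ f ∈ Wm, ∀ w ∈ Wl, f⁻¹ * w⁻¹ * f * w ∈ Wd
  brx : ∀ a b, (xm a)⁻¹ * (xl b)⁻¹ * xm a * xl b = xd (a * b)
  /-- `w ↦ [w, t]` -/
  phl : ∀ w ∈ Wl, ∃ a, t * w * t = w * xl a
  phm : ∀ w ∈ Wm, ∃ a, t * w * t = w * xm a
  phd : ∀ w ∈ Wd, ∃ a, t * w * t = w * xd a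
  surl : ∃ w ∈ Wl, t * w * t = w * xl 1
  surm : ∃ w ∈ Wm, t * w * t = w * xm 1
  /-- fixed points -/
  fixd : ∀ w ∈ Wd, t * w * t = w → ∃ a, w = xd a
  gl : ∀ w ∈ Wl, ∃ a, g * w * g⁻¹ = w * xl a
  gm : ∀ w ∈ Wm, ∃ a, g * w * g⁻¹ = w * xm a
  txl : ∀ a, t * xl a * t = xl a
  txm : ∀ a, t * xm a * t = xm a
  txd : ∀ a, t * xd a * t = xd a
  gxl : ∀ a, g * xl a * g⁻¹ = xl a
  gxm : ∀ a, g * xm a * g⁻¹ = xm a
  gxd : ∀ a, g * xd a * g⁻¹ = xd a
  /-- torus elements -/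
  tor : ∀ k : F, k ≠ 0 → ∃ h h' : G, (∀ a, h * xl a * h⁻¹ = xl (k * a)) ∧ (∀ y ∈ Wm, h * y * h⁻¹ = y) ∧
    (∀ a, h * xd a * h⁻¹ = xd (k * a)) ∧ (∀ a, h' * xm a * h'⁻¹ = xm (k * a)) ∧ (∀ y ∈ Wl, h' * y * h'⁻¹ = y) ∧
    ∀ z ∈ Wd, h * z * h⁻¹ = h' * z * h'⁻¹

namespace Tri

variable {t g : G} {Wl Wm Wd : Subgroup G} {xl xm xd : F → G}

/-- the commutator used -/
def cm (f w : G) : G := f⁻¹ * w⁻¹ * f * w

theorem conj_cm (k f w : G) : k * cm f w * k⁻¹ = cm (k * f * k⁻¹) (k * w * k⁻¹) := by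
  unfold cm; group

variable (T : Tri t g Wl Wm Wd xl xm xd)

include T

theorem cm_mem {f w : G} (hf : f ∈ Wm) (hw : w ∈ Wl) : cm f w ∈ Wd := T.br f hf w hw

theorem cm_mul_left {f f' w : G} (hf : f ∈ Wm) (hf' : f' ∈ Wm) (hw : w ∈ Wl) :
    cm (f * f') w = cm f w * cm f' w := by
  have h1 := T.dm _ (T.cm_mem hf hw) f' hf'
  unfold cm at *
  calc (f * f')⁻¹ * w⁻¹ * (f * f') * w = f'⁻¹ * ((f⁻¹ * w⁻¹ * f * w) * w⁻¹ * f') * w := by group
    _ = f'⁻¹ * ((f⁻¹ * w⁻¹ * f * w) * f') * (f'⁻¹ * w⁻¹ * f' * w) := by group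
    _ = f'⁻¹ * (f' * (f⁻¹ * w⁻¹ * f * w)) * (f'⁻¹ * w⁻¹ * f' * w) := by rw [h1]
    _ = _ := by group

theorem cm_mul_right {f w w' : G} (hf : f ∈ Wm) (hw : w ∈ Wl) (hw' : w' ∈ Wl) :
    cm f (w * w') = cm f w * cm f w' := by
  have h1 := T.dl _ (T.cm_mem hf hw) w' hw'
  have h2 := T.dd _ (T.cm_mem hf hw) _ (T.cm_mem hf hw')
  rw [h2]
  unfold cm at *
  calc f⁻¹ * (w * w')⁻¹ * f * (w * w') = (f⁻¹ * w'⁻¹ * f) * ((f⁻¹ * w⁻¹ * f * w) * w') := by group
    _ = (f⁻¹ * w'⁻¹ * f) * (w' * (f⁻¹ * w⁻¹ * f * w)) := by rw [h1]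
    _ = _ := by group

theorem cm_x (a b : F) : cm (xm a) (xl b) = xd (a * b) := T.brx a b

/-- `t`-conjugation of a commutator -/
theorem t_cm {f w : G} (hf : f ∈ Wm) (hw : w ∈ Wl) {a b : F} (ha : t * f * t = f * xm a) (hb : t * w * t = w * xl b) :
    t * cm f w * t = cm f w * (cm f (xl b) * cm (xm a) w * xd (a * b)) := by
  have ti : t⁻¹ = t := inv_eq_of_mul_eq_one_left T.tt
  have h1 := conj_cm t f w
  rw [ti, ha, hb, T.cm_mul_left hf (T.xmm a) (mul_mem hw (T.xlm b)), T.cm_mul_right hf hw (T.xlm b),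
    T.cm_mul_right (T.xmm a) hw (T.xlm b), T.cm_x] at h1
  rw [h1]
  group

theorem t_conj {a b : G} : t * (a * b) * t = (t * a * t) * (t * b * t) := by
  calc t * (a * b) * t = t * a * 1 * b * t := by group
    _ = t * a * (t * t) * b * t := by rw [T.tt]
    _ = _ := by group

theorem t_conj_inv {a : G} : t * a⁻¹ * t = (t * a * t)⁻¹ := by
  have ti : t⁻¹ = t := inv_eq_of_mul_eq_one_left T.tt
  calc t * a⁻¹ * t = t⁻¹ * a⁻¹ * t⁻¹ := by rw [ti]
    _ = _ := by group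

/-- The constant: `g z g⁻¹ = z · x_d(c β)`, `[z, t] = x_d(β)`. -/
theorem exists_c : ∃ c : F, (∀ z ∈ Wd, ∀ β, t * z * t = z * xd β → g * z * g⁻¹ = z * xd (c * β)) ∧
    (∀ f ∈ Wm, ∀ γ, t * f * t = f * xm γ → g * f * g⁻¹ = f * xm (c * γ)) ∧
    (∀ w ∈ Wl, ∀ α, t * w * t = w * xl α → g * w * g⁻¹ = w * xl (c * α)) := by
  have ti : t⁻¹ = t := inv_eq_of_mul_eq_one_left T.tt
  obtain ⟨f1, hf1, hf1t⟩ := T.surm
  obtain ⟨c, hc⟩ := T.gm f1 hf1
  -- the elements `z = [f, xl α]`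
  have keyt : ∀ f ∈ Wm, ∀ γ, t * f * t = f * xm γ → ∀ α, t * cm f (xl α) * t = cm f (xl α) * xd (γ * α) := by
    intro f hf γ hγ α
    have h1 := conj_cm t f (xl α)
    rw [ti, hγ, T.txl, T.cm_mul_left hf (T.xmm γ) (T.xlm α), T.cm_x] at h1
    exact h1
  have keyg : ∀ f ∈ Wm, ∀ e, g * f * g⁻¹ = f * xm e → ∀ α, g * cm f (xl α) * g⁻¹ = cm f (xl α) * xd (e * α) := by
    intro f hf e he α
    rw [conj_cm, he, T.gxl, T.cm_mul_left hf (T.xmm e) (T.xlm α), T.cm_x]
  have keyt' : ∀ w ∈ Wl, ∀ α, t * w * t = w * xl α → ∀ γ, t * cm (xm γ) w * t = cm (xm γ) w * xd (γ * α) := by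
    intro w hw α hα γ
    have h1 := conj_cm t (xm γ) w
    rw [ti, hα, T.txm, T.cm_mul_right (T.xmm γ) hw (T.xlm α), T.cm_x] at h1
    exact h1
  have keyg' : ∀ w ∈ Wl, ∀ e, g * w * g⁻¹ = w * xl e → ∀ γ, g * cm (xm γ) w * g⁻¹ = cm (xm γ) w * xd (γ * e) := by
    intro w hw e he γ
    rw [conj_cm, he, T.gxm, T.cm_mul_right (T.xmm γ) hw (T.xlm e), T.cm_x]
  have hz : ∀ z ∈ Wd, ∀ β, t * z * t = z * xd β → g * z * g⁻¹ = z * xd (c * β) := by
    intro z hz β hβ
    have h1 := keyt f1 hf1 1 hf1t β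
    have h2 := keyg f1 hf1 c hc β
    have hm := T.cm_mem hf1 (T.xlm β)
    obtain ⟨a, ha⟩ := T.fixd (z * (cm f1 (xl β))⁻¹) (mul_mem hz (inv_mem hm)) (by
      rw [T.t_conj, T.t_conj_inv, hβ, h1, one_mul]; group)
    have e1 : z = xd a * cm f1 (xl β) := by rw [← ha]; group
    rw [e1]
    calc g * (xd a * cm f1 (xl β)) * g⁻¹ = (g * xd a * g⁻¹) * (g * cm f1 (xl β) * g⁻¹) := by group
      _ = _ := by rw [T.gxd, h2, mul_assoc]
  refine ⟨c, hz, ?_, ?_⟩
  · intro f hf γ hγ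
    obtain ⟨e, he⟩ := T.gm f hf
    have h1 := hz _ (T.cm_mem hf (T.xlm 1)) _ (keyt f hf γ hγ 1)
    rw [keyg f hf e he 1] at h1
    have h2 := T.xdi _ _ (mul_left_cancel h1)
    rw [mul_one, mul_one] at h2
    rw [he, h2]
  · intro w hw α hα
    obtain ⟨e, he⟩ := T.gl w hw
    have h1 := hz _ (T.cm_mem (T.xmm 1) hw) _ (keyt' w hw α hα 1)
    rw [keyg' w hw e he 1] at h1
    have h2 := T.xdi _ _ (mul_left_cancel h1)
    rw [one_mul, one_mul] at h2
    rw [he, h2]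

/-- **Lemma C for `O^-`**: `c = 0` or `c = 1`. -/
theorem main : (∀ c : F, (∀ z ∈ Wd, ∀ β, t * z * t = z * xd β → g * z * g⁻¹ = z * xd (c * β)) →
    (∀ f ∈ Wm, ∀ γ, t * f * t = f * xm γ → g * f * g⁻¹ = f * xm (c * γ)) →
    (∀ w ∈ Wl, ∀ α, t * w * t = w * xl α → g * w * g⁻¹ = w * xl (c * α)) → c = 0 ∨ c = 1) := by
  intro c hz hf hw
  by_cases h0 : c = 0
  · exact Or.inl h0
  right
  have ti : t⁻¹ = t := inv_eq_of_mul_eq_one_left T.tt
  obtain ⟨f1, hf1, hf1t⟩ := T.surm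
  obtain ⟨w1, hw1, hw1t⟩ := T.surl
  have hzm := T.cm_mem hf1 hw1
  have e1 := T.t_cm hf1 hw1 hf1t hw1t
  obtain ⟨β, hβ⟩ := T.phd _ hzm
  have e2 : xd β = cm f1 (xl 1) * cm (xm 1) w1 * xd (1 * 1) := mul_left_cancel (hβ.symm.trans e1)
  -- `g`
  have e3 := hz _ hzm β hβ
  have e4 : xd (c * β) = cm f1 (xl c) * cm (xm c) w1 * xd (c * c) := by
    have h5 := conj_cm g f1 w1
    have h6 := hf f1 hf1 1 hf1t
    have h7 := hw w1 hw1 1 hw1t
    rw [mul_one] at h6 h7
    rw [h6, h7, T.cm_mul_left hf1 (T.xmm c) (mul_mem hw1 (T.xlm c)), T.cm_mul_right hf1 hw1 (T.xlm c),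
      T.cm_mul_right (T.xmm c) hw1 (T.xlm c), T.cm_x, e3] at h5
    have h8 : cm f1 w1 * xd (c * β) = cm f1 w1 * (cm f1 (xl c) * cm (xm c) w1 * xd (c * c)) := by
      rw [h5]; group
    exact mul_left_cancel h8
  -- the torus
  obtain ⟨h, h', t1, t2, t3, t4, t5, t6⟩ := T.tor c h0
  have e5 : xd (c * β) = cm f1 (xl c) * cm (xm c) w1 * xd c := by
    have h5 : h * xd β * h⁻¹ = (h * cm f1 (xl 1) * h⁻¹) * (h * cm (xm 1) w1 * h⁻¹) * (h * xd (1 * 1) * h⁻¹) := by
      rw [e2]; group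
    rw [t3, conj_cm, t2 f1 hf1, t1, mul_one, t6 _ (T.cm_mem (T.xmm 1) hw1), conj_cm, t4, t5 w1 hw1, mul_one,
      one_mul, t3, mul_one] at h5
    exact h5
  have e6 : c * c = c := T.xdi _ _ (mul_left_cancel (e4.symm.trans e5))
  exact mul_left_cancel₀ h0 (by rw [e6, mul_one])

/-- **`g` or `t g` centralises `Wd`, `Wl`, `Wm`.** -/
theorem cent_or : (∀ z, z ∈ Wd ∨ z ∈ Wl ∨ z ∈ Wm → g * z = z * g) ∨
    (∀ z, z ∈ Wd ∨ z ∈ Wl ∨ z ∈ Wm → (t * g) * z = z * (t * g)) := by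
  have ti : t⁻¹ = t := inv_eq_of_mul_eq_one_left T.tt
  obtain ⟨c, hz, hf, hw⟩ := T.exists_c
  have hd0 : xd 0 = 1 := by
    have := T.xda 0 0
    rw [add_zero] at this
    exact left_eq_mul.1 this
  have hm0 : xm 0 = 1 := by
    have := T.xma 0 0
    rw [add_zero] at this
    exact left_eq_mul.1 this
  have hl0 : xl 0 = 1 := by
    have := T.xla 0 0
    rw [add_zero] at this
    exact left_eq_mul.1 this
  rcases T.main c hz hf hw with rfl | rfl
  · left
    rintro z (hz' | hz' | hz')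
    · obtain ⟨β, hβ⟩ := T.phd z hz'
      have := hz z hz' β hβ
      rwa [zero_mul, hd0, mul_one, mul_inv_eq_iff_eq_mul] at this
    · obtain ⟨β, hβ⟩ := T.phl z hz'
      have := hw z hz' β hβ
      rwa [zero_mul, hl0, mul_one, mul_inv_eq_iff_eq_mul] at this
    · obtain ⟨β, hβ⟩ := T.phm z hz'
      have := hf z hz' β hβ
      rwa [zero_mul, hm0, mul_one, mul_inv_eq_iff_eq_mul] at this
  · right
    have key : ∀ z : G, g * z * g⁻¹ = t * z * t → (t * g) * z = z * (t * g) := by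
      intro z h
      rw [← mul_inv_eq_iff_eq_mul]
      calc t * g * z * (t * g)⁻¹ = t * (g * z * g⁻¹) * t⁻¹ := by group
        _ = (t * t) * z * (t * t) := by rw [h, ti]; group
        _ = z := by rw [T.tt, one_mul, mul_one]
    rintro z (hz' | hz' | hz') <;> apply key
    · obtain ⟨β, hβ⟩ := T.phd z hz'
      have := hz z hz' β hβ
      rwa [one_mul, ← hβ] at this
    · obtain ⟨β, hβ⟩ := T.phl z hz'
      have := hw z hz' β hβ
      rwa [one_mul, ← hβ] at this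
    · obtain ⟨β, hβ⟩ := T.phm z hz'
      have := hf z hz' β hβ
      rwa [one_mul, ← hβ] at this

end Tri

end Cfsg.Agent.OddHalf.D7Out.ConstO

end

-- merged: Cfsg.Agent.OddHalf.D7Out.ConstOInst
section

/-!
# ODD D7, outer 2-part, `K = Ω(V)`: the constant of a reflection-type element (helper991; text: helper490 #11669)

`Full.cent_or`: `g ∈ C_G(t)` trivial on `X_l`, `X_m` and normalising `W_l`, `W_m`, `W_{l+m}` (`Rel`): `g` or `t g`
centralises `W_{l+m}`.
-/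

set_option autoImplicit false

namespace Cfsg.Agent.OddHalf.D7Out.ConstOInst

open QuadraticMap Cfsg.Agent.LieClassical.OrthCore Cfsg.Agent.LieClassical.OrthTrans
  Cfsg.Agent.ClassicalGeometry.OrthAutBasic Cfsg.Agent.ClassicalGeometry.OrthAutRoot Cfsg.Agent.OddHalf.Orth
  Cfsg.Agent.OddHalf.Orth.Face Cfsg.Agent.OddHalf.Orth.Star Cfsg.Agent.OddHalf.Orth.Lines
  Cfsg.Agent.OddHalf.D7Out.ConstO

variable {F V : Type*} [Field F] [AddCommGroup V] [Module F V] {Q : QuadraticForm F V}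
variable {G : Type*} [Group G] {t : G} {j : ↥(E Q) →* G} {W : V → V → Subgroup G}

theorem tri [CharP F 2] [FiniteDimensional F V] (D : Full Q t j W) {u v a b : V} (h : Face.Rel Q u v a b) {g : G}
    (hgt : g * t = t * g) (hxl : ∀ c : F, g * j (tE Q u (c • v)) * g⁻¹ = j (tE Q u (c • v)))
    (hxm : ∀ c : F, g * j (tE Q a (c • b)) * g⁻¹ = j (tE Q a (c • b)))
    (hWl : ∀ w ∈ W u v, g * w * g⁻¹ ∈ W u v) (hWm : ∀ w ∈ W a b, g * w * g⁻¹ ∈ W a b) :
    Tri t g (W u v) (W a b) (W a u) (fun c : F => j (tE Q u (c • v))) (fun c : F => j (tE Q a (c • b)))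
      (fun c : F => j (tE Q a (c • u))) := by
  have hqu := h.uv.qu
  have hqa := h.ab.qu
  have tt := D.tt
  have pv : ∀ c : F, polar Q u (c • v) = 0 := fun c => by rw [polar_smul_right, h.uv.perp, smul_zero]
  have pu : ∀ d : F, polar Q a (d • u) = 0 := fun d => by
    rw [polar_smul_right, polar_comm, h.ua.perp, smul_zero]
  have pb : ∀ d : F, polar Q a (d • b) = 0 := fun d => by rw [polar_smul_right, h.ab.perp, smul_zero]
  have ka : ∀ c : F, T Q u (c • v) a = a := fun c =>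
    T_id h.uv.qu (pv c) h.ua.perp (by rw [polar_smul_left, h.va, smul_zero])
  have kb : ∀ c : F, T Q u (c • v) b = b + c • u := fun c => by
    rw [T_perp2 h.uv.qu (pv c) h.ub, polar_smul_left, h.vb]; simp
  have kδ : ∀ c δ : F, j (tE Q u (c • v)) * j (tE Q a (δ • b)) * (j (tE Q u (c • v)))⁻¹ =
      j (tE Q a (δ • b)) * j (tE Q a ((δ * c) • u)) := by
    intro c δ
    rw [D.rconj, coe_tE, ka, map_smul, kb, D.rmul hqa (pb _) (pu _), smul_add, smul_smul]
  have invl : ∀ c : F, (j (tE Q u (c • v)))⁻¹ = j (tE Q u (c • v)) := fun c => by rw [← map_inv, tE_inv hqu (pv c)]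
  have tfix : ∀ k, t * j k * t = j k := fun k => by rw [D.tj, mul_assoc, tt, mul_one]
  have hbrx : ∀ x y : F, (j (tE Q a (x • b)))⁻¹ * (j (tE Q u (y • v)))⁻¹ * j (tE Q a (x • b)) * j (tE Q u (y • v)) =
      j (tE Q a ((x * y) • u)) := by
    intro x y
    have h1 := kδ y x
    rw [invl] at h1 ⊢
    rw [mul_assoc, mul_assoc, ← mul_assoc (j (tE Q u (y • v))), h1]; group
  have phi : ∀ {x y : V}, Ln Q x y → ∀ w ∈ W x y, ∃ c : F, t * w * t = w * j (tE Q x (c • y)) := by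
    intro x y hxy w hw
    obtain ⟨c, hc⟩ := D.phi hxy hw
    exact ⟨c, by rw [← hc]; group⟩
  have sur : ∀ {x y : V}, Ln Q x y → ∃ w ∈ W x y, t * w * t = w * j (tE Q x ((1 : F) • y)) := by
    intro x y hxy
    obtain ⟨w, hw, hc⟩ := D.surj (1 : F) hxy
    exact ⟨w, hw, by rw [← hc]; group⟩
  have fixW : ∀ {x y : V}, Ln Q x y → ∀ w ∈ W x y, t * w * t = w → ∃ c : F, w = j (tE Q x (c • y)) := by
    intro x y hxy w hw hf
    refine D.fix hxy hw ?_
    have e : t * w * t * t = w * t := by rw [hf]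
    rw [mul_assoc (t * w), tt, mul_one] at e
    exact e.symm
  have gW : ∀ {x y : V}, Ln Q x y → (∀ w ∈ W x y, g * w * g⁻¹ ∈ W x y) →
      (∀ c : F, g * j (tE Q x (c • y)) * g⁻¹ = j (tE Q x (c • y))) → ∀ w ∈ W x y,
      ∃ c : F, g * w * g⁻¹ = w * j (tE Q x (c • y)) := by
    intro x y hxy hW hx w hw
    obtain ⟨c, hc⟩ := phi hxy w hw
    have hXW := D.X_le c hxy
    have hm : w⁻¹ * (g * w * g⁻¹) ∈ W x y := mul_mem (inv_mem hw) (hW w hw)
    have hcomm := D.com hxy hXW hm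
    obtain ⟨d, hd⟩ := fixW hxy _ hm (by
      have e1 : t * (w⁻¹ * (g * w * g⁻¹)) * t = (t * w * t)⁻¹ * (g * (t * w * t) * g⁻¹) := by
        have ti : t⁻¹ = t := inv_eq_of_mul_eq_one_left tt
        have gi : g⁻¹ * t = t * g⁻¹ := by
          rw [inv_mul_eq_iff_eq_mul, ← mul_assoc, hgt, mul_assoc, mul_inv_cancel, mul_one]
        calc t * (w⁻¹ * (g * w * g⁻¹)) * t = t * w⁻¹ * g * w * (g⁻¹ * t) := by group
          _ = t * w⁻¹ * (1 * g) * w * t * g⁻¹ := by rw [gi]; group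
          _ = t * w⁻¹ * ((t * t) * g) * w * t * g⁻¹ := by rw [tt]
          _ = t * w⁻¹ * t * (t * g) * w * t * g⁻¹ := by group
          _ = t * w⁻¹ * t * (g * t) * w * t * g⁻¹ := by rw [hgt]
          _ = t⁻¹ * w⁻¹ * t⁻¹ * (g * t) * w * t * g⁻¹ := by rw [ti]
          _ = _ := by group
      rw [e1, hc]
      calc (w * j (tE Q x (c • y)))⁻¹ * (g * (w * j (tE Q x (c • y))) * g⁻¹)
          = (j (tE Q x (c • y)))⁻¹ * ((w⁻¹ * (g * w * g⁻¹)) * (g * j (tE Q x (c • y)) * g⁻¹)) := by group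
        _ = (j (tE Q x (c • y)))⁻¹ * (j (tE Q x (c • y)) * (w⁻¹ * (g * w * g⁻¹))) := by rw [hx, hcomm]
        _ = _ := by group)
    exact ⟨d, by rw [← hd]; group⟩
  refine
    { tt := tt
      xlm := fun c => D.X_le c h.uv
      xmm := fun c => D.X_le c h.ab
      xdm := fun c => D.X_le c h.ua.symm
      xla := fun x y => by rw [D.rmul hqu (pv _) (pv _), add_smul]
      xma := fun x y => by rw [D.rmul hqa (pb _) (pb _), add_smul]
      xda := fun x y => by rw [D.rmul hqa (pu _) (pu _), add_smul]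
      xdi := ?_
      dd := fun z hz y hy => D.com h.ua.symm hz hy
      dl := fun z hz y hy => D.ab (mem_Vs h.ua (D.swapW h.ua.symm hz)) (mem_Vs h.uv hy)
      dm := fun z hz y hy => D.ab (mem_Vs h.ua.symm hz) (mem_Vs h.ab hy)
      br := fun f hf w hw => c2 D h hf hw
      brx := hbrx
      phl := phi h.uv
      phm := phi h.ab
      phd := phi h.ua.symm
      surl := sur h.uv
      surm := sur h.ab
      fixd := fixW h.ua.symm
      gl := gW h.uv hWl hxl
      gm := gW h.ab hWm hxm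
      txl := fun c => tfix _
      txm := fun c => tfix _
      txd := fun c => tfix _
      gxl := hxl
      gxm := hxm
      gxd := ?_
      tor := ?_ }
  · intro x y e
    obtain ⟨c, hc⟩ := r_inj D.toDbl D.kf hqa h.ab.ne (pu x) (pu y) e
    have h1 : (y - x) • u = c • a := by rw [sub_smul, hc]; abel
    have := h.ua.coeff (a := y - x) (b := -c) (by rw [h1]; module)
    exact (sub_eq_zero.1 this.1).symm
  · intro c
    have h1 := hbrx c 1
    rw [mul_one] at h1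
    rw [← h1]
    have e : g * ((j (tE Q a (c • b)))⁻¹ * (j (tE Q u ((1 : F) • v)))⁻¹ * j (tE Q a (c • b)) *
        j (tE Q u ((1 : F) • v))) * g⁻¹ =
        (g * j (tE Q a (c • b)) * g⁻¹)⁻¹ * (g * j (tE Q u ((1 : F) • v)) * g⁻¹)⁻¹ * (g * j (tE Q a (c • b)) * g⁻¹) *
          (g * j (tE Q u ((1 : F) • v)) * g⁻¹) := by group
    rw [e, hxl, hxm]
  · intro κ hκ0
    obtain ⟨u', hH, hv', ha', hb'⟩ := rel_u' D.kf h
    obtain ⟨h0, s1, -, s2⟩ := D.kf.scal hH hκ0
    have hhv : (h0 : V ≃ₗ[F] V) v = v := s2 v h.uv.perp hv'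
    have hha : (h0 : V ≃ₗ[F] V) a = a := s2 a h.ua.perp ha'
    have hhb : (h0 : V ≃ₗ[F] V) b = b := s2 b h.ub hb'
    obtain ⟨a', hH', hb'', hu'', hv''⟩ := rel_u' D.kf (rel_symm h)
    obtain ⟨h1, r1, -, r2⟩ := D.kf.scal hH' hκ0
    have rb : (h1 : V ≃ₗ[F] V) b = b := r2 b h.ab.perp hb''
    have ru : (h1 : V ≃ₗ[F] V) u = u := r2 u h.ua.symm.perp hu''
    have rv : (h1 : V ≃ₗ[F] V) v = v := r2 v (by rw [polar_comm]; exact h.va) hv''
    have fixc : ∀ {k : ↥(E Q)} {x y : V}, Ln Q x y → (k : V ≃ₗ[F] V) x = x → (k : V ≃ₗ[F] V) y = y →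
        ∀ w ∈ W x y, j k * w * (j k)⁻¹ = w := by
      intro k x y hxy hx hy w hw
      have c0 : Commute (j k) w := D.cent hxy hw (by
        have := tE_conj k x y
        rw [hx, hy] at this
        exact mul_inv_eq_iff_eq_mul.1 this)
      rw [c0.eq, mul_inv_cancel_right]
    refine ⟨j h0, j h1, ?_, fixc h.ab hha hhb, ?_, ?_, fixc h.uv ru rv, ?_⟩
    · intro c
      rw [D.rconj, s1, map_smul, hhv, tE_smul_left κ hqu (pv _), smul_smul]
    · intro c
      rw [D.rconj, hha, map_smul, s1, smul_smul, mul_comm c κ]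
    · intro c
      rw [D.rconj, r1, map_smul, rb, tE_smul_left κ hqa (pb _), smul_smul]
    · intro z hz
      -- `h1⁻¹ h0` centralises `X_{a u}`
      have e1 : h0 * tE Q a u * h0⁻¹ = h1 * tE Q a u * h1⁻¹ := by
        have hu1 : polar Q a u = 0 := h.ua.symm.perp
        rw [tE_conj, tE_conj, hha, s1, r1, ru, tE_smul_left κ hqa hu1]
      have e2 : (h1⁻¹ * h0) * tE Q a u = tE Q a u * (h1⁻¹ * h0) := by
        rw [← mul_inv_eq_iff_eq_mul]
        calc h1⁻¹ * h0 * tE Q a u * (h1⁻¹ * h0)⁻¹ = h1⁻¹ * (h0 * tE Q a u * h0⁻¹) * h1 := by group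
          _ = tE Q a u := by rw [e1]; group
      have e3 := D.cent h.ua.symm hz e2
      rw [map_mul, map_inv] at e3
      calc j h0 * z * (j h0)⁻¹ = j h1 * (((j h1)⁻¹ * j h0) * z) * (j h0)⁻¹ := by group
        _ = j h1 * (z * ((j h1)⁻¹ * j h0)) * (j h0)⁻¹ := by rw [e3]
        _ = _ := by group

/-- **Lemma C for `O^-`**: `g` or `t g` centralises `W_{l+m}`, `W_l`, `W_m`. -/
theorem cent_or [CharP F 2] [FiniteDimensional F V] (D : Full Q t j W) {u v a b : V} (h : Face.Rel Q u v a b) {g : G}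
    (hgt : g * t = t * g) (hxl : ∀ c : F, g * j (tE Q u (c • v)) * g⁻¹ = j (tE Q u (c • v)))
    (hxm : ∀ c : F, g * j (tE Q a (c • b)) * g⁻¹ = j (tE Q a (c • b)))
    (hWl : ∀ w ∈ W u v, g * w * g⁻¹ ∈ W u v) (hWm : ∀ w ∈ W a b, g * w * g⁻¹ ∈ W a b) :
    (∀ z, z ∈ W a u ∨ z ∈ W u v ∨ z ∈ W a b → g * z = z * g) ∨
    (∀ z, z ∈ W a u ∨ z ∈ W u v ∨ z ∈ W a b → (t * g) * z = z * (t * g)) :=
  (tri D h hgt hxl hxm hWl hWm).cent_or

/-- The same for `g` acting on `V` as a linear isometry fixing `u, v, a, b`. -/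
theorem cent_or_sem [CharP F 2] [FiniteDimensional F V] (D : Full Q t j W) {u v a b : V} (h : Face.Rel Q u v a b)
    {g : G} (hgt : g * t = t * g) {M : V ≃+ V} (hM : ∀ (c : F) (x : V), M (c • x) = c • M x)
    (hact : ∀ u x, Q u = 0 → polar Q u x = 0 → g * j (tE Q u x) * g⁻¹ = j (tE Q (M u) (M x)))
    (hu : M u = u) (hv : M v = v) (ha : M a = a) (hb : M b = b)
    (hW : ∀ {x y : V}, Ln Q x y → M x = x → M y = y → ∀ w ∈ W x y, g * w * g⁻¹ ∈ W x y) :
    (∀ z, z ∈ W a u ∨ z ∈ W u v ∨ z ∈ W a b → g * z = z * g) ∨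
    (∀ z, z ∈ W a u ∨ z ∈ W u v ∨ z ∈ W a b → (t * g) * z = z * (t * g)) := by
  refine cent_or D h hgt (fun c => ?_) (fun c => ?_) (hW h.uv hu hv) (hW h.ab ha hb)
  · rw [hact u _ h.uv.qu (by rw [polar_smul_right, h.uv.perp, smul_zero]), hu, hM, hv]
  · rw [hact a _ h.ab.qu (by rw [polar_smul_right, h.ab.perp, smul_zero]), ha, hM, hb]

end Cfsg.Agent.OddHalf.D7Out.ConstOInst

end

-- merged: Cfsg.Agent.OddHalf.Orth.C01
section

/-!
# ODD D7, outer part, `K = Ω⁻(V)`: the field `c01` of `TwGlue.Inp`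

`exists_artin`: `z² + z = δ` is solvable for `δ` fixed by an involutory automorphism of a finite field of
characteristic 2. `sigma_eq_one`: an involutory semilinear isometry of an anisotropic plane is linear.
`c01`: an involution `g ∈ C_G(t)` fixing the points of the frame: `g` or `t g` centralises `W (e 0) (e 1)`.
-/

set_option autoImplicit false

namespace Cfsg.Agent.OddHalf.Orth.C01

open QuadraticMap Cfsg.Agent.LieClassical.OrthCore Cfsg.Agent.LieClassical.OrthTrans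
  Cfsg.Agent.ClassicalGeometry.OrthAutBasic Cfsg.Agent.ClassicalGeometry.OrthAutRoot Cfsg.Agent.OddHalf.Orth
  Cfsg.Agent.OddHalf.Orth.Face Cfsg.Agent.OddHalf.Orth.Lines Cfsg.Agent.OddHalf.Orth.FlagDef
  Cfsg.Agent.OddHalf.Orth.Delta

section field
variable {F : Type*} [Field F] [CharP F 2]

/-- `z ↦ z² + z` -/
def wp (F : Type*) [Field F] [CharP F 2] : F →+ F where
  toFun z := z * z + z
  map_zero' := by simp
  map_add' x y := by
    have h : (x + y) * (x + y) = x * x + y * y + 2 * (x * y) := by ring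
    rw [h, CharTwo.two_eq_zero]; ring

theorem wp_apply (z : F) : wp F z = z * z + z := rfl

theorem mem_ker_wp {z : F} : z ∈ (wp F).ker ↔ z = 0 ∨ z = 1 := by
  rw [AddMonoidHom.mem_ker, wp_apply]
  constructor
  · intro h
    have h1 : z * (z + 1) = 0 := by rw [mul_add, mul_one]; exact h
    rcases mul_eq_zero.1 h1 with h2 | h2
    · exact Or.inl h2
    · right
      rwa [add_eq_zero_iff_eq_neg, CharTwo.neg_eq] at h2
  · rintro (rfl | rfl)
    · simp
    · rw [mul_one]; exact CharTwo.add_self_eq_zero _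

theorem card_ker_wp : Nat.card (wp F).ker = 2 := by
  rw [Nat.card_eq_two_iff]
  refine ⟨0, ⟨1, mem_ker_wp.2 (Or.inr rfl)⟩, ?_, ?_⟩
  · intro h
    exact zero_ne_one (congrArg Subtype.val h)
  · ext x
    simp only [Set.mem_insert_iff, Set.mem_singleton_iff, Set.mem_univ, iff_true]
    rcases mem_ker_wp.1 x.2 with h | h
    · exact Or.inl (Subtype.ext h)
    · exact Or.inr (Subtype.ext h)

/-- `z² + z = δ` is solvable for `δ` in the fixed field of an involution. -/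
theorem exists_artin [Finite F] {σ : F ≃+* F} (h2 : ∀ x, σ (σ x) = x) {θ : F} (hθ : σ θ ≠ θ) {δ : F}
    (hδ : σ δ = δ) : ∃ z : F, z * z + z = δ := by
  by_contra hcon
  have hnot : δ ∉ (wp F).range := fun ⟨z, hz⟩ => hcon ⟨z, hz⟩
  have hidx : (wp F).range.index = 2 := by
    rw [AddSubgroup.index_range, card_ker_wp]
  let T : F →+ F :=
    { toFun := fun x => x + σ x
      map_zero' := by simp
      map_add' := fun x y => by rw [map_add]; ring }
  have hT : ∀ x, T x = x + σ x := fun x => rfl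
  have hTw : ∀ y, T (wp F y) = wp F (T y) := by
    intro y
    rw [hT, hT, wp_apply, wp_apply, map_add, map_mul]
    have : (y + σ y) * (y + σ y) = y * y + σ y * σ y + 2 * (y * σ y) := by ring
    rw [this, CharTwo.two_eq_zero]; ring
  have key : ∀ x, ∃ y, T x = wp F (T y) := by
    intro x
    by_cases hx : x ∈ (wp F).range
    · obtain ⟨y, rfl⟩ := hx
      exact ⟨y, hTw y⟩
    · have h1 : x + δ ∈ (wp F).range := by
        rw [AddSubgroup.add_mem_iff_of_index_two hidx]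
        exact ⟨fun h => absurd h hx, fun h => absurd h hnot⟩
      obtain ⟨y, hy⟩ := h1
      refine ⟨y, ?_⟩
      rw [← hTw, hy, map_add]
      have : T δ = 0 := by rw [hT, hδ]; exact CharTwo.add_self_eq_zero _
      rw [this, add_zero]
  let f : ↥T.range → ↥T.range := fun x => ⟨wp F x, by
    obtain ⟨y, hy⟩ := x.2
    exact ⟨wp F y, by rw [hTw, hy]⟩⟩
  have hsurj : Function.Surjective f := by
    rintro ⟨_, x, rfl⟩
    obtain ⟨y, hy⟩ := key x
    exact ⟨⟨T y, y, rfl⟩, Subtype.ext hy.symm⟩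
  have hinj : Function.Injective f := Finite.injective_iff_surjective.2 hsurj
  set c := T θ with hc
  have hc0 : c ≠ 0 := by
    rw [hc, hT]
    intro h
    apply hθ
    rw [add_eq_zero_iff_eq_neg, CharTwo.neg_eq] at h
    exact h.symm
  have hσc : σ c = c := by rw [hc, hT, map_add, h2, add_comm]
  have h1 : (1 : F) ∈ T.range := by
    refine ⟨θ * c⁻¹, ?_⟩
    rw [hT, map_mul, map_inv₀, hσc, ← add_mul, ← hT, ← hc, mul_inv_cancel₀ hc0]
  have h0 : (⟨1, h1⟩ : ↥T.range) = 0 := by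
    apply hinj
    apply Subtype.ext
    show wp F 1 = wp F 0
    rw [wp_apply, wp_apply, mul_one, mul_zero, add_zero]
    exact CharTwo.add_self_eq_zero _
  exact one_ne_zero (congrArg Subtype.val h0)

end field

variable {F V : Type*} [Field F] [AddCommGroup V] [Module F V] {Q : QuadraticForm F V}

/-- an involutory semilinear isometry of an anisotropic space is linear -/
theorem sigma_eq_one [Finite F] [CharP F 2] {M : V ≃+ V} {σ : F ≃+* F} (S : Sem Q M σ) {N : Set V}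
    (hadd : ∀ x ∈ N, ∀ y ∈ N, x + y ∈ N) (hsmul : ∀ (c : F), ∀ x ∈ N, c • x ∈ N)
    (hMN : ∀ x ∈ N, M x ∈ N) (hM2 : ∀ x, M (M x) = x) (han : ∀ x ∈ N, Q x = 0 → x = 0) {a b : V}
    (ha : a ∈ N) (hb : b ∈ N) (hab : polar Q a b ≠ 0) (θ : F) : σ θ = θ := by
  have ha0 : a ≠ 0 := by rintro rfl; exact hab (polar_zero_left _ _)
  have h2 : ∀ x, σ (σ x) = x := by
    intro x
    have h1 := hM2 (x • a)
    rw [S.smul, S.smul, hM2] at h1
    have h3 : (σ (σ x) - x) • a = 0 := by rw [sub_smul, h1, sub_self]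
    exact sub_eq_zero.1 ((smul_eq_zero.1 h3).resolve_right ha0)
  by_contra hθ
  set c := θ + σ θ with hc
  have hc0 : c ≠ 0 := by
    rw [hc]
    intro h
    apply hθ
    rw [add_eq_zero_iff_eq_neg, CharTwo.neg_eq] at h
    exact h.symm
  have two0 : (2 : F) = 0 := CharTwo.two_eq_zero
  -- fixed vectors
  have fixv : ∀ v, M (v + M v) = v + M v := by
    intro v; rw [map_add, hM2, add_comm]
  have dec : ∀ v : V, v = (c⁻¹ * σ θ) • (v + M v) + c⁻¹ • (θ • v + M (θ • v)) := by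
    intro v
    rw [S.smul]
    have : (c⁻¹ * σ θ) • (v + M v) + c⁻¹ • (θ • v + σ θ • M v) =
        (c⁻¹ * (θ + σ θ)) • v + (2 * (c⁻¹ * σ θ)) • M v := by module
    rw [this, ← hc, inv_mul_cancel₀ hc0, two0, zero_mul, zero_smul, add_zero, one_smul]
  obtain ⟨d1, d2, hd1, hd2, hf1, hf2, hd⟩ : ∃ d1 d2 : V, d1 ∈ N ∧ d2 ∈ N ∧ M d1 = d1 ∧ M d2 = d2 ∧
      polar Q d1 d2 ≠ 0 := by
    by_contra hcon
    push Not at hcon
    apply hab
    have z : ∀ x ∈ N, ∀ y ∈ N, polar Q (x + M x) (y + M y) = 0 := fun x hx y hy =>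
      hcon _ _ (hadd _ hx _ (hMN _ hx)) (hadd _ hy _ (hMN _ hy)) (fixv x) (fixv y)
    rw [dec a, dec b]
    simp only [polar_add_left, polar_add_right, polar_smul_left, polar_smul_right]
    have z1 := z a ha b hb
    have z2 := z a ha (θ • b) (hsmul θ b hb)
    have z3 := z (θ • a) (hsmul θ a ha) b hb
    have z4 := z (θ • a) (hsmul θ a ha) (θ • b) (hsmul θ b hb)
    simp only [polar_add_left, polar_add_right, polar_smul_left, polar_smul_right] at z1 z2 z3 z4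
    simp only [smul_eq_mul] at z1 z2 z3 z4 ⊢
    linear_combination (c⁻¹ * σ θ) * (c⁻¹ * σ θ) * z1 + (c⁻¹ * σ θ) * c⁻¹ * z2 +
      c⁻¹ * (c⁻¹ * σ θ) * z3 + c⁻¹ * c⁻¹ * z4
  have sα : σ (Q d1) = Q d1 := by rw [← S.iso, hf1]
  have sγ : σ (Q d2) = Q d2 := by rw [← S.iso, hf2]
  have sβ : σ (polar Q d1 d2) = polar Q d1 d2 := by
    rw [← Sem'.polar' S, hf1, hf2]
  have hd10 : d1 ≠ 0 := by rintro rfl; exact hd (polar_zero_left _ _)
  have hα : Q d1 ≠ 0 := fun h => hd10 (han _ hd1 h)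
  obtain ⟨z, hz⟩ := exists_artin h2 hθ (δ := Q d1 * Q d2 * (polar Q d1 d2)⁻¹ * (polar Q d1 d2)⁻¹) (by
    rw [map_mul, map_mul, map_mul, map_inv₀, sα, sβ, sγ])
  set α := Q d1 with hαd
  set β := polar Q d1 d2 with hβd
  set γ := Q d2 with hγd
  set x := β * α⁻¹ * z with hx
  have hq : Q (x • d1 + d2) = 0 := by
    rw [Q_add, QuadraticMap.map_smul, polar_smul_left, smul_eq_mul, smul_eq_mul, ← hαd, ← hβd, ← hγd]
    have e1 : x * x * α + x * β = β * β * α⁻¹ * (z * z + z) := by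
      rw [hx]
      field_simp
    have e2 : β * β * α⁻¹ * (α * γ * β⁻¹ * β⁻¹) = γ := by field_simp
    have e3 : x * x * α + γ + x * β = (x * x * α + x * β) + γ := by ring
    rw [e3, e1, hz, e2]
    exact CharTwo.add_self_eq_zero _
  have h0 := han _ (hadd _ (hsmul x _ hd1) _ hd2) hq
  have h1 := congrArg (polar Q d1) h0
  rw [polar_add_right, polar_smul_right, polar_self2, smul_zero, zero_add, polar_zero_right] at h1
  exact hd h1

/-- a semilinear isometry with trivial action on `K` is trivial -/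
theorem sem_eq_id [CharP F 2] (hK : KFacts Q) {M : V ≃+ V} {σ : F ≃+* F} (S : Sem Q M σ)
    (H : ∀ u x, Q u = 0 → polar Q u x = 0 → tE Q (M u) (M x) = tE Q u x) {e f : V} (he : Hyp Q e f)
    (v : V) : M v = v := by
  have he0 : e ≠ 0 := by
    rintro rfl
    have := he.pair
    rw [polar_zero_left] at this
    exact zero_ne_one this
  have hf0 : f ≠ 0 := by
    rintro rfl
    have := he.pair
    rw [polar_zero_right] at this
    exact zero_ne_one this
  obtain ⟨y, hy, h1⟩ := hK.cent1 S he.left he0 fun x hx => H e x he.left hx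
  obtain ⟨y', hy', h2⟩ := hK.cent1 S he.right hf0 fun x hx => H f x he.right hx
  have h3 : M f = f := by rw [h2, T_apply_self he.right hy']
  rw [h1, T_apply2 he.left hy, he.pair, one_smul, mul_one] at h3
  have h4 : y = (polar Q y f + Q y) • e := by
    have h5 : y + (polar Q y f + Q y) • e = 0 := by
      have : f + (y + (polar Q y f + Q y) • e) = f + 0 := by rw [← add_assoc, h3, add_zero]
      exact add_left_cancel this
    rw [add_eq_zero_iff_eq_neg, neg_eq' (F := F)] at h5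
    exact h5
  have h6 : T Q e y = 1 := by
    rw [h4]
    have := T_add_smul (Q := Q) he.left (polar_zero_right _ e) (polar Q y f + Q y)
    rw [zero_add] at this
    rw [this, T_zero_right]
  rw [h1, h6]; rfl

variable {G : Type*} [Group G] {t : G} {j : ↥(E Q) →* G} {W : V → V → Subgroup G} {n : ℕ} {e f : ℕ → V}

theorem flag_ln (Fl : Flag Q n e f) {i k : ℕ} (hi : i < n) (hk : k < n) (h : i ≠ k) : Ln Q (e i) (e k) where
  qu := (Fl.hyp i hi).left
  qw := (Fl.hyp k hk).left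
  perp := Fl.ee i k hi hk h
  ne := by
    intro h0
    have := (Fl.hyp i hi).pair
    rw [h0, polar_zero_left] at this
    exact zero_ne_one this
  ind := by
    intro c hc
    have := (Fl.hyp k hk).pair
    rw [hc, polar_smul_left, Fl.ef i k hi hk h, smul_zero] at this
    exact zero_ne_one this

theorem flag_ln' (Fl : Flag Q n e f) {i k : ℕ} (hi : i < n) (hk : k < n) (h : i ≠ k) : Ln Q (e i) (f k) where
  qu := (Fl.hyp i hi).left
  qw := (Fl.hyp k hk).right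
  perp := Fl.ef i k hi hk h
  ne := by
    intro h0
    have := (Fl.hyp i hi).pair
    rw [h0, polar_zero_left] at this
    exact zero_ne_one this
  ind := by
    intro c hc
    have := (Fl.hyp k hk).pair
    rw [hc, polar_smul_right, Fl.ee k i hk hi (Ne.symm h), smul_zero] at this
    exact zero_ne_one this

/-- the lines `⟨e 0, e 2⟩`, `⟨e 1, f 2⟩` are in relation (c) -/
theorem flag_rel (Fl : Flag Q n e f) (hn : 3 ≤ n) : Face.Rel Q (e 0) (e 2) (e 1) (f 2) where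
  uv := flag_ln Fl (by omega) (by omega) (by omega)
  ab := flag_ln' Fl (by omega) (by omega) (by omega)
  ua := flag_ln Fl (by omega) (by omega) (by omega)
  ub := Fl.ef 0 2 (by omega) (by omega) (by omega)
  va := Fl.ee 2 1 (by omega) (by omega) (by omega)
  vb := (Fl.hyp 2 (by omega)).pair

section main
variable [CharP F 2] [Finite F] [FiniteDimensional F V]

/-- an involution of `C_G(t)` fixing the points of the frame acts linearly and fixes the frame -/
theorem fix_frame (D : Full Q t j W) (Fl : Flag Q n e f) (hn : 1 ≤ n)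
    (hne : ∃ a ∈ Yv Q e f (n - 1), a ≠ 0) (han : ∀ y ∈ Yv Q e f (n - 1), Q y = 0 → y = 0) {g : G}
    (hgg : g * g = 1) {M : V ≃+ V} {σ : F ≃+* F} (S : Sem Q M σ)
    (hact : ∀ u x, Q u = 0 → polar Q u x = 0 → g * j (tE Q u x) * g⁻¹ = j (tE Q (M u) (M x)))
    (he : ∀ i < n, ∃ c : F, M (e i) = c • e i) (hf : ∀ i < n, ∃ c : F, M (f i) = c • f i) :
    (∀ c, σ c = c) ∧ (∀ x, M (M x) = x) ∧ (∀ i < n, M (e i) = e i) ∧ ∀ i < n, M (f i) = f i := by
  -- `M² = 1`
  have S2 : Sem Q (M.trans M) (σ.trans σ) :=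
    ⟨fun a v => by
      show M (M (a • v)) = σ (σ a) • M (M v)
      rw [S.smul, S.smul], fun v => by
      show Q (M (M v)) = σ (σ (Q v))
      rw [S.iso, S.iso]⟩
  have hM2 : ∀ x, M (M x) = x := by
    refine sem_eq_id D.kf S2 (fun u x hu hx => ?_) (Fl.hyp 0 (by omega))
    show tE Q (M (M u)) (M (M x)) = tE Q u x
    apply D.inj
    have h1 : Q (M u) = 0 := by rw [S.iso, hu, map_zero]
    have h2 : polar Q (M u) (M x) = 0 := by rw [Sem'.polar' S, hx, map_zero]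
    have gi : g⁻¹ = g := inv_eq_of_mul_eq_one_left hgg
    rw [← hact _ _ h1 h2, ← hact _ _ hu hx, gi]
    calc g * (g * j (tE Q u x) * g) * g = (g * g) * j (tE Q u x) * (g * g) := by group
      _ = j (tE Q u x) := by rw [hgg, one_mul, mul_one]
  -- `M` preserves `V_0`
  have hMN : ∀ y ∈ Yv Q e f (n - 1), M y ∈ Yv Q e f (n - 1) := by
    intro y hy k hk
    obtain ⟨h1, h2⟩ := hy k hk
    obtain ⟨c, hc⟩ := he k (by omega)
    obtain ⟨d, hd⟩ := hf k (by omega)
    have hek := Fl.hyp k (by omega)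
    constructor
    · have h3 := Sem'.polar' S (e k) y
      rw [h1, map_zero, hc, polar_smul_left, smul_eq_mul] at h3
      refine (mul_eq_zero.1 h3).resolve_left ?_
      rintro rfl
      rw [zero_smul] at hc
      have h4 : e k = 0 := M.injective (by rw [hc, map_zero])
      have h5 := hek.pair
      rw [h4, polar_zero_left] at h5
      exact zero_ne_one h5
    · have h3 := Sem'.polar' S (f k) y
      rw [h2, map_zero, hd, polar_smul_left, smul_eq_mul] at h3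
      refine (mul_eq_zero.1 h3).resolve_left ?_
      rintro rfl
      rw [zero_smul] at hd
      have h4 : f k = 0 := M.injective (by rw [hd, map_zero])
      have h5 := hek.pair
      rw [h4, polar_zero_right] at h5
      exact zero_ne_one h5
  obtain ⟨a, ha, ha0⟩ := hne
  obtain ⟨v, hv⟩ := D.kf.nondeg.exists_polar_ne ha0
  obtain ⟨b, hb, hb'⟩ := exists_proj Fl n le_rfl v
  have hb1 : b ∈ Yv Q e f (n - 1) := fun k hk => hb k (by omega)
  have hab : polar Q a b ≠ 0 := by rw [hb' a fun k hk => ha k (by omega)]; exact hv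
  have hσ : ∀ c, σ c = c := fun c =>
    sigma_eq_one S (fun x hx y hy => Yv_add hx hy) (fun c x hx => Yv_smul c hx) hMN hM2 han ha hb1 hab c
  have fixc : ∀ {x y : V}, polar Q x y = 1 → (∃ c : F, M x = c • x) → M x = x := by
    rintro x y hxy ⟨c, hc⟩
    have h1 := hM2 x
    rw [hc, S.smul, hσ, hc, smul_smul] at h1
    have h2 := congrArg (fun z => polar Q z y) h1
    simp only [polar_smul_left, hxy, smul_eq_mul, mul_one] at h2
    rw [eq_one_of_mul_self h2, one_smul] at hc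
    exact hc
  exact ⟨hσ, hM2, fun i hi => fixc (Fl.hyp i hi).pair (he i hi), fun i hi => fixc (Fl.hyp i hi).pair' (hf i hi)⟩

/-- **The field `c01` of `TwGlue.Inp`.** -/
theorem c01 (D : Full Q t j W) (Fl : Flag Q n e f) (hn : 3 ≤ n)
    (hne : ∃ a ∈ Yv Q e f (n - 1), a ≠ 0) (han : ∀ y ∈ Yv Q e f (n - 1), Q y = 0 → y = 0) {g : G}
    (hgt : g * t = t * g) (hgg : g * g = 1) {M : V ≃+ V} {σ : F ≃+* F} (S : Sem Q M σ)
    (hact : ∀ u x, Q u = 0 → polar Q u x = 0 → g * j (tE Q u x) * g⁻¹ = j (tE Q (M u) (M x)))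
    (he : ∀ i < n, ∃ c : F, M (e i) = c • e i) (hf : ∀ i < n, ∃ c : F, M (f i) = c • f i)
    (hW : ∀ {x y : V}, Ln Q x y → ∀ w ∈ W x y, g * w * g⁻¹ ∈ W (M x) (M y)) :
    (∀ w ∈ W (e 0) (e 1), g * w = w * g) ∨ ∀ w ∈ W (e 0) (e 1), t * g * w = w * (t * g) := by
  obtain ⟨hσ, -, h1, h2⟩ := fix_frame D Fl (by omega) hne han hgg S hact he hf
  have key := Cfsg.Agent.OddHalf.D7Out.ConstOInst.cent_or_sem D (flag_rel Fl hn) hgt
    (fun c x => by rw [S.smul, hσ]) hact (h1 0 (by omega)) (h1 2 (by omega)) (h1 1 (by omega)) (h2 2 (by omega))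
    (fun {x y} hxy hx hy w hw => by
      have := hW hxy w hw
      rwa [hx, hy] at this)
  rw [D.swap (flag_ln Fl (i := 0) (k := 1) (by omega) (by omega) (by omega))]
  rcases key with key | key
  · exact Or.inl fun w hw => key w (Or.inl hw)
  · exact Or.inr fun w hw => key w (Or.inl hw)

end main

end Cfsg.Agent.OddHalf.Orth.C01

end
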