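import Cfsg.Agent.OddHalf.Orth.End
import Cfsg.Agent.OddHalf.Orth.KFlag
import Cfsg.Agent.OddHalf.Orth.Delta
import Cfsg.Agent.OddHalf.Orth.KFace

-- merged: Cfsg.Agent.OddHalf.Orth.Clean
section

/-!
# ODD D7, `K = Ω(V)`: the end, from odd index statements

`exists_hom_of` : `K⟨t⟩` of odd index in `C_G(t)`, `UK` of odd index in `K`.
-/

set_option autoImplicit false
set_option linter.unusedSectionVars false

namespace Cfsg.Agent.OddHalf.Orth.Clean


section General

variable {G : Type*} [Group G] {t : G} {A U K C : Subgroup G}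

theorem mem_sup_zpowers (htt : t * t = 1) (hA : ∀ a ∈ A, t * a = a * t) {g : G} :
    g ∈ A ⊔ Subgroup.zpowers t ↔ g ∈ A ∨ t * g ∈ A := by
  constructor
  · intro hg
    let S : Subgroup G :=
      { carrier := {g | g ∈ A ∨ t * g ∈ A}
        one_mem' := Or.inl (one_mem _)
        mul_mem' := by
          rintro a b (ha | ha) (hb | hb)
          · exact Or.inl (mul_mem ha hb)
          · right
            have e : t * (a * b) = a * (t * b) := by rw [← mul_assoc, hA a ha, mul_assoc]
            rw [e]; exact mul_mem ha hb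
          · right
            rw [← mul_assoc]; exact mul_mem ha hb
          · left
            have h1 := mul_mem ha hb
            have e : t * a * (t * b) = a * b := by
              have h2 : t * (t * a) = t * a * t := hA _ ha
              calc t * a * (t * b) = t * a * t * b := by group
                _ = t * (t * a) * b := by rw [h2]
                _ = t * t * a * b := by group
                _ = a * b := by rw [htt, one_mul]
            rwa [e] at h1
        inv_mem' := by
          rintro a (ha | ha)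
          · exact Or.inl (inv_mem ha)
          · right
            have h1 := inv_mem ha
            have hti : t⁻¹ = t := inv_eq_of_mul_eq_one_left htt
            have h2 : t * (t * a)⁻¹ = (t * a)⁻¹ * t := hA _ h1
            have e : t * a⁻¹ = (t * a)⁻¹ := by
              rw [mul_inv_rev, hti] at h2 ⊢
              have h3 : t * (a⁻¹ * t) = a⁻¹ := by rw [h2, mul_assoc, htt, mul_one]
              calc t * a⁻¹ = t * (t * (a⁻¹ * t)) := by rw [h3]
                _ = t * t * a⁻¹ * t := by group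
                _ = a⁻¹ * t := by rw [htt, one_mul]
            rwa [e] }
    have h1 : A ⊔ Subgroup.zpowers t ≤ S := by
      refine sup_le (fun a ha => Or.inl ha) ?_
      rw [Subgroup.zpowers_le]
      right
      rw [htt]; exact one_mem _
    exact h1 hg
  · rintro (h1 | h1)
    · exact (le_sup_left : A ≤ _) h1
    · have h2 : g = t * (t * g) := by rw [← mul_assoc, htt, one_mul]
      rw [h2]
      exact mul_mem ((le_sup_right : Subgroup.zpowers t ≤ A ⊔ _) (Subgroup.mem_zpowers t)) ((le_sup_left : A ≤ _) h1)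

theorem relIndex_sup_zpowers (htt : t * t = 1) (hA : ∀ a ∈ A, t * a = a * t) (ht : t ∉ A) :
    A.relIndex (A ⊔ Subgroup.zpowers t) = 2 := by
  rw [Subgroup.relIndex_eq_two_iff]
  refine ⟨t, (le_sup_right : Subgroup.zpowers t ≤ A ⊔ _) (Subgroup.mem_zpowers t), fun b hb => ?_⟩
  rcases (mem_sup_zpowers htt hA).1 hb with h1 | h1
  · right
    refine ⟨h1, fun h2 => ht ?_⟩
    have h3 := mul_mem (inv_mem h1) h2
    rwa [inv_mul_cancel_left] at h3
  · left
    have hbt : b * t ∈ A := by
      have h2 := hA _ h1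
      have e : t * (t * b) * t = b * t := by rw [← mul_assoc, htt, one_mul]
      have h3 : t * b = b * t := by
        have h4 : t * (t * b) = b := by rw [← mul_assoc, htt, one_mul]
        rw [h4] at h2
        calc t * b = t * (t * b * t) := by rw [← h2]
          _ = t * t * (b * t) := by group
          _ = b * t := by rw [htt, one_mul]
      rwa [← h3]
    refine ⟨hbt, fun h2 => ht ?_⟩
    have h3 := mul_mem (inv_mem h2) hbt
    rwa [inv_mul_cancel_left] at h3

theorem odd_relIndex_sup (htt : t * t = 1) (htK : ∀ k ∈ K, t * k = k * t) (ht : t ∉ K) (hUK : U ≤ K)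
    (hU : Odd (U.relIndex K)) (hC : K ⊔ Subgroup.zpowers t ≤ C) (hK : Odd ((K ⊔ Subgroup.zpowers t).relIndex C)) :
    Odd ((U ⊔ Subgroup.zpowers t).relIndex C) := by
  have h1 : U ⊔ Subgroup.zpowers t ≤ K ⊔ Subgroup.zpowers t := sup_le_sup_right hUK _
  rw [← Subgroup.relIndex_mul_relIndex _ _ _ h1 hC]
  refine Odd.mul ?_ hK
  have h2 := Subgroup.relIndex_mul_relIndex U (U ⊔ Subgroup.zpowers t) _ le_sup_left h1
  have h3 := Subgroup.relIndex_mul_relIndex U K (K ⊔ Subgroup.zpowers t) hUK le_sup_left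
  rw [relIndex_sup_zpowers htt (fun a ha => htK a (hUK ha)) (fun h => ht (hUK h))] at h2
  rw [relIndex_sup_zpowers htt htK ht] at h3
  have h4 : (U ⊔ Subgroup.zpowers t).relIndex (K ⊔ Subgroup.zpowers t) = U.relIndex K := by omega
  rw [h4]; exact hU


end General

open QuadraticMap Cfsg.Agent.LieClassical.OrthCore Cfsg.Agent.LieClassical.OrthTrans
  Cfsg.Agent.ClassicalGeometry.OrthAutBasic Cfsg.Agent.OddHalf.Orth
  Cfsg.Agent.OddHalf.Orth.Face Cfsg.Agent.OddHalf.Orth.Lay Cfsg.Agent.OddHalf.Orth.FlagDef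

variable {F V : Type*} [Field F] [AddCommGroup V] [Module F V] {Q : QuadraticForm F V}
variable {G : Type*} [Group G] {t : G} {j : ↥(E Q) →* G} {W : V → V → Subgroup G}
variable {n : ℕ} {e f : ℕ → V}

/-- **The end, clean case**: `K⟨t⟩` has odd index in `C_G(t)`, the flag unipotent group has odd index in `K`. -/
theorem exists_hom_of [Finite G] [Finite F] [CharP F 2] (hB : Big Q) (hK : KFacts Q) (D : Dbl Q t j W)
    (hG : Grow Q t W) (hF : Flag Q n e f) (hn : 3 ≤ n) (hd : HasDelta Q n e f) (hU : Odd (UK Q e f n).index)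
    (hodd : Odd ((j.range ⊔ Subgroup.zpowers t).relIndex (Subgroup.centralizer ({t} : Set G)))) :
    ∃ m : G →* ℤˣ, m t = -1 := by
  refine End.exists_hom D hB hK hG hF hn hd ?_
  refine odd_relIndex_sup D.tt ?_ ?_ (U := (UK Q e f n).map j) (K := j.range) ?_ ?_ ?_ hodd
  · rintro _ ⟨k, rfl⟩
    exact D.tj k
  · rintro ⟨k, hk⟩
    exact D.tK k hk
  · show _ ≤ _
    exact Subgroup.map_le_range _ _
  · have h1 : ((UK Q e f n).map j).relIndex j.range = (UK Q e f n).index := by
      rw [MonoidHom.range_eq_map, Subgroup.relIndex_map_map_of_injective _ _ D.inj, Subgroup.relIndex_top_right]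
    rw [h1]
    exact hU
  · refine sup_le ?_ ?_
    · rintro _ ⟨k, rfl⟩
      rw [Subgroup.mem_centralizer_singleton_iff]
      exact (D.tj k).symm
    · rw [Subgroup.zpowers_le, Subgroup.mem_centralizer_singleton_iff]

end Cfsg.Agent.OddHalf.Orth.Clean

end

-- merged: Cfsg.Agent.OddHalf.Orth.KFlagMain
section

/-!
# ODD D7, `K = Ω^±(2n, q)`, `q` even: all K-facts of sections 4 and 5 for the two models, and the clean end

`delta_minus`, `delta_plus`: (F3); `big_minus`, `big_plus`; `kfacts_minus`, `kfacts_plus`; `end_minus`,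
`end_plus`: from `Dbl` and `Grow` (sections 2, 3) to the homomorphism, if `K⟨t⟩` has odd index in `C_G(t)`;
`end_minus'`, `end_plus'`: the same if `UK⟨t⟩` has odd index in `C_G(t)`.
-/

set_option autoImplicit false

namespace Cfsg.Agent.OddHalf.Orth.KFlagMain

open QuadraticMap Cfsg.Agent.LieClassical.OrthCore Cfsg.Agent.LieClassical.OrthTrans
  Cfsg.Agent.LieClassical Cfsg.Agent.LieClassical.OrthForms
  Cfsg.Agent.ClassicalGeometry.OrthAutBasic Cfsg.Agent.TitsThree.KSideO
  Cfsg.Agent.OddHalf.Orth Cfsg.Agent.OddHalf.Orth.Face Cfsg.Agent.OddHalf.Orth.Lay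
  Cfsg.Agent.OddHalf.Orth.FlagDef Cfsg.Agent.OddHalf.Orth.KFlag

variable {F : Type*} [Field F] [Finite F] [CharP F 2] {m : ℕ}

omit [Finite F] [CharP F 2] in
theorem finrank_minus : Module.finrank F ((Fin m ⊕ Fin m) ⊕ Fin 2 → F) = 2 * m + 2 := by
  rw [Module.finrank_fintype_fun_eq_card, Fintype.card_sum, Fintype.card_sum, Fintype.card_fin,
    Fintype.card_fin]
  omega

omit [Finite F] [CharP F 2] in
theorem finrank_plus : Module.finrank F (Fin m ⊕ Fin m → F) = 2 * m := by
  rw [Module.finrank_fintype_fun_eq_card, Fintype.card_sum, Fintype.card_fin]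
  omega

section Minus

variable (m) (a b : F) (hab : ∀ z₁ z₂ : F, z₁ ^ 2 + a * z₁ * z₂ + b * z₂ ^ 2 = 0 → z₁ = 0 ∧ z₂ = 0)

/-- the sequence `e_i` for `quadFormMinus` -/
noncomputable abbrev em : ℕ → (Fin m ⊕ Fin m) ⊕ Fin 2 → F := eN (wminus m F a b hab)

/-- the sequence `f_i` for `quadFormMinus` -/
noncomputable abbrev fm : ℕ → (Fin m ⊕ Fin m) ⊕ Fin 2 → F := fN (wminus m F a b hab)

omit [Finite F] [CharP F 2] in
theorem aniso_minus (hm : 1 ≤ m) {y : (Fin m ⊕ Fin m) ⊕ Fin 2 → F}
    (hy : y ∈ Yv (minusForm m F a b) (em m a b hab) (fm m a b hab) (m - 1)) (hQ : minusForm m F a b y = 0) :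
    y = 0 := by
  rw [mem_Yv _ (by omega)] at hy
  have h1 : ∀ i : Fin m, y (Sum.inl (Sum.inl i)) = 0 ∧ y (Sum.inl (Sum.inr i)) = 0 := by
    intro i
    obtain ⟨h1, h2⟩ := hy i (by omega)
    constructor
    · have h3 : polar (minusForm m F a b) (Pi.single (Sum.inl (Sum.inr i)) 1) y = 0 := h2
      rw [polar_minusForm] at h3
      simpa [Pi.single_apply] using h3
    · have h3 : polar (minusForm m F a b) (Pi.single (Sum.inl (Sum.inl i)) 1) y = 0 := h1
      rw [polar_minusForm] at h3
      simpa [Pi.single_apply] using h3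
  rw [coe_minusForm, quadFormMinus_apply] at hQ
  simp only [(h1 _).1, (h1 _).2, mul_zero, Finset.sum_const_zero, zero_add] at hQ
  obtain ⟨h2, h3⟩ := hab _ _ hQ
  funext i
  rcases i with (i | i) | i
  · exact (h1 i).1
  · exact (h1 i).2
  · fin_cases i
    · exact h2
    · exact h3

theorem delta_minus (hm : 1 ≤ m) : HasDelta (minusForm m F a b) m (em m a b hab) (fm m a b hab) :=
  Delta.hasDelta (nondeg_minusForm m F a b hab) hm (flag _) fun _ hy => aniso_minus m a b hab hm hy

include hab in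
theorem big_minus (hm : 3 ≤ m) : Big (minusForm m F a b) :=
  ⟨nondeg_minusForm m F a b hab, by rw [finrank_minus]; omega⟩

include hab in
theorem kfacts_minus (hm : 3 ≤ m) : KFacts (minusForm m F a b) :=
  kfacts (nondeg_minusForm m F a b hab) (by rw [finrank_minus]; omega)

end Minus

section Plus

/-- the sequence `e_i` for `quadFormPlus` -/
noncomputable abbrev ep (m : ℕ) (F : Type*) [Field F] : ℕ → Fin m ⊕ Fin m → F :=
  eN (Cfsg.Agent.Nodes.RGDOrth.wplus m F)

/-- the sequence `f_i` for `quadFormPlus` -/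
noncomputable abbrev fp (m : ℕ) (F : Type*) [Field F] : ℕ → Fin m ⊕ Fin m → F :=
  fN (Cfsg.Agent.Nodes.RGDOrth.wplus m F)

omit [Finite F] [CharP F 2] in
theorem zero_plus (hm : 1 ≤ m) {y : Fin m ⊕ Fin m → F}
    (hy : y ∈ Yv (plusForm m F) (ep m F) (fp m F) (m - 1)) : y = 0 := by
  rw [mem_Yv _ (by omega)] at hy
  funext i
  rcases i with i | i
  · obtain ⟨h1, h2⟩ := hy i (by omega)
    have h3 : polar (plusForm m F) (Pi.single (Sum.inr i) 1) y = 0 := h2
    rw [polar_plusForm] at h3
    simpa [Pi.single_apply] using h3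
  · obtain ⟨h1, h2⟩ := hy i (by omega)
    have h3 : polar (plusForm m F) (Pi.single (Sum.inl i) 1) y = 0 := h1
    rw [polar_plusForm] at h3
    simpa [Pi.single_apply] using h3

theorem delta_plus (hm : 1 ≤ m) : HasDelta (plusForm m F) m (ep m F) (fp m F) :=
  Delta.hasDelta (nondeg_plusForm m F) hm (flag _) fun _ hy _ => zero_plus hm hy

theorem big_plus (hm : 4 ≤ m) : Big (plusForm m F) :=
  ⟨nondeg_plusForm m F, by rw [finrank_plus]; omega⟩

theorem kfacts_plus (hm : 4 ≤ m) : KFacts (plusForm m F) :=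
  kfacts (nondeg_plusForm m F) (by rw [finrank_plus]; omega)

end Plus

/-! ### The ends -/

variable {G : Type*} [Group G] [Finite G] {t : G}

/-- **`Ω^-(2m+2, q)`, clean case.** -/
theorem end_minus (hm : 3 ≤ m) {a b : F}
    (hab : ∀ z₁ z₂ : F, z₁ ^ 2 + a * z₁ * z₂ + b * z₂ ^ 2 = 0 → z₁ = 0 ∧ z₂ = 0)
    {j : ↥(E (minusForm m F a b)) →* G} {W : ((Fin m ⊕ Fin m) ⊕ Fin 2 → F) → ((Fin m ⊕ Fin m) ⊕ Fin 2 → F) → Subgroup G}
    (D : Dbl (minusForm m F a b) t j W) (hG : Grow (minusForm m F a b) t W)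
    (hodd : Odd ((j.range ⊔ Subgroup.zpowers t).relIndex (Subgroup.centralizer ({t} : Set G)))) :
    ∃ μ : G →* ℤˣ, μ t = -1 :=
  Clean.exists_hom_of (big_minus m a b hab hm) (kfacts_minus m a b hab hm) D hG (flag_minus hm a b hab).1 hm
    (delta_minus m a b hab (by omega)) (flag_minus hm a b hab).2.1 hodd

/-- **`Ω^+(2m, q)`, clean case.** -/
theorem end_plus (hm : 4 ≤ m) {j : ↥(E (plusForm m F)) →* G} {W : (Fin m ⊕ Fin m → F) → (Fin m ⊕ Fin m → F) → Subgroup G}
    (D : Dbl (plusForm m F) t j W) (hG : Grow (plusForm m F) t W)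
    (hodd : Odd ((j.range ⊔ Subgroup.zpowers t).relIndex (Subgroup.centralizer ({t} : Set G)))) :
    ∃ μ : G →* ℤˣ, μ t = -1 :=
  Clean.exists_hom_of (big_plus hm) (kfacts_plus hm) D hG (flag_plus hm).1 (by omega)
    (delta_plus (by omega)) (flag_plus hm).2.1 hodd

/-- `Ω^-(2m+2, q)`, if a Sylow 2-subgroup of `C_G(t)` is `⟨t⟩ × UK`. -/
theorem end_minus' (hm : 3 ≤ m) {a b : F}
    (hab : ∀ z₁ z₂ : F, z₁ ^ 2 + a * z₁ * z₂ + b * z₂ ^ 2 = 0 → z₁ = 0 ∧ z₂ = 0)
    {j : ↥(E (minusForm m F a b)) →* G} {W : ((Fin m ⊕ Fin m) ⊕ Fin 2 → F) → ((Fin m ⊕ Fin m) ⊕ Fin 2 → F) → Subgroup G}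
    (D : Dbl (minusForm m F a b) t j W) (hG : Grow (minusForm m F a b) t W)
    (hodd : Odd (((UK (minusForm m F a b) (em m a b hab) (fm m a b hab) m).map j ⊔ Subgroup.zpowers t).relIndex
      (Subgroup.centralizer ({t} : Set G)))) :
    ∃ μ : G →* ℤˣ, μ t = -1 :=
  End.exists_hom D (big_minus m a b hab hm) (kfacts_minus m a b hab hm) hG (flag_minus hm a b hab).1 hm
    (delta_minus m a b hab (by omega)) hodd

/-- `Ω^+(2m, q)`, if a Sylow 2-subgroup of `C_G(t)` is `⟨t⟩ × UK`. -/
theorem end_plus' (hm : 4 ≤ m) {j : ↥(E (plusForm m F)) →* G} {W : (Fin m ⊕ Fin m → F) → (Fin m ⊕ Fin m → F) → Subgroup G}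
    (D : Dbl (plusForm m F) t j W) (hG : Grow (plusForm m F) t W)
    (hodd : Odd (((UK (plusForm m F) (ep m F) (fp m F) m).map j ⊔ Subgroup.zpowers t).relIndex
      (Subgroup.centralizer ({t} : Set G)))) :
    ∃ μ : G →* ℤˣ, μ t = -1 :=
  End.exists_hom D (big_plus hm) (kfacts_plus hm) hG (flag_plus hm).1 (by omega) (delta_plus (by omega)) hodd

end Cfsg.Agent.OddHalf.Orth.KFlagMain

end
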