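import Mathlib
import Cfsg.Agent.OddHalf.Orth.KRho
import Cfsg.Agent.OddHalf.D7Ex.Move

-- merged: Cfsg.Agent.OddHalf.Orth.KIrr
section

/-!
# `W` as a module for the group generated by the `T w z`, `w, z ∈ W`

* `irr_W` : irreducible (additive subgroups);
* `schur_W` : the additive endomorphisms commuting with all `T w z` are scalars.
-/

set_option autoImplicit false
set_option linter.unusedSectionVars false
set_option linter.unusedVariables false

namespace Cfsg.Agent.OddHalf.Orth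

open QuadraticMap Cfsg.Agent.LieClassical.OrthCore Cfsg.Agent.LieClassical.OrthTrans
  Cfsg.Agent.LieClassical.OrthSimple Cfsg.Agent.ClassicalGeometry.OrthAutBasic
  Cfsg.Agent.ClassicalGeometry.OrthAutRoot Face

variable {F V : Type*} [Field F] [AddCommGroup V] [Module F V] {Q : QuadraticForm F V}

variable [CharP F 2] [Finite F] {u v u' v' : V}

/-- decomposition along a hyperbolic pair of `W` -/
theorem mem_N6_sub (h : LF Q u v u' v') {w w' x : V} (hw : In Q u v u' v' w) (hw' : In Q u v u' v' w')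
    (hh : Hyp Q w w') (hx : In Q u v u' v' x) :
    x + polar Q w' x • w + polar Q w x • w' ∈ N6 Q u v u' v' w w' := by
  rw [mem_N6]
  refine ⟨(hx.add (hw.smul _)).add (hw'.smul _), ?_, ?_⟩
  · rw [polar_add_right, polar_add_right, polar_smul_right, polar_smul_right, polar_self2, hh.pair]
    simp [CharTwo.add_self_eq_zero]
  · rw [polar_add_right, polar_add_right, polar_smul_right, polar_smul_right, polar_self2, hh.pair']
    simp [CharTwo.add_self_eq_zero]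

theorem exists_N6_ne (hP : Par Q) (w w' : V) : ∃ z ∈ N6 Q u v u' v' w w', z ≠ 0 := by
  have := hP.fd
  have hd := N6_dim (u := u) (v := v) (u' := u') (v' := v') hP w w'
  have : Nontrivial (N6 Q u v u' v' w w') := Module.nontrivial_of_finrank_pos (R := F) (by omega)
  obtain ⟨⟨x, hx⟩, hx0⟩ := exists_ne (0 : N6 Q u v u' v' w w')
  exact ⟨x, hx, fun h => hx0 (Subtype.ext h)⟩

/-- values of `Q` on a nonzero nondegenerate subspace -/
theorem exists_value (hP : Par Q) (h : LF Q u v u' v') {w w' : V} (hw : In Q u v u' v' w)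
    (hw' : In Q u v u' v' w') (hh : Hyp Q w w') (c : F) : ∃ z ∈ N6 Q u v u' v' w w', Q z = c := by
  have := hP.fd
  have hd := N6_dim (u := u) (v := v) (u' := u') (v' := v') hP w w'
  obtain ⟨z, hz, hz0⟩ := (N6_ns hP.nd h hw hw' hh).exists_nonsing (by omega)
  obtain ⟨d, hd⟩ := exists_sqrt' (c * (Q z)⁻¹)
  refine ⟨d • z, Submodule.smul_mem _ _ hz, ?_⟩
  rw [QuadraticMap.map_smul, ← hd, smul_eq_mul, mul_assoc, inv_mul_cancel₀ hz0, mul_one]

theorem irr_W (hP : Par Q) (h : LF Q u v u' v') (Y : AddSubgroup V) (hY : ∀ y ∈ Y, In Q u v u' v' y)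
    (inv : ∀ w z, In Q u v u' v' w → In Q u v u' v' z → Q w = 0 → polar Q w z = 0 →
      ∀ y ∈ Y, T Q w z y ∈ Y) (hne : ∃ y ∈ Y, y ≠ 0) {x : V} (hx : In Q u v u' v' x) : x ∈ Y := by
  have := hP.fd
  obtain ⟨y, hyY, hy0⟩ := hne
  obtain ⟨b, b', hb, hb', hbb⟩ := hP.exists_pair h
  have h1 : ∃ w, In Q u v u' v' w ∧ Q w = 0 ∧ polar Q w y ≠ 0 := by
    by_contra hcon
    push Not at hcon
    apply hy0
    apply eq_zero_of_in hP.nd h (hY y hyY)
    intro w hw
    refine polar_zero_of_comm ((W4_ns hP.nd h).sing_ind hbb (In.iff_mem.1 hb) (In.iff_mem.1 hb')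
      (P := fun w => polar Q w y = 0) ?_ ?_ w (In.iff_mem.1 hw))
    · intro a c _ _ ha hc
      rw [polar_add_left, ha, hc, add_zero]
    · intro a ha hqa
      exact hcon a (In.iff_mem.2 ha) hqa
  obtain ⟨w, hw, hqw, hwy⟩ := h1
  have hw0 : w ≠ 0 := by rintro rfl; exact hwy (by rw [polar_zero_left])
  obtain ⟨w', hw'', hh⟩ := (W4_ns hP.nd h).exists_hyp (In.iff_mem.1 hw) hw0 hqw
  have hw' := In.iff_mem.2 hw''
  set s := polar Q w y with hs
  have hD : ∀ z ∈ N6 Q u v u' v' w w', s • z + (polar Q z y + Q z * s) • w ∈ Y := by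
    intro z hz
    obtain ⟨hz1, hz2, hz3⟩ := mem_N6.1 hz
    have h2 := Y.sub_mem (inv w z hw hz1 hqw hz2 y hyY) hyY
    rw [T_apply2 hqw hz2] at h2
    have e : y + polar Q w y • z + (polar Q z y + Q z * polar Q w y) • w - y =
      s • z + (polar Q z y + Q z * s) • w := by rw [hs]; abel
    rwa [e] at h2
  have hN := N6_ns hP.nd h hw hw' hh
  have hwY : ∀ c : F, c • w ∈ Y := by
    intro c
    obtain ⟨z1, hz1, hz10⟩ := exists_N6_ne (u := u) (v := v) (u' := u') (v' := v') hP w w'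
    obtain ⟨z2, hz2, e⟩ := hN.exists_eq hz1 hz10 (c * s⁻¹)
    have h3 := Y.add_mem (Y.add_mem (hD _ (Submodule.add_mem _ hz1 hz2)) (hD z1 hz1)) (hD z2 hz2)
    have h4 : s • (z1 + z2) + (polar Q (z1 + z2) y + Q (z1 + z2) * s) • w +
        (s • z1 + (polar Q z1 y + Q z1 * s) • w) + (s • z2 + (polar Q z2 y + Q z2 * s) • w) = c • w := by
      rw [Q_add, e, polar_add_left]
      have h2 : (2 : F) = 0 := CharTwo.two_eq_zero
      have h5 : c * s⁻¹ * s = c := by rw [mul_assoc, inv_mul_cancel₀ hwy, mul_one]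
      have h6 : c • w = (c * s⁻¹ * s) • w := by rw [h5]
      rw [h6]
      linear_combination (norm := module) h2 • (s • z1 + s • z2 + (polar Q z1 y + polar Q z2 y + Q z1 * s +
        Q z2 * s) • w)
    rwa [h4] at h3
  have hNY : ∀ z ∈ N6 Q u v u' v' w w', z ∈ Y := by
    intro z hz
    have h3 := Y.sub_mem (hD _ (Submodule.smul_mem _ s⁻¹ hz)) (hwY (polar Q (s⁻¹ • z) y + Q (s⁻¹ • z) * s))
    rwa [add_sub_cancel_right, smul_smul, mul_inv_cancel₀ hwy, one_smul] at h3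
  have hwY' : ∀ c : F, c • w' ∈ Y := by
    intro c
    obtain ⟨z, hz, e⟩ := exists_value hP h hw hw' hh c
    obtain ⟨hz1, hz2, hz3⟩ := mem_N6.1 hz
    have h3 := inv w' z hw' hz1 hh.right hz3 w (by simpa using hwY 1)
    rw [T_apply2 hh.right hz3, hh.pair', polar_zero_of_comm hz2, e, one_smul, mul_one, zero_add] at h3
    have h4 := Y.sub_mem (Y.sub_mem h3 (by simpa using hwY 1 : w ∈ Y)) (hNY z hz)
    have e2 : w + z + c • w' - w - z = c • w' := by abel
    rwa [e2] at h4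
  have h5 := Y.sub_mem (Y.sub_mem (hNY _ (mem_N6_sub h hw hw' hh hx)) (hwY' (polar Q w x))) (hwY (polar Q w' x))
  have e3 : x + polar Q w' x • w + polar Q w x • w' - polar Q w x • w' - polar Q w' x • w = x := by abel
  rwa [e3] at h5

/-- Schur -/
theorem schur_W (hP : Par Q) (h : LF Q u v u' v') {B : V → V}
    (hadd : ∀ x y, In Q u v u' v' x → In Q u v u' v' y → B (x + y) = B x + B y)
    (hB : ∀ x, In Q u v u' v' x → In Q u v u' v' (B x))
    (comm : ∀ w z, In Q u v u' v' w → In Q u v u' v' z → Q w = 0 → polar Q w z = 0 →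
      ∀ x, In Q u v u' v' x → B (T Q w z x) = T Q w z (B x)) :
    ∃ α : F, ∀ x, In Q u v u' v' x → B x = α • x := by
  have := hP.fd
  -- singular vectors are eigenvectors
  have hsing : ∀ w w', In Q u v u' v' w → In Q u v u' v' w' → Hyp Q w w' → ∃ α : F, B w = α • w := by
    intro w w' hw hw' hh
    have hx := hB w hw
    set x := B w with hxd
    have hN := N6_ns hP.nd h hw hw' hh
    have key : ∀ z ∈ N6 Q u v u' v' w w', polar Q w x • z + (polar Q z x + Q z * polar Q w x) • w = 0 := by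
      intro z hz
      obtain ⟨hz1, hz2, hz3⟩ := mem_N6.1 hz
      have h1 := comm w z hw hz1 hh.left hz2 w hw
      rw [T_apply_self hh.left hz2, ← hxd, T_apply2 hh.left hz2, add_assoc] at h1
      exact (add_eq_left.1 h1.symm)
    have key2 : ∀ z ∈ N6 Q u v u' v' w w', polar Q z x + Q z * polar Q w x = 0 := by
      intro z hz
      have h1 := congrArg (polar Q w') (key z hz)
      rw [polar_add_right, polar_smul_right, polar_smul_right, (mem_N6.1 hz).2.2, hh.pair',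
        polar_zero_right] at h1
      simpa using h1
    obtain ⟨z1, hz1, hz10⟩ := exists_N6_ne (u := u) (v := v) (u' := u') (v' := v') hP w w'
    have hwx : polar Q w x = 0 := by
      have h1 := key z1 hz1
      rw [key2 z1 hz1, zero_smul, add_zero] at h1
      exact (smul_eq_zero.1 h1).resolve_right hz10
    have hzx : ∀ z ∈ N6 Q u v u' v' w w', polar Q z x = 0 := by
      intro z hz
      have h1 := key2 z hz
      rwa [hwx, mul_zero, add_zero] at h1
    have hn := mem_N6_sub h hw hw' hh hx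
    rw [hwx, zero_smul, add_zero] at hn
    have hn0 : x + polar Q w' x • w = 0 := by
      by_contra hne
      obtain ⟨z, hz, hne2⟩ := hN.nd _ hn hne
      apply hne2
      rw [polar_add_left, polar_smul_left, (mem_N6.1 hz).2.1, polar_zero_of_comm (hzx z hz)]; simp
    refine ⟨polar Q w' x, ?_⟩
    have h2 : x = -(polar Q w' x • w) := eq_neg_of_add_eq_zero_left hn0
    rw [neg_eq' (F := F)] at h2
    exact h2
  obtain ⟨w, w', hw, hw', hh⟩ := hP.exists_pair h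
  -- computation of `B` on `N6`
  have half : ∀ w w', In Q u v u' v' w → In Q u v u' v' w' → Hyp Q w w' → ∀ z ∈ N6 Q u v u' v' w w',
      Q z ≠ 0 → ∀ α' : F, B w' = α' • w' → ∃ γ β : F, B (Q z • w) = β • (Q z • w) ∧
        B z = α' • z + (α' + β) • (Q z • w) := by
    intro w w' hw hw' hh z hz hqz α' hα'
    obtain ⟨hz1, hz2, hz3⟩ := mem_N6.1 hz
    have hh2 : Hyp Q (Q z • w) ((Q z)⁻¹ • w') := ⟨by rw [QuadraticMap.map_smul, hh.left, smul_zero],
      by rw [QuadraticMap.map_smul, hh.right, smul_zero], by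
        rw [polar_smul_left, polar_smul_right, hh.pair]; simp [mul_inv_cancel₀ hqz]⟩
    obtain ⟨β, hβ⟩ := hsing _ _ (hw.smul (Q z)) (hw'.smul _) hh2
    refine ⟨0, β, hβ, ?_⟩
    have h1 := comm w z hw hz1 hh.left hz2 w' hw'
    rw [hα', map_smul, T_apply2 hh.left hz2, hh.pair, polar_zero_of_comm hz3, one_smul, mul_one, zero_add,
      hadd _ _ (hw'.add hz1) (hw.smul _), hadd _ _ hw' hz1, hα', hβ] at h1
    have h2 : (2 : F) = 0 := CharTwo.two_eq_zero
    linear_combination (norm := module) h1 - h2 • (β • (Q z • w))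
  obtain ⟨α, hα⟩ := hsing w w' hw hw' hh
  obtain ⟨α', hα'⟩ := hsing w' w hw' hw hh.symm
  have hsymm : ∀ z, z ∈ N6 Q u v u' v' w w' → z ∈ N6 Q u v u' v' w' w := fun z hz => by
    rw [mem_N6] at hz ⊢
    exact ⟨hz.1, hz.2.2, hz.2.1⟩
  have main : ∀ z ∈ N6 Q u v u' v' w w', Q z ≠ 0 → α = α' ∧ B z = α • z ∧
      B (Q z • w) = α • (Q z • w) ∧ B (Q z • w') = α • (Q z • w') := by
    intro z hz hqz
    obtain ⟨-, β, hβ, e1⟩ := half w w' hw hw' hh z hz hqz α' hα'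
    obtain ⟨-, β', hβ', e2⟩ := half w' w hw' hw hh.symm z (hsymm z hz) hqz α hα
    obtain ⟨hz1, hz2, hz3⟩ := mem_N6.1 hz
    have e3 := e1.symm.trans e2
    have c1 := congrArg (polar Q w') e3
    have c2 := congrArg (polar Q w) e3
    simp only [polar_add_right, polar_smul_right, hz2, hz3, hh.pair, hh.pair', polar_self2, smul_eq_mul,
      mul_zero, zero_add, add_zero, mul_one] at c1 c2
    have d1 : α' + β = 0 := (mul_eq_zero.1 c1).resolve_right hqz
    have d2 : α + β' = 0 := (mul_eq_zero.1 c2.symm).resolve_right hqz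
    rw [d1, d2, zero_smul, zero_smul, add_zero, add_zero] at e3
    have hz0 : z ≠ 0 := by rintro rfl; exact hqz (QuadraticMap.map_zero Q)
    have d3 : α' = α := by
      have : (α' - α) • z = 0 := by rw [sub_smul, e3, sub_self]
      exact sub_eq_zero.1 ((smul_eq_zero.1 this).resolve_right hz0)
    have d4 : β = α' := by
      have := eq_neg_of_add_eq_zero_left d1
      rw [CharTwo.neg_eq] at this
      exact this.symm
    have d5 : β' = α := by
      have := eq_neg_of_add_eq_zero_left d2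
      rw [CharTwo.neg_eq] at this
      exact this.symm
    refine ⟨d3.symm, ?_, ?_, ?_⟩
    · rw [e2, d2, zero_smul, add_zero]
    · rw [hβ, d4, d3]
    · rw [hβ', d5]
  refine ⟨α, fun x hx => ?_⟩
  have h0 : B 0 = 0 := by
    have := hadd 0 0 In.zero In.zero
    rw [add_zero] at this
    simpa using this
  have hc : ∀ c : F, B (c • w) = α • (c • w) ∧ B (c • w') = α • (c • w') := by
    intro c
    by_cases hc0 : c = 0
    · rw [hc0, zero_smul, zero_smul, h0, smul_zero]; exact ⟨rfl, rfl⟩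
    · obtain ⟨z, hz, e⟩ := exists_value hP h hw hw' hh c
      obtain ⟨-, -, h1, h2⟩ := main z hz (by rw [e]; exact hc0)
      rw [e] at h1 h2
      exact ⟨h1, h2⟩
  have hn := mem_N6_sub h hw hw' hh hx
  set n := x + polar Q w' x • w + polar Q w x • w' with hnd
  have hBn : B n = α • n := by
    by_cases hn0 : n = 0
    · rw [hn0, h0, smul_zero]
    · rcases (N6_ns hP.nd h hw hw' hh).two (N6_rich hP h hw hw' hh) hn hn0 with h1 | ⟨a, ha, b, hb, ha0, hb0, e⟩
      · exact (main n hn h1).2.1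
      · rw [e, hadd a b (mem_N6.1 ha).1 (mem_N6.1 hb).1, (main a ha ha0).2.1, (main b hb hb0).2.1, smul_add]
  have ex : x = n + polar Q w' x • w + polar Q w x • w' := by
    have h2 : (2 : F) = 0 := CharTwo.two_eq_zero
    rw [hnd]
    linear_combination (norm := module) -h2 • (polar Q w' x • w + polar Q w x • w')
  have hnI := (mem_N6.1 hn).1
  clear_value n
  have e5 : B x = B (n + polar Q w' x • w + polar Q w x • w') := congrArg B ex
  rw [hadd _ _ (hnI.add (hw.smul _)) (hw'.smul _), hadd _ _ hnI (hw.smul _), hBn, (hc _).1, (hc _).2,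
    ← smul_add, ← smul_add, ← ex] at e5
  exact e5

end Cfsg.Agent.OddHalf.Orth

end

-- merged: Cfsg.Agent.OddHalf.Orth.KO2
section

/-!
# `O_2(P) = QL`
-/

set_option autoImplicit false
set_option linter.unusedSectionVars false
set_option linter.unusedVariables false
set_option linter.style.haveILetI false

namespace Cfsg.Agent.OddHalf.Orth

open QuadraticMap Cfsg.Agent.LieClassical.OrthCore Cfsg.Agent.LieClassical.OrthTrans
  Cfsg.Agent.LieClassical.OrthSimple Cfsg.Agent.ClassicalGeometry.OrthAutBasic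
  Cfsg.Agent.ClassicalGeometry.OrthAutRoot Face

variable {F V : Type*} [Field F] [AddCommGroup V] [Module F V] {Q : QuadraticForm F V}

variable [CharP F 2] [Finite F] {u v u' v' : V}

/-- a 2-group acting on a nonzero finite space has a nonzero fixed vector -/
theorem exists_fixed [FiniteDimensional F V] {G : Type*} [Group G] {R : Subgroup G} (hR : IsPGroup 2 R)
    (A : Submodule F V) (φ : G → V → V) (h1 : ∀ x ∈ A, φ 1 x = x)
    (hm : ∀ g ∈ R, ∀ g' ∈ R, ∀ x ∈ A, φ (g * g') x = φ g (φ g' x))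
    (hA : ∀ g ∈ R, ∀ x ∈ A, φ g x ∈ A) (h0 : ∀ g ∈ R, φ g 0 = 0) (hne : ∃ x ∈ A, x ≠ 0) :
    ∃ x ∈ A, x ≠ 0 ∧ ∀ g ∈ R, φ g x = x := by
  have : Finite V := Module.finite_of_finite F
  letI act : MulAction R A :=
    { smul := fun g x => ⟨φ g x, hA g g.2 x x.2⟩
      one_smul := fun x => Subtype.ext (h1 x x.2)
      mul_smul := fun g g' x => Subtype.ext (hm g g.2 g' g'.2 x x.2) }
  obtain ⟨x0, hx0, hx00⟩ := hne
  have hdvd : 2 ∣ Nat.card A := by
    rw [Module.natCard_eq_pow_finrank (K := F)]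
    have hpos : Module.finrank F A ≠ 0 := by
      have : Nontrivial A := ⟨⟨⟨x0, hx0⟩, 0, fun e => hx00 (congrArg Subtype.val e)⟩⟩
      exact (Module.finrank_pos).ne'
    refine dvd_pow ?_ hpos
    have h2 := odd_card_sub_one (F := F)
    have h3 : 1 ≤ Nat.card F := Nat.card_pos
    obtain ⟨k, hk⟩ := h2
    exact ⟨k + 1, by omega⟩
  haveI : Fact (Nat.Prime 2) := ⟨Nat.prime_two⟩
  have hfix0 : (0 : A) ∈ MulAction.fixedPoints R A := fun g => Subtype.ext (h0 g g.2)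
  obtain ⟨b, hb, hne⟩ := hR.exists_fixed_point_of_prime_dvd_card_of_fixed_point A hdvd hfix0
  refine ⟨b, b.2, fun e => hne (Subtype.ext e.symm), fun g hg => ?_⟩
  exact congrArg Subtype.val (hb ⟨g, hg⟩)

/-- for vectors perpendicular to the line -/
theorem decomp_perp (h : LF Q u v u' v') {x : V} (hu : polar Q u x = 0) (hv : polar Q v x = 0) :
    ∃ m ∈ L F u v, x = pW Q u v u' v' x + m := by
  refine ⟨polar Q u' x • u + polar Q v' x • v, mem_L.2 ⟨_, _, rfl⟩, ?_⟩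
  have e := decomp (Q := Q) u v u' v' x
  rw [hu, hv, zero_smul, zero_smul, add_zero, add_zero] at e
  rw [← add_assoc]
  exact e

theorem pW_L (h : LF Q u v u' v') {m : V} (hm : m ∈ L F u v) : pW Q u v u' v' m = 0 := by
  obtain ⟨a, b, rfl⟩ := mem_L.1 hm
  rw [map_add, map_smul, map_smul, pW_u h, pW_v h, smul_zero, smul_zero, add_zero]

/-- `pW (g x)` is an action of `NL` -/
theorem pW_act (h : LF Q u v u' v') {g g' : ↥(E Q)} (hg : g ∈ NL Q u v) (hg' : g' ∈ NL Q u v) {x : V}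
    (hx : In Q u v u' v' x) : pW Q u v u' v' (((g * g' : ↥(E Q)) : V ≃ₗ[F] V) x) =
      pW Q u v u' v' ((g : V ≃ₗ[F] V) (pW Q u v u' v' ((g' : V ≃ₗ[F] V) x))) := by
  obtain ⟨h1, h2⟩ := NL_perp hg' hx.u hx.v
  obtain ⟨m, hm, e⟩ := decomp_perp h h1 h2
  rw [coe_mul']
  nth_rewrite 1 [e]
  rw [map_add, map_add, pW_L h ((mem_NL.1 hg m).2 hm), add_zero]

theorem TW_in {w z : V} (hw : In Q u v u' v' w) (hz : In Q u v u' v' z)
    (hq : Q w = 0) (hwz : polar Q w z = 0) {x : V} (hx : In Q u v u' v' x) : In Q u v u' v' (T Q w z x) := by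
  rw [T_apply2 hq hwz]
  exact (hx.add (hz.smul _)).add (hw.smul _)

/-- A 2-subgroup of `P` normalised by `P` lies in `QL`. -/
theorem o2 (hP : Par Q) (h : LF Q u v u' v') {R : Subgroup ↥(E Q)} (hRP : R ≤ P Q u v h.qu h.uv)
    (hR : IsPGroup 2 R) (hn : ∀ p ∈ P Q u v h.qu h.uv, ∀ r ∈ R, p * r * p⁻¹ ∈ R) : R ≤ QL Q u v := by
  have := hP.fd
  have hRN : R ≤ NL Q u v := hRP.trans (P_le_NL hP.nd h)
  have hn' : ∀ p ∈ P Q u v h.qu h.uv, ∀ r ∈ R, p⁻¹ * r * p ∈ R := fun p hp r hr => by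
    simpa using hn p⁻¹ (inv_mem hp) r hr
  -- the line
  obtain ⟨y, hy, hy0, hyf⟩ := exists_fixed (F := F) hR (L F u v) (fun g x => (g : V ≃ₗ[F] V) x)
    (fun x _ => rfl) (fun g _ g' _ x _ => rfl) (fun g hg x hx => (mem_NL.1 (hRN hg) x).2 hx)
    (fun g _ => map_zero _) ⟨u, left_mem_L _ _, h.h1.left_ne⟩
  have hmove : ∀ p ∈ P Q u v h.qu h.uv, ∀ x, (∀ r ∈ R, (r : V ≃ₗ[F] V) x = x) →
      ∀ r ∈ R, (r : V ≃ₗ[F] V) ((p : V ≃ₗ[F] V) x) = (p : V ≃ₗ[F] V) x := by
    intro p hp x hx r hr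
    have e : r * p = p * (p⁻¹ * r * p) := by group
    rw [← coe_mul', e, coe_mul', hx _ (hn' p hp r hr)]
  have hsm : ∀ (c : F), c ≠ 0 → ∀ x, (∀ r ∈ R, (r : V ≃ₗ[F] V) (c • x) = c • x) →
      ∀ r ∈ R, (r : V ≃ₗ[F] V) x = x := by
    intro c hc x hx r hr
    have h1 := hx r hr
    rw [map_smul] at h1
    exact smul_right_injective V hc h1
  have hfu : ∀ r ∈ R, (r : V ≃ₗ[F] V) u = u := by
    obtain ⟨α, β, rfl⟩ := mem_L.1 hy
    by_cases hβ : β = 0
    · subst hβ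
      rw [zero_smul, add_zero] at hyf hy0
      have hα : α ≠ 0 := by rintro rfl; exact hy0 (zero_smul _ _)
      exact hsm α hα u hyf
    · by_cases hθ : ∃ θ : F, θ ≠ 0 ∧ θ ≠ 1
      · obtain ⟨θ, hθ, hθ'⟩ := hθ
        have h1 := hmove _ (tau_mem_P hP h hθ hθ' 1) _ hyf
        apply hsm β hβ u
        intro r hr
        have h2 := h1 r hr
        rw [map_add (tau Q u v' 1 : V ≃ₗ[F] V), map_smul, map_smul, tau_u h, tau_v h, one_smul,
          show α • u + β • (v + u) = (α • u + β • v) + β • u by module, map_add, hyf r hr] at h2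
        exact add_left_cancel h2
      · push Not at hθ
        have h01 : ∀ c : F, c = 0 ∨ c = 1 := fun c => by
          by_cases hc : c = 0
          · exact Or.inl hc
          · exact Or.inr (hθ c hc)
        have hβ1 : β = 1 := (h01 β).resolve_left hβ
        subst hβ1
        have h1 := hmove _ (rho_mem_P h) _ hyf
        rcases h01 α with rfl | rfl
        · have h2 := hmove _ (rho_mem_P h) _ h1
          intro r hr
          have h3 := h2 r hr
          rw [zero_smul, zero_add, one_smul, rho_v h, map_add, rho_u h, rho_v h,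
            show v + (u + v) = u + (v + v) by abel, add_self' (F := F), add_zero] at h3
          exact h3
        · intro r hr
          have h3 := h1 r hr
          rw [one_smul, one_smul, map_add, rho_u h, rho_v h,
            show v + (u + v) = u + (v + v) by abel, add_self' (F := F), add_zero] at h3
          exact h3
  have hfv : ∀ r ∈ R, (r : V ≃ₗ[F] V) v = v := by
    intro r hr
    have h1 := hmove _ (rho_mem_P h) _ hfu r hr
    rwa [rho_u h] at h1
  -- `W`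
  obtain ⟨b, b', hb, hb', hbb⟩ := hP.exists_pair h
  obtain ⟨x0, hx0, hx00, hxf⟩ := exists_fixed (F := F) hR (W4 Q u v u' v')
    (fun g x => pW Q u v u' v' ((g : V ≃ₗ[F] V) x)) (fun x hx => pW_of_in (In.iff_mem.2 hx))
    (fun g hg g' hg' x hx => pW_act h (hRN hg) (hRN hg') (In.iff_mem.2 hx))
    (fun g hg x hx => In.iff_mem.1 (pW_in h _)) (fun g _ => by
      show pW Q u v u' v' ((g : V ≃ₗ[F] V) 0) = 0
      rw [map_zero, map_zero])
    ⟨b, In.iff_mem.1 hb, hbb.left_ne⟩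
  let Y : AddSubgroup V :=
    { carrier := {x | In Q u v u' v' x ∧ ∀ r ∈ R, pW Q u v u' v' ((r : V ≃ₗ[F] V) x) = x}
      zero_mem' := ⟨In.zero, fun r _ => by rw [map_zero, map_zero]⟩
      add_mem' := by
        rintro x y ⟨hx, hx2⟩ ⟨hy, hy2⟩
        exact ⟨hx.add hy, fun r hr => by rw [map_add, map_add, hx2 r hr, hy2 r hr]⟩
      neg_mem' := by
        rintro x ⟨hx, hx2⟩
        rw [neg_eq' (F := F)]
        exact ⟨hx, hx2⟩ }
  have hYW : ∀ x, In Q u v u' v' x → x ∈ Y := by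
    intro x hx
    refine irr_W hP h Y (fun y hy => hy.1) ?_ ⟨x0, ⟨In.iff_mem.2 hx0, hxf⟩, hx00⟩ hx
    rintro w z hw hz hq hwz y ⟨hy1, hy2⟩
    refine ⟨TW_in hw hz hq hwz hy1, fun r hr => ?_⟩
    have hp := TW_mem_P hP h hw hz hq hwz
    have hpN := P_le_NL hP.nd h hp
    have hr' := hn' _ hp r hr
    have e : r * tE Q w z = tE Q w z * ((tE Q w z)⁻¹ * r * tE Q w z) := by group
    have h1 : (r : V ≃ₗ[F] V) (T Q w z y) = ((r * tE Q w z : ↥(E Q)) : V ≃ₗ[F] V) y := rfl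
    rw [h1, e, pW_act h hpN (hRN hr') hy1, hy2 _ hr', coe_tE, pW_of_in (TW_in hw hz hq hwz hy1)]
  intro r hr
  refine ⟨hfu r hr, hfv r hr, fun w h1 h2 => ?_⟩
  obtain ⟨m, hm, e⟩ := decomp_perp h h1 h2
  have hWw := (hYW _ (pW_in h w)).2 r hr
  have hpw := pW_in h w
  set y := pW Q u v u' v' w with hyd
  obtain ⟨h3, h4⟩ := NL_perp (hRN hr) hpw.u hpw.v
  obtain ⟨m', hm', e'⟩ := decomp_perp h h3 h4
  rw [hWw] at e'
  obtain ⟨a, b, e3⟩ := mem_L.1 hm'
  refine ⟨a, b, ?_⟩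
  have hrm : (r : V ≃ₗ[F] V) m = m := by
    obtain ⟨c, d, rfl⟩ := mem_L.1 hm
    rw [map_add, map_smul, map_smul, hfu r hr, hfv r hr]
  rw [e, map_add, e', hrm, ← e3]
  abel

/-- `QL` is a 2-group -/
theorem QL_pow (h : LF Q u v u' v') {g : ↥(E Q)} (hg : g ∈ QL Q u v) :
    g * g ∈ X Q u v h.qu h.uv ∧ g ^ 4 = 1 := by
  have h1 : g * g ∈ X Q u v h.qu h.uv := by
    rw [mem_X_iff h (mul_mem hg hg), xc_mul h hg hg, yc_mul h hg hg, add_self' (F := F), add_self' (F := F)]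
    exact ⟨rfl, rfl⟩
  refine ⟨h1, ?_⟩
  obtain ⟨c, e⟩ := mem_X.1 h1
  have : g ^ 4 = (g * g) * (g * g) := by simp [pow_succ, mul_assoc]
  rw [this, e, tE_mul_self h.qu (perp_smul_v h c)]

theorem isPGroup_QL (h : LF Q u v u' v') : IsPGroup 2 (QL Q u v) := by
  rintro ⟨g, hg⟩
  exact ⟨2, Subtype.ext (by
    show g ^ (2 ^ 2) = 1
    exact (QL_pow h hg).2)⟩

end Cfsg.Agent.OddHalf.Orth

end

-- merged: Cfsg.Agent.OddHalf.Orth.KCom
section

/-!
# The commutant of `P` on `QL / X`, and `H^0(P, Hom(QL/X, X)/Inn QL) = 0`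
-/

set_option autoImplicit false
set_option linter.unusedSectionVars false
set_option linter.unusedVariables false
set_option linter.style.haveILetI false

namespace Cfsg.Agent.OddHalf.Orth

open QuadraticMap Cfsg.Agent.LieClassical.OrthCore Cfsg.Agent.LieClassical.OrthTrans
  Cfsg.Agent.LieClassical.OrthSimple Cfsg.Agent.ClassicalGeometry.OrthAutBasic
  Cfsg.Agent.ClassicalGeometry.OrthAutRoot Face

variable {F V : Type*} [Field F] [AddCommGroup V] [Module F V] {Q : QuadraticForm F V}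

variable [CharP F 2] [Finite F] {u v u' v' : V}

/-- a multiplicative map of `QL` preserving `X` and commuting with the `T w z` and `rho` modulo `X` -/
structure Cmt (h : LF Q u v u' v') (α : ↥(E Q) → ↥(E Q)) : Prop where
  mem : ∀ k ∈ QL Q u v, α k ∈ QL Q u v
  mul : ∀ k ∈ QL Q u v, ∀ k' ∈ QL Q u v, α (k * k') = α k * α k'
  mX : ∀ k ∈ X Q u v h.qu h.uv, α k ∈ X Q u v h.qu h.uv
  comm : ∀ w z, In Q u v u' v' w → In Q u v u' v' z → Q w = 0 → polar Q w z = 0 → ∀ k ∈ QL Q u v,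
    α (tE Q w z * k * (tE Q w z)⁻¹) * (tE Q w z * α k * (tE Q w z)⁻¹)⁻¹ ∈ X Q u v h.qu h.uv
  crho : ∀ k ∈ QL Q u v, α (rho Q u v u' v' * k * (rho Q u v u' v')⁻¹) *
    (rho Q u v u' v' * α k * (rho Q u v u' v')⁻¹)⁻¹ ∈ X Q u v h.qu h.uv

namespace Cmt
variable {h : LF Q u v u' v'} {α : ↥(E Q) → ↥(E Q)}

theorem tE_split (h : LF Q u v u' v') {k : ↥(E Q)} (hk : k ∈ QL Q u v) : ∃ x ∈ X Q u v h.qu h.uv,
    k = tE Q u (xc Q u v u' v' k) * tE Q v (yc Q u v u' v' k) * x := by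
  obtain ⟨c, e⟩ := exists_q' h hk
  exact ⟨_, mem_X.2 ⟨c, rfl⟩, e⟩

/-- the coordinates of `α k` in terms of those of `α (T u x)`, `α (T v y)` -/
theorem coords_split (mem : ∀ k ∈ QL Q u v, α k ∈ QL Q u v)
    (mul : ∀ k ∈ QL Q u v, ∀ k' ∈ QL Q u v, α (k * k') = α k * α k')
    (hX : ∀ k ∈ X Q u v h.qu h.uv, α k ∈ X Q u v h.qu h.uv) {k : ↥(E Q)} (hk : k ∈ QL Q u v) :
    xc Q u v u' v' (α k) = xc Q u v u' v' (α (tE Q u (xc Q u v u' v' k))) +
        xc Q u v u' v' (α (tE Q v (yc Q u v u' v' k))) ∧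
      yc Q u v u' v' (α k) = yc Q u v u' v' (α (tE Q u (xc Q u v u' v' k))) +
        yc Q u v u' v' (α (tE Q v (yc Q u v u' v' k))) := by
  obtain ⟨x, hx, e⟩ := tE_split h hk
  have hxi := xc_in h k
  have hyi := yc_in h k
  set a := xc Q u v u' v' k
  set b := yc Q u v u' v' k
  have ha := tE_QL h hxi
  have hb := tE_QL' h hyi
  have hxQ := X_le_QL h hx
  have hαx := hX x hx
  obtain ⟨c1, c2⟩ := (mem_X_iff h (X_le_QL h hαx)).1 hαx
  rw [e, mul _ (mul_mem ha hb) _ hxQ, mul _ ha _ hb,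
    xc_mul h (mul_mem (mem _ ha) (mem _ hb)) (mem _ hxQ), xc_mul h (mem _ ha) (mem _ hb),
    yc_mul h (mul_mem (mem _ ha) (mem _ hb)) (mem _ hxQ), yc_mul h (mem _ ha) (mem _ hb), c1, c2,
    add_zero, add_zero]
  exact ⟨rfl, rfl⟩

theorem coords (hP : Par Q) (C : Cmt h α) : ∃ r s : F, ∀ k ∈ QL Q u v,
    xc Q u v u' v' (α k) = r • xc Q u v u' v' k + s • yc Q u v u' v' k ∧
    yc Q u v u' v' (α k) = s • xc Q u v u' v' k + (r + s) • yc Q u v u' v' k := by
  have hco : ∀ w z, In Q u v u' v' w → In Q u v u' v' z → Q w = 0 → polar Q w z = 0 → ∀ k ∈ QL Q u v,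
      xc Q u v u' v' (α (tE Q w z * k * (tE Q w z)⁻¹)) = T Q w z (xc Q u v u' v' (α k)) ∧
      yc Q u v u' v' (α (tE Q w z * k * (tE Q w z)⁻¹)) = T Q w z (yc Q u v u' v' (α k)) := by
    intro w z hw hz hq hwz k hk
    have hN := P_le_NL hP.nd h (TW_mem_P hP h hw hz hq hwz)
    have h1 := C.comm w z hw hz hq hwz k hk
    rw [mul_inv_mem_X_iff h (C.mem _ (QL_conj hN hk)) (QL_conj hN (C.mem k hk))] at h1
    obtain ⟨e1, e2⟩ := coords_TW h hw hz hq hwz (C.mem k hk)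
    rw [h1.1, h1.2, e1, e2]
    exact ⟨rfl, rfl⟩
  have hu : ∀ w z x, In Q u v u' v' w → In Q u v u' v' z → In Q u v u' v' x →
      tE Q w z * tE Q u x * (tE Q w z)⁻¹ = tE Q u (T Q w z x) := by
    intro w z x hw hz hx
    rw [tE_conj, coe_tE, T_fix hw.ru hz.ru]
  have hv : ∀ w z x, In Q u v u' v' w → In Q u v u' v' z → In Q u v u' v' x →
      tE Q w z * tE Q v x * (tE Q w z)⁻¹ = tE Q v (T Q w z x) := by
    intro w z x hw hz hx
    rw [tE_conj, coe_tE, T_fix hw.rv hz.rv]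
  obtain ⟨r, hr⟩ := schur_W hP h (B := fun x => xc Q u v u' v' (α (tE Q u x)))
    (fun x y hx hy => by
      show xc Q u v u' v' (α (tE Q u (x + y))) = _
      rw [← tE_mul h.qu hx.u hy.u, C.mul _ (tE_QL h hx) _ (tE_QL h hy),
        xc_mul h (C.mem _ (tE_QL h hx)) (C.mem _ (tE_QL h hy))])
    (fun x hx => xc_in h _)
    (fun w z hw hz hq hwz x hx => by
      show xc Q u v u' v' (α (tE Q u (T Q w z x))) = _
      rw [← hu w z x hw hz hx, (hco w z hw hz hq hwz _ (tE_QL h hx)).1])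
  obtain ⟨s, hs⟩ := schur_W hP h (B := fun x => yc Q u v u' v' (α (tE Q u x)))
    (fun x y hx hy => by
      show yc Q u v u' v' (α (tE Q u (x + y))) = _
      rw [← tE_mul h.qu hx.u hy.u, C.mul _ (tE_QL h hx) _ (tE_QL h hy),
        yc_mul h (C.mem _ (tE_QL h hx)) (C.mem _ (tE_QL h hy))])
    (fun x hx => yc_in h _)
    (fun w z hw hz hq hwz x hx => by
      show yc Q u v u' v' (α (tE Q u (T Q w z x))) = _
      rw [← hu w z x hw hz hx, (hco w z hw hz hq hwz _ (tE_QL h hx)).2])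
  have hρN := P0_le_NL' h
  have hρ : ∀ x, In Q u v u' v' x → xc Q u v u' v' (α (tE Q v x)) = s • x ∧
      yc Q u v u' v' (α (tE Q v x)) = (r + s) • x := by
    intro x hx
    have e1 : rho Q u v u' v' * tE Q u x * (rho Q u v u' v')⁻¹ = tE Q v x := by
      rw [tE_conj, rho_u h, rho_w h hx]
    have h1 := C.crho _ (tE_QL h hx)
    rw [mul_inv_mem_X_iff h (C.mem _ (QL_conj hρN (tE_QL h hx))) (QL_conj hρN (C.mem _ (tE_QL h hx))), e1] at h1
    obtain ⟨e2, e3⟩ := coords_rho h (C.mem _ (tE_QL h hx))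
    rw [h1.1, h1.2, e2, e3]
    have h2 := hr x hx
    have h3 := hs x hx
    rw [h2, h3, add_smul]
    exact ⟨rfl, rfl⟩
  refine ⟨r, s, fun k hk => ?_⟩
  obtain ⟨e1, e2⟩ := coords_split (h := h) C.mem C.mul C.mX hk
  have h2 := hr _ (xc_in h k)
  have h3 := hs _ (xc_in h k)
  obtain ⟨h4, h5⟩ := hρ _ (yc_in h k)
  rw [e1, e2, h2, h3, h4, h5]
  exact ⟨rfl, rfl⟩

end Cmt

/-! ### Representation of functionals on `W` -/

theorem repr_W (hP : Par Q) (h : LF Q u v u' v') {f : V → F}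
    (hadd : ∀ x y, In Q u v u' v' x → In Q u v u' v' y → f (x + y) = f x + f y)
    (hsm : ∀ (c : F) x, In Q u v u' v' x → f (c • x) = c * f x) :
    ∃ y, In Q u v u' v' y ∧ ∀ x, In Q u v u' v' x → f x = polar Q x y := by
  have := hP.fd
  let g : V →ₗ[F] F :=
    { toFun := fun x => f (pW Q u v u' v' x)
      map_add' := fun x y => by rw [map_add, hadd _ _ (pW_in h x) (pW_in h y)]
      map_smul' := fun c x => by rw [map_smul, hsm c _ (pW_in h x)]; rfl }
  have hinj : Function.Injective (polarBilin Q) := by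
    rw [← LinearMap.ker_eq_bot, LinearMap.ker_eq_bot']
    intro x hx
    exact hP.nd x fun y => by
      have := congrArg (fun f => f y) hx
      simpa using this
  have hsurj : Function.Surjective (polarBilin Q) := by
    have hdim : Module.finrank F V = Module.finrank F (Module.Dual F V) := (Subspace.dual_finrank_eq).symm
    exact (LinearMap.injective_iff_surjective_of_finrank_eq_finrank hdim).1 hinj
  obtain ⟨y, hy⟩ := hsurj g
  refine ⟨pW Q u v u' v' y, pW_in h y, fun x hx => ?_⟩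
  have h1 := congrArg (fun f => f x) hy
  have h2 : polar Q y x = f (pW Q u v u' v' x) := h1
  rw [pW_of_in hx] at h2
  rw [← h2, polar_pW hx, polar_comm]

/-- the commutator form on the coordinates -/
def om (Q : QuadraticForm F V) (u v u' v' : V) (g k : ↥(E Q)) : F :=
  polar Q (xc Q u v u' v' g) (yc Q u v u' v' k) + polar Q (xc Q u v u' v' k) (yc Q u v u' v' g)

/-- **E2** -/
theorem e2 (hP : Par Q) (h : LF Q u v u' v') {φ : ↥(E Q) → F}
    (hadd : ∀ k ∈ QL Q u v, ∀ k' ∈ QL Q u v, φ (k * k') = φ k + φ k')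
    (hX : ∀ k ∈ X Q u v h.qu h.uv, φ k = 0)
    (hinv : ∀ p ∈ P Q u v h.qu h.uv, ∃ q0 ∈ QL Q u v, ∀ k ∈ QL Q u v,
      φ (p * k * p⁻¹) = φ k + om Q u v u' v' q0 k) :
    ∃ q0 ∈ QL Q u v, ∀ k ∈ QL Q u v, φ k = om Q u v u' v' q0 k := by
  have hsplit : ∀ k ∈ QL Q u v, φ k = φ (tE Q u (xc Q u v u' v' k)) + φ (tE Q v (yc Q u v u' v' k)) := by
    intro k hk
    obtain ⟨x, hx, e⟩ := Cmt.tE_split h hk
    have hxi := xc_in h k
    have hyi := yc_in h k
    set a := xc Q u v u' v' k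
    set b := yc Q u v u' v' k
    rw [e, hadd _ (mul_mem (tE_QL h hxi) (tE_QL' h hyi)) _ (X_le_QL h hx), hadd _ (tE_QL h hxi) _ (tE_QL' h hyi),
      hX x hx, add_zero]
  have a1 : ∀ x y, In Q u v u' v' x → In Q u v u' v' y → φ (tE Q u (x + y)) = φ (tE Q u x) + φ (tE Q u y) := by
    intro x y hx hy
    rw [← tE_mul h.qu hx.u hy.u, hadd _ (tE_QL h hx) _ (tE_QL h hy)]
  have a2 : ∀ x y, In Q u v u' v' x → In Q u v u' v' y → φ (tE Q v (x + y)) = φ (tE Q v x) + φ (tE Q v y) := by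
    intro x y hx hy
    rw [← tE_mul h.qv hx.v hy.v, hadd _ (tE_QL' h hx) _ (tE_QL' h hy)]
  have h0 : φ 1 = 0 := hX 1 (one_mem _)
  -- linearity
  have lin : (∀ (c : F) x, In Q u v u' v' x → φ (tE Q u (c • x)) = c * φ (tE Q u x)) ∧
      (∀ (c : F) x, In Q u v u' v' x → φ (tE Q v (c • x)) = c * φ (tE Q v x)) := by
    by_cases hθ : ∃ θ : F, θ ≠ 0 ∧ θ ≠ 1
    · obtain ⟨θ, hθ, hθ'⟩ := hθ
      obtain ⟨q0, hq0, e0⟩ := hinv _ (tau_mem_P hP h hθ hθ' 1)
      obtain ⟨q1, hq1, e1⟩ := hinv _ (rho_mem_P h)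
      have k1 : ∀ x, In Q u v u' v' x → φ (tE Q u x) = polar Q (xc Q u v u' v' q0) x := by
        intro x hx
        have h1 := e0 _ (tE_QL' h hx)
        have hm := QL_conj (tau_NL h 1) (tE_QL' h hx)
        obtain ⟨c1, c2⟩ := coords_tau h 1 (tE_QL' h hx)
        rw [hsplit _ hm, c1, c2, xc_tE' h hx, yc_tE' h hx, zero_add, one_smul, om, xc_tE' h hx, yc_tE' h hx,
          polar_zero_left, add_zero, add_comm] at h1
        exact add_left_cancel h1
      have k2 : ∀ x, In Q u v u' v' x → φ (tE Q v x) = polar Q (xc Q u v u' v' q0) x +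
          polar Q x (yc Q u v u' v' q1) := by
        intro x hx
        have h1 := e1 _ (tE_QL h hx)
        have e3 : rho Q u v u' v' * tE Q u x * (rho Q u v u' v')⁻¹ = tE Q v x := by
          rw [tE_conj, rho_u h, rho_w h hx]
        rw [e3, k1 x hx, om, xc_tE h hx, yc_tE h hx, polar_zero_right, zero_add] at h1
        exact h1
      refine ⟨fun c x hx => ?_, fun c x hx => ?_⟩
      · rw [k1 _ (hx.smul c), k1 x hx, polar_smul_right, smul_eq_mul]
      · rw [k2 _ (hx.smul c), k2 x hx, polar_smul_right, polar_smul_left, smul_eq_mul, smul_eq_mul, mul_add]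
    · push Not at hθ
      refine ⟨fun c x hx => ?_, fun c x hx => ?_⟩
      · by_cases hc : c = 0
        · rw [hc, zero_smul, tE_zero_right, h0, zero_mul]
        · rw [hθ c hc, one_smul, one_mul]
      · by_cases hc : c = 0
        · rw [hc, zero_smul, tE_zero_right, h0, zero_mul]
        · rw [hθ c hc, one_smul, one_mul]
  obtain ⟨y0, hy0, f1⟩ := repr_W hP h (f := fun x => φ (tE Q u x)) a1 lin.1
  obtain ⟨x0, hx0, f2⟩ := repr_W hP h (f := fun x => φ (tE Q v x)) a2 lin.2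
  refine ⟨q Q u v x0 y0 0, q_mem h hx0 hy0 0, fun k hk => ?_⟩
  have g1 := f1 _ (xc_in h k)
  have g2 := f2 _ (yc_in h k)
  rw [hsplit k hk, g1, g2, om, xc_q h hx0 hy0, yc_q h hx0 hy0, add_comm, polar_comm Q x0]

end Cfsg.Agent.OddHalf.Orth

end

-- merged: Cfsg.Agent.OddHalf.Orth.KSetup
section

/-!
# `D7Ex.Setup` for `K = Ω(V)`

* `odd_mem` : the elements of odd order of `C_G(t) ∩ C_G(j X)` are in `j P0`;
* `P_map`, `QL_map` : an element normalising `j X` and `t (j X)` normalises `j P`, `j QL`;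
* `setup_of` : `D7Ex.Setup`; `setup_tr`, `setup_ne`.
-/

set_option autoImplicit false
set_option linter.unusedSectionVars false
set_option linter.unusedVariables false
set_option linter.style.haveILetI false

namespace Cfsg.Agent.OddHalf.Orth

open QuadraticMap Cfsg.Agent.LieClassical.OrthCore Cfsg.Agent.LieClassical.OrthTrans
  Cfsg.Agent.LieClassical.OrthSimple Cfsg.Agent.ClassicalGeometry.OrthAutBasic
  Cfsg.Agent.ClassicalGeometry.OrthAutRoot Face Sem'

variable {F V : Type*} [Field F] [AddCommGroup V] [Module F V] {Q : QuadraticForm F V}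

theorem sq_mem_E (hG : Good Q) {g : V ≃ₗ[F] V} (hg : g ∈ O Q) : g * g ∈ E Q := by
  have : FiniteDimensional F V := Module.finite_of_finrank_pos (by have := hG.dim; omega)
  have hO := O_eq_closure hG.nondeg
  have hg' := hg
  rw [hO] at hg'
  induction hg' using Subgroup.closure_induction with
  | mem x hx =>
    rcases hx with ⟨v, hv, rfl⟩ | ⟨u, w, hu, hw, rfl⟩
    · rw [refl_mul_self]; exact one_mem _
    · exact mul_mem (siegel_mem_E hu hw) (siegel_mem_E hu hw)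
  | one => rw [mul_one]; exact one_mem _
  | mul x y hx hy ihx ihy =>
    rw [← hO] at hx hy
    have h1 : x⁻¹ * y * x * y⁻¹ ∈ E Q := by
      have h2 := hG.commutator_le_E (Subgroup.commutator_mem_commutator ((O Q).inv_mem hx) hy)
      rw [commutatorElement_def, inv_inv] at h2
      exact h2
    have e : x * y * (x * y) = (x * x) * (x⁻¹ * y * x * y⁻¹) * (y * y) := by group
    rw [e]
    exact mul_mem (mul_mem (ihx hx) h1) (ihy hy)
  | inv x hx ih =>
    rw [← hO] at hx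
    rw [← mul_inv_rev]
    exact inv_mem (ih hx)

variable {G : Type*} [Group G] {t : G} {j : ↥(E Q) →* G}

theorem Sit_t_inv (S : Sit Q t j) : t⁻¹ = t := inv_eq_of_mul_eq_one_left S.tt

/-- an element of `C_G(t)` acting on `V` as an element of `E Q` -/
theorem Sit_lift (S : Sit Q t j) {g : G} (gt : g * t = t * g) (m : ↥(E Q))
    (hg : ∀ u x, Q u = 0 → polar Q u x = 0 →
      g * j (tE Q u x) * g⁻¹ = j (tE Q ((m : V ≃ₗ[F] V) u) ((m : V ≃ₗ[F] V) x))) :
    g = j m ∨ g = j m * t := by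
  have h1 : (j m)⁻¹ * g * t = t * ((j m)⁻¹ * g) := by
    have h2 := S.tj m⁻¹
    rw [map_inv] at h2
    rw [mul_assoc, gt, ← mul_assoc, ← mul_assoc, h2]
  rcases S.ker ((j m)⁻¹ * g) h1 (fun u x hu hx => by
    have h2 := hg u x hu hx
    rw [← tE_conj, map_mul, map_mul, map_inv] at h2
    have h3 : (j m)⁻¹ * (g * j (tE Q u x) * g⁻¹) * j m = j (tE Q u x) := by rw [h2]; group
    calc (j m)⁻¹ * g * j (tE Q u x) = (j m)⁻¹ * (g * j (tE Q u x) * g⁻¹) * j m * ((j m)⁻¹ * g) := by group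
      _ = j (tE Q u x) * ((j m)⁻¹ * g) := by rw [h3]) with h | h
  · left
    rw [inv_mul_eq_one] at h
    exact h.symm
  · right
    rw [← h, mul_inv_cancel_left]

section two
variable [CharP F 2] [Finite F] {u v u' v' : V}

theorem tE_smul_inj (hQ : Nondeg Q) (h : LF Q u v u' v') {c d : F} (e : tE Q u (c • v) = tE Q u (d • v)) :
    c = d := by
  have h1 : tE Q u ((c + d) • v) = 1 := by
    rw [add_smul, ← tE_mul h.qu (perp_smul_v h c) (perp_smul_v h d), e, tE_mul_self h.qu (perp_smul_v h d)]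
  have h2 := (tE_smul_eq_one_iff h hQ).1 h1
  have h3 := eq_neg_of_add_eq_zero_left h2
  rwa [CharTwo.neg_eq] at h3

/-- an element of `C_G(t)` centralising `j X` acts linearly on `V` -/
theorem Sit_lin (hP : Par Q) (S : Sit Q t j) (h : LF Q u v u' v') {g : G} (gt : g * t = t * g)
    (hX : ∀ c : F, g * j (tE Q u (c • v)) = j (tE Q u (c • v)) * g) :
    ∃ m : V ≃ₗ[F] V, m ∈ O Q ∧ (∀ a x, Q a = 0 → polar Q a x = 0 →
      g * j (tE Q a x) * g⁻¹ = j (tE Q (m a) (m x))) := by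
  obtain ⟨M, σ, hS, hM⟩ := S.act g gt
  have e : ∀ c : F, tE Q (M u) (M (c • v)) = tE Q u (c • v) := by
    intro c
    apply S.inj
    rw [← hM u (c • v) h.qu (perp_smul_v h c), hX c, mul_inv_cancel_right]
  obtain ⟨h1, h2⟩ := mem_line hP.nd hS h.ln (by simpa using e 1)
  obtain ⟨a, b, ea⟩ := mem_L.1 h1
  obtain ⟨a', b', eb⟩ := mem_L.1 h2
  have e2 : ∀ c : F, σ c * (a * b' - b * a') = c := by
    intro c
    apply tE_smul_inj hP.nd h
    rw [← e c, hS.smul, ← ea, ← eb]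
    apply Subtype.ext
    rw [coe_tE, coe_tE, show σ c • (a' • u + b' • v) = (σ c * a') • u + (σ c * b') • v by module,
      T_det h.ln a b (σ c * a') (σ c * b')]
    congr 2
    ring
  have hd : a * b' - b * a' = 1 := by
    have := e2 1
    rwa [map_one, one_mul] at this
  have hσ : ∀ c, σ c = c := by
    intro c
    have := e2 c
    rwa [hd, mul_one] at this
  exact ⟨toLin hS hσ, toLin_mem hS hσ, hM⟩

theorem odd_mem (hP : Par Q) (S : Sit Q t j) (h : LF Q u v u' v') {g : G} (gt : g * t = t * g)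
    (hodd : Odd (orderOf g)) (hX : ∀ c : F, g * j (tE Q u (c • v)) = j (tE Q u (c • v)) * g) :
    ∃ k ∈ P0 Q u v h.qu h.uv, j k = g := by
  obtain ⟨m, hm, hM⟩ := Sit_lin hP S h gt hX
  have hmm := sq_mem_E hP.good hm
  have gt2 : g * g * t = t * (g * g) := by rw [mul_assoc, gt, ← mul_assoc, gt, mul_assoc]
  have h1 := Sit_lift S gt2 ⟨m * m, hmm⟩ (fun a x ha hx => by
    have h2 := hM a x ha hx
    have h3 := hM (m a) (m x) (by rw [mem_O.1 hm, ha]) (by rw [polar_map hm, hx])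
    show g * g * j (tE Q a x) * (g * g)⁻¹ = j (tE Q (m (m a)) (m (m x)))
    rw [← h3, ← h2]; group)
  have hA : ∃ k, g * g = j k ∨ g * g = j k * t := ⟨_, h1⟩
  have hApow : ∀ i : ℕ, ∃ k, (g * g) ^ i = j k ∨ (g * g) ^ i = j k * t := by
    obtain ⟨k, hk⟩ := hA
    intro i
    induction i with
    | zero => exact ⟨1, Or.inl (by rw [pow_zero, map_one])⟩
    | succ i ih =>
      obtain ⟨k', hk'⟩ := ih
      rw [pow_succ]
      have e1 : ∀ a b : ↥(E Q), j a * t * j b = j (a * b) * t := fun a b => by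
        rw [mul_assoc, S.tj, ← mul_assoc, map_mul]
      rcases hk' with h2 | h2 <;> rcases hk with h3 | h3 <;> rw [h2, h3]
      · exact ⟨k' * k, Or.inl (by rw [map_mul])⟩
      · exact ⟨k' * k, Or.inr (by rw [map_mul, mul_assoc])⟩
      · exact ⟨k' * k, Or.inr (e1 _ _)⟩
      · refine ⟨k' * k, Or.inl ?_⟩
        rw [← mul_assoc, e1, mul_assoc, S.tt, mul_one]
  obtain ⟨i, hi⟩ := hodd
  have hg : (g * g) ^ (i + 1) = g := by
    rw [← pow_two, ← pow_mul]
    have : 2 * (i + 1) = orderOf g + 1 := by omega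
    rw [this, pow_succ, pow_orderOf_eq_one, one_mul]
  obtain ⟨k, hk⟩ := hApow (i + 1)
  rw [hg] at hk
  have hk1 : g = j k := by
    rcases hk with h2 | h2
    · exact h2
    · exfalso
      have hpow : ∀ n : ℕ, (j k * t) ^ n = j (k ^ n) * t ^ n := by
        intro n
        rw [map_pow]
        exact (show Commute (j k) t from (S.tj k).symm).mul_pow n
      have h3 : g ^ orderOf g = 1 := pow_orderOf_eq_one g
      nth_rewrite 1 [h2] at h3
      rw [hpow, hi, pow_succ t, pow_mul t, pow_two, S.tt, one_pow, one_mul] at h3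
      have h4 : t = j ((k ^ (2 * i + 1))⁻¹) := by
        rw [map_inv]; exact eq_inv_of_mul_eq_one_right h3
      exact S.tK _ h4.symm
  refine ⟨k, ?_, hk1.symm⟩
  rw [mem_P0]
  intro c
  apply S.inj
  rw [map_mul, map_mul, ← hk1, hX c]

theorem orderOf_j (S : Sit Q t j) (k : ↥(E Q)) : orderOf (j k) = orderOf k := orderOf_injective j S.inj k

/-- the inverse of an element normalising `j X` and `t (j X)` -/
theorem inv_norm [Finite G] (S : Sit Q t j) {A : Subgroup ↥(E Q)} {n : G}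
    (hX : ∀ x ∈ A.map j, n * x * n⁻¹ ∈ A.map j) (ht : t * (n * t * n⁻¹) ∈ A.map j) :
    (∀ x ∈ A.map j, n⁻¹ * x * n⁻¹⁻¹ ∈ A.map j) ∧ t * (n⁻¹ * t * n⁻¹⁻¹) ∈ A.map j := by
  have h1 : ∀ x ∈ A.map j, n⁻¹ * x * n ∈ A.map j := by
    let f : A.map j → A.map j := fun x => ⟨n * x * n⁻¹, hX x x.2⟩
    have hf : Function.Injective f := by
      intro x y hxy
      have h2 : n * (x : G) * n⁻¹ = n * (y : G) * n⁻¹ := congrArg Subtype.val hxy
      exact Subtype.ext (mul_left_cancel (mul_right_cancel h2))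
    have hs := Finite.surjective_of_injective hf
    intro x hx
    obtain ⟨y, hy⟩ := hs ⟨x, hx⟩
    have h2 : n * (y : G) * n⁻¹ = x := congrArg Subtype.val hy
    have h3 : n⁻¹ * x * n = y := by rw [← h2]; group
    rw [h3]; exact y.2
  refine ⟨fun x hx => by simpa using h1 x hx, ?_⟩
  have h2 := inv_mem (h1 _ ht)
  have e : t * (n⁻¹ * t * n⁻¹⁻¹) = (n⁻¹ * (t * (n * t * n⁻¹)) * n)⁻¹ := by
    calc t * (n⁻¹ * t * n⁻¹⁻¹) = t⁻¹ * (n⁻¹ * t⁻¹ * n) := by rw [Sit_t_inv S, inv_inv]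
      _ = _ := by group
  rwa [e]

/-- an element normalising `j X` and `t (j X)` normalises `j P` -/
theorem P_map [Finite G] (hP : Par Q) (S : Sit Q t j) (h : LF Q u v u' v') {n : G}
    (hX : ∀ x ∈ (X Q u v h.qu h.uv).map j, n * x * n⁻¹ ∈ (X Q u v h.qu h.uv).map j)
    (ht : t * (n * t * n⁻¹) ∈ (X Q u v h.qu h.uv).map j) {p : ↥(E Q)} (hp : p ∈ P Q u v h.qu h.uv) :
    n * j p * n⁻¹ ∈ (P Q u v h.qu h.uv).map j := by
  obtain ⟨hX', ht'⟩ := inv_norm S hX ht
  have h1 : P Q u v h.qu h.uv ≤ ((P Q u v h.qu h.uv).map j).comap ((MulAut.conj n).toMonoidHom.comp j) := by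
    conv_lhs => rw [P]
    rw [Subgroup.closure_le]
    rintro p ⟨hp, hodd⟩
    show n * j p * n⁻¹ ∈ (P Q u v h.qu h.uv).map j
    -- `j p` commutes with `j X` and `t`
    have c1 : ∀ x ∈ (X Q u v h.qu h.uv).map j, j p * x = x * j p := by
      rintro _ ⟨x, hx, rfl⟩
      obtain ⟨c, rfl⟩ := mem_X.1 hx
      rw [← map_mul, mem_P0.1 hp c, map_mul]
    have c2 : j p * t = t * j p := (S.tj p).symm
    have key : ∀ y, j p * (n⁻¹ * y * n) = (n⁻¹ * y * n) * j p → n * j p * n⁻¹ * y = y * (n * j p * n⁻¹) := by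
      intro y hy
      calc n * j p * n⁻¹ * y = n * (j p * (n⁻¹ * y * n)) * n⁻¹ := by group
        _ = n * ((n⁻¹ * y * n) * j p) * n⁻¹ := by rw [hy]
        _ = _ := by group
    have c3 : n * j p * n⁻¹ * t = t * (n * j p * n⁻¹) := by
      apply key
      have e : n⁻¹ * t * n = t * (t * (n⁻¹ * t * n⁻¹⁻¹)) := by
        rw [← mul_assoc, S.tt, one_mul, inv_inv]
      rw [e, ← mul_assoc, c2, mul_assoc, c1 _ ht', ← mul_assoc]
    have c4 : ∀ c : F, n * j p * n⁻¹ * j (tE Q u (c • v)) = j (tE Q u (c • v)) * (n * j p * n⁻¹) := by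
      intro c
      apply key
      have := hX' _ ⟨_, mem_X.2 ⟨c, rfl⟩, rfl⟩
      rw [inv_inv] at this
      exact c1 _ this
    obtain ⟨k, hk, e⟩ := odd_mem hP S h c3 (by rw [orderOf_conj', orderOf_j S]; exact hodd) c4
    refine ⟨k, mem_P_of_odd hk ?_, e⟩
    rw [← orderOf_j S, e, orderOf_conj', orderOf_j S]
    exact hodd
  exact h1 hp

/-- an element normalising `j X` and `t (j X)` normalises `j QL` -/
theorem QL_map [Finite G] (hP : Par Q) (S : Sit Q t j) (h : LF Q u v u' v') {n : G}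
    (hX : ∀ x ∈ (X Q u v h.qu h.uv).map j, n * x * n⁻¹ ∈ (X Q u v h.qu h.uv).map j)
    (ht : t * (n * t * n⁻¹) ∈ (X Q u v h.qu h.uv).map j) {k : ↥(E Q)} (hk : k ∈ QL Q u v) :
    n * j k * n⁻¹ ∈ (QL Q u v).map j := by
  obtain ⟨hX', ht'⟩ := inv_norm S hX ht
  let R : Subgroup ↥(E Q) := ((QL Q u v).map ((MulAut.conj n).toMonoidHom.comp j)).comap j
  have hRm : ∀ r ∈ R, ∃ k ∈ QL Q u v, n * j k * n⁻¹ = j r := by
    intro r hr
    obtain ⟨k, hk, e⟩ := hr
    exact ⟨k, hk, e⟩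
  have hR : R ≤ QL Q u v := by
    apply o2 hP h
    · intro r hr
      obtain ⟨k, hk, e⟩ := hRm r hr
      obtain ⟨p, hp, e2⟩ := P_map hP S h hX ht (QL_le_P hP h hk)
      rw [e] at e2
      rwa [← S.inj e2]
    · rintro ⟨r, hr⟩
      obtain ⟨k, hk, e⟩ := hRm r hr
      refine ⟨2, Subtype.ext (S.inj ?_)⟩
      show j (r ^ (2 ^ 2)) = j 1
      rw [map_pow, ← e, conj_pow, ← map_pow]
      have : k ^ (2 ^ 2) = 1 := (QL_pow h hk).2
      rw [this, map_one, mul_one, mul_inv_cancel]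
    · intro p hp r hr
      obtain ⟨k, hk, e⟩ := hRm r hr
      obtain ⟨p', hp', e2⟩ := P_map hP S h hX' ht' hp
      refine ⟨p' * k * p'⁻¹, QL_conj (P_le_NL hP.nd h hp') hk, ?_⟩
      show n * j (p' * k * p'⁻¹) * n⁻¹ = j (p * r * p⁻¹)
      rw [map_mul, map_mul, map_mul, map_mul, ← e, map_inv, map_inv, e2]
      group
  obtain ⟨p, hp, e⟩ := P_map hP S h hX ht (QL_le_P hP h hk)
  refine ⟨p, hR ?_, e⟩
  exact ⟨k, hk, e.symm⟩

/-- the coordinates of conjugation by `n` -/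
def Act (n : G) (j : ↥(E Q) →* G) (u v u' v' : V) (r s : F) : Prop :=
  ∀ k ∈ QL Q u v, ∃ k' ∈ QL Q u v, j k' = n * j k * n⁻¹ ∧
    xc Q u v u' v' k' = r • xc Q u v u' v' k + s • yc Q u v u' v' k ∧
    yc Q u v u' v' k' = s • xc Q u v u' v' k + (r + s) • yc Q u v u' v' k

theorem Act.sq {n : G} {r s : F} (h : Act n j u v u' v' r s) :
    Act (n * n) j u v u' v' (r * r + s * s) (s * s) := by
  intro k hk
  obtain ⟨k1, hk1, e1, e2, e3⟩ := h k hk
  obtain ⟨k2, hk2, e4, e5, e6⟩ := h k1 hk1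
  refine ⟨k2, hk2, ?_, ?_, ?_⟩
  · rw [e4, e1]; group
  · rw [e5, e2, e3]
    have h2 : (2 : F) = 0 := CharTwo.two_eq_zero
    linear_combination (norm := module) h2 • ((r * s) • yc Q u v u' v' k)
  · rw [e6, e2, e3]
    have h2 : (2 : F) = 0 := CharTwo.two_eq_zero
    linear_combination (norm := module) h2 • ((r * s) • xc Q u v u' v' k + (r * s) • yc Q u v u' v' k)

/-- a 2-element acting on `QL/X` as an element of `F[ρ]` is trivial there -/
theorem Act.trivial (hP : Par Q) (S : Sit Q t j) (h : LF Q u v u' v') {n : G} {m : ℕ} (hn : n ^ 2 ^ m = 1)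
    {r s : F} (hA : Act n j u v u' v' r s) : r = 1 ∧ s = 0 := by
  induction m generalizing n r s with
  | zero =>
    rw [pow_zero, pow_one] at hn
    subst hn
    obtain ⟨b, b', hb, hb', hbb⟩ := hP.exists_pair h
    obtain ⟨k, hk, e1, e2, e3⟩ := hA _ (tE_QL h hb)
    have e4 : k = tE Q u b := S.inj (by rw [e1]; group)
    rw [e4, xc_tE h hb, yc_tE h hb, smul_zero, add_zero] at e2
    rw [e4, yc_tE h hb, xc_tE h hb, smul_zero, add_zero] at e3
    have hb0 := hbb.left_ne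
    constructor
    · have : (r - 1) • b = 0 := by rw [sub_smul, one_smul, ← e2, sub_self]
      exact sub_eq_zero.1 ((smul_eq_zero.1 this).resolve_right hb0)
    · exact (smul_eq_zero.1 e3.symm).resolve_right hb0
  | succ m ih =>
    have h1 : (n * n) ^ 2 ^ m = 1 := by
      rw [← pow_two, ← pow_mul, ← pow_succ']; exact hn
    obtain ⟨h2, h3⟩ := ih h1 hA.sq
    have hs : s = 0 := mul_self_eq_zero.1 h3
    rw [hs, mul_zero, add_zero] at h2
    exact ⟨eq_one_of_mul_self h2, hs⟩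

theorem setup_lin (hP : Par Q) (S : Sit Q t j) (h : LF Q u v u' v') {n : G}
    (hn : IsPGroup 2 (Subgroup.zpowers n)) (hQ : ∀ q ∈ (QL Q u v).map j, n * q * n⁻¹ ∈ (QL Q u v).map j)
    (hX : ∀ x ∈ (X Q u v h.qu h.uv).map j, n * x * n⁻¹ ∈ (X Q u v h.qu h.uv).map j)
    (hPn : ∀ p ∈ (P Q u v h.qu h.uv).map j, n * p * n⁻¹ * p⁻¹ ∈ (QL Q u v).map j) :
    ∀ q ∈ (QL Q u v).map j, n * q * n⁻¹ * q⁻¹ ∈ (X Q u v h.qu h.uv).map j := by
  classical
  obtain ⟨m, hm⟩ := hn ⟨n, Subgroup.mem_zpowers n⟩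
  have hm' : n ^ 2 ^ m = 1 := congrArg Subtype.val hm
  have hex : ∀ k : ↥(E Q), ∃ k', k ∈ QL Q u v → k' ∈ QL Q u v ∧ j k' = n * j k * n⁻¹ := by
    intro k
    by_cases hk : k ∈ QL Q u v
    · obtain ⟨k', hk', e⟩ := hQ _ ⟨k, hk, rfl⟩
      exact ⟨k', fun _ => ⟨hk', e⟩⟩
    · exact ⟨1, fun h => absurd h hk⟩
  choose α hα using hex
  have hcomm : ∀ p ∈ P Q u v h.qu h.uv, ∀ k ∈ QL Q u v,
      α (p * k * p⁻¹) * (p * α k * p⁻¹)⁻¹ ∈ X Q u v h.qu h.uv := by
    intro p hp k hk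
    have hpN := P_le_NL hP.nd h hp
    have hpk := QL_conj hpN hk
    obtain ⟨a1, a2⟩ := hα _ hpk
    obtain ⟨b1, b2⟩ := hα _ hk
    obtain ⟨q1, hq1, e1⟩ := hPn _ ⟨p, hp, rfl⟩
    have hpb := QL_conj hpN b1
    have e3 : α (p * k * p⁻¹) = q1 * (p * α k * p⁻¹) * q1⁻¹ := by
      apply S.inj
      simp only [map_mul, map_inv, a2, b2, e1]
      group
    rw [e3]
    exact comm_QL h hq1 hpb
  have C : Cmt h α :=
    { mem := fun k hk => (hα k hk).1
      mul := fun k hk k' hk' => S.inj (by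
        rw [map_mul, (hα _ (mul_mem hk hk')).2, (hα k hk).2, (hα k' hk').2, map_mul]; group)
      mX := fun k hk => by
        obtain ⟨x, hx, e⟩ := hX _ ⟨k, hk, rfl⟩
        rw [← (hα k (X_le_QL h hk)).2] at e
        rwa [← S.inj e]
      comm := fun w z hw hz hq hwz k hk => hcomm _ (TW_mem_P hP h hw hz hq hwz) k hk
      crho := fun k hk => hcomm _ (rho_mem_P h) k hk }
  obtain ⟨r, s, hrs⟩ := C.coords hP
  have hA : Act n j u v u' v' r s := fun k hk => ⟨α k, (hα k hk).1, (hα k hk).2, hrs k hk⟩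
  obtain ⟨rfl, rfl⟩ := hA.trivial hP S h hm'
  rintro _ ⟨k, hk, rfl⟩
  refine ⟨α k * k⁻¹, ?_, ?_⟩
  · show α k * k⁻¹ ∈ X Q u v h.qu h.uv
    rw [mul_inv_mem_X_iff h (hα k hk).1 hk]
    obtain ⟨e1, e2⟩ := hrs k hk
    rw [e1, e2]; simp
  · rw [map_mul, (hα k hk).2, map_inv]

theorem setup_noh (S : Sit Q t j) (h : LF Q u v u' v')
    (f : (P Q u v h.qu h.uv).map j →* (X Q u v h.qu h.uv).map j) (p : (P Q u v h.qu h.uv).map j) : f p = 1 := by
  obtain ⟨_, p, hp, rfl⟩ := p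
  have key : ∀ p (hp : p ∈ P Q u v h.qu h.uv), f ⟨j p, ⟨p, hp, rfl⟩⟩ = 1 := by
    intro p hp
    have hp' := hp
    rw [P] at hp'
    induction hp' using Subgroup.closure_induction with
    | mem x hx =>
      obtain ⟨hx0, hodd⟩ := hx
      obtain ⟨i, hi⟩ := hodd
      have h1 : (⟨j x, ⟨x, hp, rfl⟩⟩ : (P Q u v h.qu h.uv).map j) ^ (2 * i + 1) = 1 := by
        apply Subtype.ext
        show (j x) ^ (2 * i + 1) = 1
        rw [← hi, ← map_pow, pow_orderOf_eq_one, map_one]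
      have h2 := congrArg f h1
      rw [map_pow, map_one] at h2
      set y := f ⟨j x, ⟨x, hp, rfl⟩⟩ with hy
      have h3 : y * y = 1 := by
        obtain ⟨_, z, hz, e⟩ := y
        subst e
        obtain ⟨c, rfl⟩ := mem_X.1 hz
        apply Subtype.ext
        show j (tE Q u (c • v)) * j (tE Q u (c • v)) = 1
        rw [← map_mul, tE_mul_self h.qu (perp_smul_v h c), map_one]
      rwa [pow_succ, pow_mul, pow_two, h3, one_pow, one_mul] at h2
    | one =>
      have : (⟨j 1, ⟨1, hp, rfl⟩⟩ : (P Q u v h.qu h.uv).map j) = 1 := Subtype.ext (map_one j)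
      rw [this, map_one]
    | mul x y hx hy ihx ihy =>
      have hx' : x ∈ P Q u v h.qu h.uv := hx
      have hy' : y ∈ P Q u v h.qu h.uv := hy
      have : (⟨j (x * y), ⟨x * y, hp, rfl⟩⟩ : (P Q u v h.qu h.uv).map j) =
        ⟨j x, ⟨x, hx', rfl⟩⟩ * ⟨j y, ⟨y, hy', rfl⟩⟩ := Subtype.ext (map_mul j x y)
      rw [this, map_mul, ihx hx', ihy hy', one_mul]
    | inv x hx ih =>
      have hx' : x ∈ P Q u v h.qu h.uv := hx
      have : (⟨j x⁻¹, ⟨x⁻¹, hp, rfl⟩⟩ : (P Q u v h.qu h.uv).map j) = (⟨j x, ⟨x, hx', rfl⟩⟩)⁻¹ :=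
        Subtype.ext (map_inv j x)
      rw [this, map_inv, ih hx', inv_one]
  exact key p hp

theorem setup_E2 (hP : Par Q) (S : Sit Q t j) (h : LF Q u v u' v') (f : G → G)
    (h1 : ∀ v1 ∈ (QL Q u v).map j, f v1 ∈ (X Q u v h.qu h.uv).map j)
    (h2 : ∀ v1 ∈ (QL Q u v).map j, ∀ w ∈ (QL Q u v).map j, f (v1 * w) = f v1 * f w)
    (h3 : ∀ x ∈ (X Q u v h.qu h.uv).map j, f x = 1)
    (h4 : ∀ p ∈ (P Q u v h.qu h.uv).map j, ∃ q ∈ (QL Q u v).map j, ∀ v1 ∈ (QL Q u v).map j,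
      f (p * v1 * p⁻¹) = f v1 * (q * v1 * q⁻¹ * v1⁻¹)) :
    ∃ q ∈ (QL Q u v).map j, ∀ v1 ∈ (QL Q u v).map j, f v1 = q * v1 * q⁻¹ * v1⁻¹ := by
  classical
  have hex : ∀ k : ↥(E Q), ∃ c : F, k ∈ QL Q u v → f (j k) = j (tE Q u (c • v)) := by
    intro k
    by_cases hk : k ∈ QL Q u v
    · obtain ⟨x, hx, e⟩ := h1 _ ⟨k, hk, rfl⟩
      obtain ⟨c, rfl⟩ := mem_X.1 hx
      exact ⟨c, fun _ => e.symm⟩
    · exact ⟨0, fun h => absurd h hk⟩
  choose φ hφ using hex
  have hadd : ∀ c d : F, j (tE Q u (c • v)) * j (tE Q u (d • v)) = j (tE Q u ((c + d) • v)) := by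
    intro c d
    rw [← map_mul, tE_mul h.qu (perp_smul_v h c) (perp_smul_v h d), add_smul]
  have hom : ∀ g ∈ QL Q u v, ∀ k ∈ QL Q u v, j g * j k * (j g)⁻¹ * (j k)⁻¹ =
      j (tE Q u (om Q u v u' v' g k • v)) := by
    intro g hg k hk
    rw [om, ← comm_q h hg hk]
    simp only [map_mul, map_inv]
  obtain ⟨q0, hq0, e0⟩ := e2 hP h (φ := φ)
    (fun k hk k' hk' => tE_smul_inj hP.nd h (S.inj (by
      rw [← hφ _ (mul_mem hk hk'), map_mul, h2 _ ⟨k, hk, rfl⟩ _ ⟨k', hk', rfl⟩, hφ k hk, hφ k' hk', hadd])))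
    (fun k hk => tE_smul_inj hP.nd h (S.inj (by
      rw [← hφ k (X_le_QL h hk), h3 _ ⟨k, hk, rfl⟩, zero_smul, tE_zero_right, map_one])))
    (fun p hp => by
      obtain ⟨_, ⟨q0, hq0, rfl⟩, e⟩ := h4 _ ⟨p, hp, rfl⟩
      refine ⟨q0, hq0, fun k hk => tE_smul_inj hP.nd h (S.inj ?_)⟩
      have e1 := e _ ⟨k, hk, rfl⟩
      rw [← hφ _ (QL_conj (P_le_NL hP.nd h hp) hk), map_mul, map_mul, map_inv, e1, hφ k hk, hom q0 hq0 k hk,
        hadd])
  refine ⟨_, ⟨q0, hq0, rfl⟩, ?_⟩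
  rintro _ ⟨k, hk, rfl⟩
  rw [hφ k hk, e0 k hk, hom q0 hq0 k hk]

/-- **The hypotheses of `D7Ex.Setup`.** -/
theorem setup_of [Finite G] (hP : Par Q) (S : Sit Q t j) (h : LF Q u v u' v') :
    D7Ex.Setup t ((X Q u v h.qu h.uv).map j) ((QL Q u v).map j) ((P Q u v h.qu h.uv).map j)
      ((NL Q u v).map j) where
  tt := S.tt
  tX := by
    rintro ⟨x, -, e⟩
    exact S.tK x e
  X2 := by
    rintro _ ⟨x, hx, rfl⟩
    obtain ⟨c, rfl⟩ := mem_X.1 hx
    rw [← map_mul, tE_mul_self h.qu (perp_smul_v h c), map_one]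
  XQ := Subgroup.map_mono (X_le_QL h)
  QP := Subgroup.map_mono (QL_le_P hP h)
  tP := by
    rintro _ ⟨p, -, rfl⟩
    exact S.tj p
  XP := by
    rintro _ ⟨x, hx, rfl⟩ _ ⟨p, hp, rfl⟩
    obtain ⟨c, rfl⟩ := mem_X.1 hx
    rw [← map_mul, ← mem_P0.1 (P_le_P0 hp) c, map_mul]
  PQ := by
    rintro _ ⟨p, hp, rfl⟩ _ ⟨k, hk, rfl⟩
    rw [← map_inv, ← map_mul, ← map_mul]
    exact ⟨_, QL_conj (P_le_NL hP.nd h hp) hk, rfl⟩
  tH := by
    rintro _ ⟨g, -, rfl⟩
    exact S.tj g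
  HX := by
    rintro _ ⟨g, hg, rfl⟩ _ ⟨x, hx, rfl⟩
    rw [← map_inv, ← map_mul, ← map_mul]
    exact ⟨_, X_conj h hg hx, rfl⟩
  nP := fun n hX ht => ⟨by
    rintro _ ⟨p, hp, rfl⟩
    exact P_map hP S h hX ht hp, by
    rintro _ ⟨k, hk, rfl⟩
    exact QL_map hP S h hX ht hk⟩
  XQQ := by
    rw [← Subgroup.map_commutator]
    exact Subgroup.map_mono (X_le_comm hP h)
  QQ := by
    rintro _ ⟨a, ha, rfl⟩ _ ⟨b, hb, rfl⟩
    rw [← map_inv, ← map_inv, ← map_mul, ← map_mul, ← map_mul]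
    exact ⟨_, comm_QL h ha hb, rfl⟩
  ZQ := by
    rintro _ ⟨a, ha, rfl⟩ hc
    refine ⟨a, ZQL hP.nd h ha fun k hk => S.inj ?_, rfl⟩
    rw [map_mul, map_mul]
    exact hc _ ⟨k, hk, rfl⟩
  E2 := fun f h1 h2 h3 h4 => setup_E2 hP S h f h1 h2 h3 h4
  noh := fun f p => setup_noh S h f p

/-- `NL` is transitive on `X#` -/
theorem setup_tr (hP : Par Q) (h : LF Q u v u' v') : ∀ x ∈ (X Q u v h.qu h.uv).map j,
    ∀ y ∈ (X Q u v h.qu h.uv).map j, x ≠ 1 → y ≠ 1 → ∃ g ∈ (NL Q u v).map j, g * x * g⁻¹ = y := by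
  rintro _ ⟨x, hx, rfl⟩ _ ⟨y, hy, rfl⟩ hx1 hy1
  obtain ⟨c, rfl⟩ := mem_X.1 hx
  obtain ⟨d, rfl⟩ := mem_X.1 hy
  have hc : c ≠ 0 := by
    rintro rfl
    exact hx1 (by rw [zero_smul, tE_zero_right, map_one])
  have hd : d ≠ 0 := by
    rintro rfl
    exact hy1 (by rw [zero_smul, tE_zero_right, map_one])
  obtain ⟨g, e1, e2, e3, e4, e5⟩ := exists_torus hP.good h (mul_ne_zero hd (inv_ne_zero hc)) one_ne_zero
  refine ⟨j g, ⟨g, ?_, rfl⟩, ?_⟩
  · apply mem_NL_of h.ln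
    · rw [e1]; exact Submodule.smul_mem _ _ (left_mem_L _ _)
    · rw [e2]; exact Submodule.smul_mem _ _ (right_mem_L _ _)
  · rw [← map_inv, ← map_mul, ← map_mul, tE_conj, map_smul, e1, e2, one_smul,
      tE_smul_left _ h.qu (perp_smul_v h c), smul_smul, mul_assoc, inv_mul_cancel₀ hc, mul_one]

/-- an element scalar on the line and trivial on `l^⊥/l` commutes with `NL` modulo `QL` -/
theorem comm_mem_QL (h : LF Q u v u' v') {g p : ↥(E Q)} {θ : F} (hθ : θ ≠ 0)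
    (e1 : (g : V ≃ₗ[F] V) u = θ • u) (e2 : (g : V ≃ₗ[F] V) v = θ • v)
    (e5 : ∀ w, polar Q u w = 0 → polar Q v w = 0 → ∃ m ∈ L F u v, (g : V ≃ₗ[F] V) w = w + m)
    (hp : p ∈ NL Q u v) : g * p * g⁻¹ * p⁻¹ ∈ QL Q u v := by
  have hgL : ∀ m ∈ L F u v, (g : V ≃ₗ[F] V) m = θ • m := by
    intro m hm
    obtain ⟨a, b, rfl⟩ := mem_L.1 hm
    rw [map_add, map_smul, map_smul, e1, e2]; module
  have hgN : g ∈ NL Q u v := by
    apply mem_NL_of h.ln
    · rw [e1]; exact Submodule.smul_mem _ _ (left_mem_L _ _)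
    · rw [e2]; exact Submodule.smul_mem _ _ (right_mem_L _ _)
  have hgi : ∀ m ∈ L F u v, ((g⁻¹ : ↥(E Q)) : V ≃ₗ[F] V) m = θ⁻¹ • m := by
    intro m hm
    show (g : V ≃ₗ[F] V).symm m = _
    rw [LinearEquiv.symm_apply_eq, map_smul, hgL m hm, smul_smul, inv_mul_cancel₀ hθ, one_smul]
  have hgw : ∀ w, polar Q u w = 0 → polar Q v w = 0 →
      ∃ m ∈ L F u v, ((g⁻¹ : ↥(E Q)) : V ≃ₗ[F] V) w = w + m := by
    intro w h1 h2
    obtain ⟨m, hm, e⟩ := e5 w h1 h2
    refine ⟨-(θ⁻¹ • m), Submodule.neg_mem _ (Submodule.smul_mem _ _ hm), ?_⟩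
    show (g : V ≃ₗ[F] V).symm w = _
    rw [LinearEquiv.symm_apply_eq, map_add, map_neg, map_smul, e, hgL m hm, smul_smul, inv_mul_cancel₀ hθ,
      one_smul]
    abel
  have hpi := inv_mem hp
  have hpc : ∀ x : V, (p : V ≃ₗ[F] V) (((p⁻¹ : ↥(E Q)) : V ≃ₗ[F] V) x) = x := fun x =>
    LinearEquiv.apply_symm_apply _ _
  have key : ∀ m ∈ L F u v, ((g * p * g⁻¹ * p⁻¹ : ↥(E Q)) : V ≃ₗ[F] V) m = m := by
    intro m hm
    have h1 := (mem_NL.1 hpi m).2 hm
    rw [coe_mul', coe_mul', coe_mul', hgi _ h1, map_smul, hpc, map_smul, hgL m hm, smul_smul,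
      inv_mul_cancel₀ hθ, one_smul]
  refine ⟨key u (left_mem_L _ _), key v (right_mem_L _ _), fun w h1 h2 => ?_⟩
  obtain ⟨h3, h4⟩ := NL_perp hpi h1 h2
  obtain ⟨m, hm, e⟩ := hgw _ h3 h4
  obtain ⟨m', hm', e'⟩ := e5 w h1 h2
  have hpm := (mem_NL.1 hp m).2 hm
  obtain ⟨a, b, e6⟩ := mem_L.1 (Submodule.add_mem _ hm' (Submodule.smul_mem _ θ hpm))
  refine ⟨a, b, ?_⟩
  rw [coe_mul', coe_mul', coe_mul', e, map_add, hpc, map_add, e', hgL _ hpm, add_assoc, add_assoc, e6]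

/-- a torus element trivial on `P/QL` -/
theorem exists_h0 (hP : Par Q) (h : LF Q u v u' v') {θ : F} (hθ : θ ≠ 0) : ∃ g ∈ NL Q u v,
    (g : V ≃ₗ[F] V) u = θ • u ∧ (g : V ≃ₗ[F] V) v = θ • v ∧
    (∀ w, polar Q u w = 0 → polar Q v w = 0 → ∃ m ∈ L F u v, (g : V ≃ₗ[F] V) w = w + m) ∧
    g ^ (Nat.card F - 1) = 1 ∧ ∀ p ∈ NL Q u v, g * p * g⁻¹ * p⁻¹ ∈ QL Q u v := by
  obtain ⟨g, e1, e2, e3, e4, e5⟩ := exists_torus hP.good h hθ hθ
  have hgN : g ∈ NL Q u v := by
    apply mem_NL_of h.ln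
    · rw [e1]; exact Submodule.smul_mem _ _ (left_mem_L _ _)
    · rw [e2]; exact Submodule.smul_mem _ _ (right_mem_L _ _)
  have e6 : ∀ w, polar Q u w = 0 → polar Q v w = 0 → ∃ m ∈ L F u v, (g : V ≃ₗ[F] V) w = w + m := by
    intro w h1 h2
    obtain ⟨m, hm, e⟩ := decomp_perp h h1 h2
    have hin := pW_in h w
    refine ⟨(g : V ≃ₗ[F] V) m - m, Submodule.sub_mem _ ((mem_NL.1 hgN m).2 hm) hm, ?_⟩
    set y := pW Q u v u' v' w
    rw [e, map_add, e5 y hin]
    abel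
  exact ⟨g, hgN, e1, e2, e6, torus_pow h hθ hθ e1 e2 e3 e4 e5, fun p hp => comm_mem_QL h hθ e1 e2 e6 hp⟩

theorem setup_ne (hP : Par Q) (S : Sit Q t j) (h : LF Q u v u' v') {θ : F} (hθ : θ ≠ 0) (hθ' : θ ≠ 1) :
    ∃ g ∈ (NL Q u v).map j, (∀ p ∈ (P Q u v h.qu h.uv).map j, g * p * g⁻¹ * p⁻¹ ∈ (QL Q u v).map j) ∧
      ∃ x ∈ (X Q u v h.qu h.uv).map j, g * x * g⁻¹ ≠ x := by
  obtain ⟨g, hgN, e1, e2, e6, -, hc⟩ := exists_h0 hP h hθ
  refine ⟨j g, ⟨g, hgN, rfl⟩, ?_, ⟨j (tE Q u ((1 : F) • v)), ⟨_, mem_X.2 ⟨1, rfl⟩, rfl⟩, ?_⟩⟩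
  · rintro _ ⟨p, hp, rfl⟩
    rw [← map_inv, ← map_inv, ← map_mul, ← map_mul, ← map_mul]
    exact ⟨_, hc p (P_le_NL hP.nd h hp), rfl⟩
  · rw [← map_inv, ← map_mul, ← map_mul, tE_conj, map_smul, e1, e2, one_smul,
      tE_smul_left _ h.qu (perp_smul_v h θ), smul_smul]
    intro e
    have h1 := tE_smul_inj hP.nd h (S.inj e)
    exact hθ' (eq_one_of_mul_self h1)

end two

end Cfsg.Agent.OddHalf.Orth

end
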