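import Cfsg.Agent.OddHalf.Orth.ExCom
import Cfsg.Agent.OddHalf.Orth.KP0
import Cfsg.Agent.OddHalf.D7Ex.Norm
import Cfsg.Agent.OddHalf.Orth.LinesThree
import Cfsg.Agent.OddHalf.Orth.KFlagMain
import Cfsg.Agent.OddHalf.Orth.KFace
import Cfsg.Agent.OddHalf.Orth.KFlag
import Cfsg.Agent.OddHalf.Orth.Delta
import Cfsg.Agent.OddHalf.Orth.KSetup

-- merged: Cfsg.Agent.OddHalf.Orth.ExBig
section

/-!
# Existence of the doubled long root groups, `q > 2` (ODD D7, `K = Ω(V)`)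

* `cP` : `C(P) ∩ C(t) = ⟨t⟩ X`;
* `cent` : the structure `D7Ex.Cent` from `D7Ex.Setup`-output (`ex`);
* `baseW` : `BaseW Q t j u v (Wbig ..)`;
* `exists_dbl` : `∃ W, Dbl Q t j W`.
-/

set_option autoImplicit false
set_option linter.unusedSectionVars false

namespace Cfsg.Agent.OddHalf.Orth.ExBig

open QuadraticMap Cfsg.Agent.LieClassical.OrthCore Cfsg.Agent.LieClassical.OrthTrans
  Cfsg.Agent.ClassicalGeometry.OrthAutBasic Cfsg.Agent.ClassicalGeometry.OrthAutRoot Cfsg.Agent.OddHalf.Orth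
  Cfsg.Agent.OddHalf.Orth.Star Cfsg.Agent.OddHalf.Orth.Face Cfsg.Agent.OddHalf.Orth.FlagDef
  Cfsg.Agent.OddHalf.Orth.ExBase Cfsg.Agent.OddHalf.D7Ex

variable {F V : Type*} [Field F] [AddCommGroup V] [Module F V] {Q : QuadraticForm F V}
variable {G : Type*} [Group G] {t : G} {j : ↥(E Q) →* G} {u v u' v' : V} [CharP F 2]

theorem mem_map_iff (S : Sit Q t j) {H : Subgroup ↥(E Q)} {k : ↥(E Q)} : j k ∈ H.map j ↔ k ∈ H :=
  Subgroup.mem_map_iff_mem S.inj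

/-- `C(P) ∩ C(t) = ⟨t⟩ X` -/
theorem cP (S : Sit Q t j) (hK : KFacts Q) (h : LF Q u v u' v')
    (hP0 : P0 Q u v h.qu h.uv ≤ P Q u v h.qu h.uv) {c : G} (hc : t * c = c * t)
    (hcP : ∀ p ∈ (P Q u v h.qu h.uv).map j, c * p = p * c) :
    c ∈ (X Q u v h.qu h.uv).map j ∨ t * c ∈ (X Q u v h.qu h.uv).map j := by
  have key : ∀ k : ↥(E Q), k * tE Q u v = tE Q u v * k → c * j k = j k * c := fun k hk =>
    hcP _ ⟨k, hP0 (mem_P0_of_comm hK.nondeg h hk), rfl⟩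
  obtain ⟨y, hy, hcy⟩ := S.cR hK hc.symm h.qu h.ln.ne (fun x hx => key _ (tE_comm h.qu hx h.uv))
  have h3 : ∀ x, polar Q u x = 0 → polar Q v x = 0 →
      ∃ a : F, polar Q v y • x + (polar Q x y + Q x * polar Q v y) • v = a • u := by
    intro x hx1 hx2
    have e0 := key _ (PreD.tE_comm_v h.ln hx2)
    have e1 : j (tE Q u y) * j (tE Q v x) = j (tE Q v x) * j (tE Q u y) := by
      rcases hcy with e | e
      · rw [← e]; exact e0
      · rw [e] at e0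
        have h5 := S.tj (tE Q v x)
        calc j (tE Q u y) * j (tE Q v x) = t * (t * j (tE Q u y) * j (tE Q v x)) := by
              rw [mul_assoc t, ← mul_assoc t t, S.tt, one_mul]
          _ = t * (j (tE Q v x) * (t * j (tE Q u y))) := by rw [e0]
          _ = (t * j (tE Q v x)) * t * j (tE Q u y) := by group
          _ = (j (tE Q v x) * t) * t * j (tE Q u y) := by rw [h5]
          _ = j (tE Q v x) * (t * t) * j (tE Q u y) := by group
          _ = _ := by rw [S.tt, mul_one]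
    have e2 : tE Q v x * tE Q u y * (tE Q v x)⁻¹ = tE Q u y := by
      apply S.inj
      rw [map_mul, map_mul, map_inv, ← e1, mul_inv_cancel_right]
    rw [tE_conj, coe_tE] at e2
    have e3 : T Q v x u = u := T_fix h.vu (by rw [polar_comm]; exact hx1)
    rw [e3] at e2
    have e4 : polar Q u (T Q v x y) = 0 := by
      have : polar Q (T Q v x u) (T Q v x y) = polar Q u y := polar_map' (tE Q v x) u y
      rw [e3] at this
      rw [this, hy]
    obtain ⟨a, ha⟩ := (tE_eq_iff hK.nondeg h.qu h.ln.ne e4 hy).1 e2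
    obtain ⟨z, hz⟩ : ∃ z, z = polar Q v y • x + (polar Q x y + Q x * polar Q v y) • v := ⟨_, rfl⟩
    refine ⟨-a, ?_⟩
    rw [← hz]
    rw [T_apply2 h.qv hx2, add_assoc y, ← hz, add_assoc] at ha
    rw [neg_smul]
    exact eq_neg_of_add_eq_zero_left (left_eq_add.1 ha)
  have hvy : polar Q v y = 0 := by
    by_contra h0
    obtain ⟨w, hw⟩ := hK.exLn3 h.ln
    obtain ⟨a, ha⟩ := h3 w hw.uw.perp hw.perp
    apply hw.ind
    refine mem_L.2 ⟨(polar Q v y)⁻¹ * a, -((polar Q v y)⁻¹ * (polar Q w y + Q w * polar Q v y)), ?_⟩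
    rw [mul_smul, ← ha, smul_add, smul_smul, inv_mul_cancel₀ h0, one_smul, neg_smul, smul_smul]
    abel
  obtain ⟨a, b, hab⟩ := hK.perp2 h.ln (y := y) (by
    intro w hw
    obtain ⟨a, ha⟩ := h3 w hw.uw.perp hw.perp
    rw [hvy, zero_smul, zero_add, mul_zero, add_zero] at ha
    have h4 : (-a) • u + polar Q w y • v = 0 := by rw [ha, neg_smul]; abel
    rw [polar_comm]
    exact (h.ln.coeff h4).2)
  have hyy : tE Q u y = tE Q u (b • v) := by
    rw [hab, add_comm, tE_add_smul h.qu (by rw [polar_smul_right, h.uv, smul_zero])]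
  have hX : j (tE Q u y) ∈ (X Q u v h.qu h.uv).map j := ⟨_, mem_X.2 ⟨b, rfl⟩, by rw [hyy]⟩
  rcases hcy with e | e
  · left; rw [e]; exact hX
  · right
    rw [e, ← mul_assoc, S.tt, one_mul]
    exact hX

/-- The structure `Cent`. -/
theorem cent [Finite F] (S : Sit Q t j) (hK : KFacts Q) (hP : Par Q) (h : LF Q u v u' v')
    (hP0 : P0 Q u v h.qu h.uv ≤ P Q u v h.qu h.uv)
    (ex : ∀ x ∈ (X Q u v h.qu h.uv).map j, ∃ b : G, (∀ p ∈ (P Q u v h.qu h.uv).map j, b * p = p * b) ∧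
      b * t * b⁻¹ = t * x) : Cent t ((X Q u v h.qu h.uv).map j) ((P Q u v h.qu h.uv).map j) where
  tt := S.tt
  tX := by
    rintro ⟨k, -, hk⟩
    exact S.tK k hk
  X2 := by
    rintro _ ⟨k, hk, rfl⟩
    obtain ⟨c, rfl⟩ := mem_X.1 hk
    rw [← map_mul, tE_mul_self h.qu (by rw [polar_smul_right, h.uv, smul_zero]), map_one]
  XP := Subgroup.map_mono (X_le_P hP h)
  tP := by
    rintro _ ⟨k, -, rfl⟩
    exact S.tj k
  Xc := by
    rintro _ ⟨k, hk, rfl⟩ _ ⟨p, hp, rfl⟩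
    obtain ⟨c, rfl⟩ := mem_X.1 hk
    rw [← map_mul, ← map_mul, mem_P0.1 (P_le_P0 hp) c]
  cP c hc hcP := cP S hK h hP0 hc hcP
  ex := ex

theorem nice (S : Sit Q t j) [Finite F] (hP : Par Q) (h : LF Q u v u' v') {g0 : ↥(E Q)} {κ : F} (hκ : κ ≠ 0)
    (g1 : (g0 : V ≃ₗ[F] V) u = κ • u) (g2 : (g0 : V ≃ₗ[F] V) v = κ • v)
    (g5 : ∀ w, In Q u v u' v' w → (g0 : V ≃ₗ[F] V) w = w) {k : ↥(E Q)} (hk : k ∈ NL Q u v) :
    Nice t ((X Q u v h.qu h.uv).map j) ((P Q u v h.qu h.uv).map j) (j g0) (j k) where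
  kt := (S.tj k).symm
  kX x := by
    constructor
    · rintro ⟨a, ha, rfl⟩
      exact ⟨k * a * k⁻¹, X_conj h hk ha, by simp⟩
    · rintro ⟨a, ha, e⟩
      refine ⟨k⁻¹ * a * k, ?_, ?_⟩
      · have := X_conj h (inv_mem hk) ha
        rwa [inv_inv] at this
      · rw [map_mul, map_mul, map_inv, e]; group
  kP x := by
    constructor
    · rintro ⟨a, ha, rfl⟩
      exact ⟨k * a * k⁻¹, P_conj_NL h hk ha, by simp⟩
    · rintro ⟨a, ha, e⟩
      refine ⟨k⁻¹ * a * k, ?_, ?_⟩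
      · have := P_conj_NL h (inv_mem hk) ha
        rwa [inv_inv] at this
      · rw [map_mul, map_mul, map_inv, e]; group
  kh := by
    have h1 : k * g0 * k⁻¹ * g0⁻¹ ∈ QL Q u v := by
      have hk' := inv_mem hk
      have hL : ∀ x ∈ L F u v, (g0 : V ≃ₗ[F] V) x = κ • x := by
        intro x hx
        obtain ⟨a, b, rfl⟩ := mem_L.1 hx
        rw [map_add, map_smul, map_smul, g1, g2, smul_add, smul_comm, smul_comm κ b]
      have hLi : ∀ x ∈ L F u v, ((g0⁻¹ : ↥(E Q)) : V ≃ₗ[F] V) x = κ⁻¹ • x := by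
        intro x hx
        show (g0 : V ≃ₗ[F] V).symm x = _
        rw [LinearEquiv.symm_apply_eq, map_smul, hL x hx, smul_smul, inv_mul_cancel₀ hκ, one_smul]
      have hco : ∀ x : V, (k : V ≃ₗ[F] V) (((k⁻¹ : ↥(E Q)) : V ≃ₗ[F] V) x) = x := fun x =>
        LinearEquiv.apply_symm_apply _ _
      have kL : ∀ x ∈ L F u v, ((k⁻¹ : ↥(E Q)) : V ≃ₗ[F] V) x ∈ L F u v := fun x hx => (mem_NL.1 hk' x).2 hx
      have kL' : ∀ x ∈ L F u v, (k : V ≃ₗ[F] V) x ∈ L F u v := fun x hx => (mem_NL.1 hk x).2 hx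
      have key : ∀ x ∈ L F u v, ((k * g0 * k⁻¹ * g0⁻¹ : ↥(E Q)) : V ≃ₗ[F] V) x = x := by
        intro x hx
        show (k : V ≃ₗ[F] V) ((g0 : V ≃ₗ[F] V) (((k⁻¹ : ↥(E Q)) : V ≃ₗ[F] V)
          (((g0⁻¹ : ↥(E Q)) : V ≃ₗ[F] V) x))) = x
        rw [hLi x hx, map_smul, map_smul, hL _ (kL x hx), smul_smul, inv_mul_cancel₀ hκ, one_smul, hco]
      -- on `l^⊥`, `g0 w - w ∈ l`
      have hperp : ∀ w, polar Q u w = 0 → polar Q v w = 0 → (g0 : V ≃ₗ[F] V) w - w ∈ L F u v := by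
        intro w h1 h2
        obtain ⟨p, l, hp, hl, rfl⟩ : ∃ p l, In Q u v u' v' p ∧ l ∈ L F u v ∧ w = p + l := by
          refine ⟨_, polar Q u' w • u + polar Q v' w • v, pW_in h w, mem_L.2 ⟨_, _, rfl⟩, ?_⟩
          have hd := decomp (Q := Q) u v u' v' w
          rw [h1, h2, zero_smul, add_zero, zero_smul, add_zero] at hd
          rw [← add_assoc]; exact hd
        rw [map_add, g5 p hp, hL l hl]
        have e : p + κ • l - (p + l) = κ • l - l := by abel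
        rw [e]
        exact sub_mem (Submodule.smul_mem _ _ hl) hl
      have gL : ∀ x ∈ L F u v, ((g0⁻¹ : ↥(E Q)) : V ≃ₗ[F] V) x ∈ L F u v := fun x hx => by
        rw [hLi x hx]; exact Submodule.smul_mem _ _ hx
      have gL' : ∀ x ∈ L F u v, (g0 : V ≃ₗ[F] V) x ∈ L F u v := fun x hx => by
        rw [hL x hx]; exact Submodule.smul_mem _ _ hx
      have hperp' : ∀ w, polar Q u w = 0 → polar Q v w = 0 →
          ((g0⁻¹ : ↥(E Q)) : V ≃ₗ[F] V) w - w ∈ L F u v := by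
        intro w h1 h2
        have h3 := neg_mem (gL _ (hperp w h1 h2))
        have e : -((g0⁻¹ : ↥(E Q)) : V ≃ₗ[F] V) ((g0 : V ≃ₗ[F] V) w - w) =
            ((g0⁻¹ : ↥(E Q)) : V ≃ₗ[F] V) w - w := by
          have e1 : ((g0⁻¹ : ↥(E Q)) : V ≃ₗ[F] V) ((g0 : V ≃ₗ[F] V) w) = w := LinearEquiv.symm_apply_apply _ _
          rw [map_sub, e1]; abel
        rwa [e] at h3
      refine mem_QL.2 ⟨key u (left_mem_L _ _), key v (right_mem_L _ _), fun w h1 h2 => ?_⟩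
      obtain ⟨h3, h4⟩ := NL_perp hk' h1 h2
      have a1 := hperp' w h1 h2
      have a2 := kL _ a1
      have a3 := gL' _ a2
      have a4 := hperp _ h3 h4
      have a5 := kL' _ (add_mem a3 a4)
      obtain ⟨a, b, e⟩ := mem_L.1 a5
      refine ⟨a, b, ?_⟩
      rw [add_assoc, e]
      show (k : V ≃ₗ[F] V) ((g0 : V ≃ₗ[F] V) (((k⁻¹ : ↥(E Q)) : V ≃ₗ[F] V)
          (((g0⁻¹ : ↥(E Q)) : V ≃ₗ[F] V) w))) = _
      simp only [map_sub, map_add, hco]
      abel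
    exact ⟨_, QL_le_P hP h h1, by simp⟩

theorem hlin_mem_NL {g0 : ↥(E Q)} {κ : F} (hl : Ln Q u v) (g1 : (g0 : V ≃ₗ[F] V) u = κ • u)
    (g2 : (g0 : V ≃ₗ[F] V) v = κ • v) : g0 ∈ NL Q u v :=
  mem_NL_of hl (by rw [g1]; exact Submodule.smul_mem _ _ (left_mem_L _ _))
    (by rw [g2]; exact Submodule.smul_mem _ _ (right_mem_L _ _))

/-- **The doubled root group of one line.** -/
theorem baseW [Finite F] (S : Sit Q t j) (hK : KFacts Q) (hP : Par Q) (h : LF Q u v u' v') {θ : F} (hθ : θ ≠ 0)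
    (hθ' : θ ≠ 1)
    (ex : ∀ x ∈ (X Q u v h.qu h.uv).map j, ∃ b : G, (∀ p ∈ (P Q u v h.qu h.uv).map j, b * p = p * b) ∧
      b * t * b⁻¹ = t * x) : ∃ W0 : Subgroup G, BaseW Q t j u v W0 := by
  have hP0 := P0_le_P hP h hθ hθ'
  have C := cent S hK hP h hP0 ex
  obtain ⟨g0, g1, g2, g3, g4, g5⟩ := exists_torus hP.good h hθ hθ
  have hg0 : g0 ∈ NL Q u v := hlin_mem_NL h.ln g1 g2
  have hm : (j g0) ^ (Nat.card F - 1) = 1 := by
    rw [← map_pow, torus_pow h hθ hθ g1 g2 g3 g4 g5, map_one]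
  have hnice : ∀ k ∈ NL Q u v, Nice t ((X Q u v h.qu h.uv).map j) ((P Q u v h.qu h.uv).map j) (j g0) (j k) :=
    fun k hk => nice S hP h hθ g1 g2 g5 hk
  have hh := hnice g0 hg0
  have hf : ∀ x ∈ (X Q u v h.qu h.uv).map j, j g0 * x * (j g0)⁻¹ = x → x = 1 := by
    rintro _ ⟨k, hk, rfl⟩ e
    obtain ⟨c, rfl⟩ := mem_X.1 hk
    rw [S.rconj, g1, map_smul, g2] at e
    have e1 := S.inj e
    rw [tE_smul_left θ h.qu (by
      rw [polar_smul_right, polar_smul_right, h.uv, smul_zero, smul_zero]), smul_smul, smul_smul] at e1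
    have hp : ∀ a : F, polar Q u (a • v) = 0 := fun a => by rw [polar_smul_right, h.uv, smul_zero]
    obtain ⟨a, ha⟩ := (tE_eq_iff hK.nondeg h.qu h.ln.ne (hp _) (hp _)).1 e1
    have h2 : a • u + (θ * c * θ - c) • v = 0 := by
      rw [sub_smul, ha]; abel
    have h3 := (h.ln.coeff h2).2
    have hc : c = 0 := by
      have h4 : (θ - 1) * (θ - 1) * c = 0 := by
        have h2' : (2 : F) = 0 := CharTwo.two_eq_zero
        linear_combination h3 + (c - θ * c) * h2'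
      rcases mul_eq_zero.1 h4 with h5 | h5
      · exact absurd (sub_eq_zero.1 (mul_self_eq_zero.1 h5)) hθ'
      · exact h5
    rw [hc, zero_smul, tE_zero_right, map_one]
  have D := C.isDbl_big hh hm odd_card_sub_one hf
  refine ⟨C.Wbig hh (Nat.card F - 1), ?_, ?_, ?_, ?_, ?_, ?_, ?_⟩
  · exact fun c => D.XW ⟨_, mem_X.2 ⟨c, rfl⟩, rfl⟩
  · intro w hw
    obtain ⟨k, hk, e⟩ := D.brk w hw
    obtain ⟨c, rfl⟩ := mem_X.1 hk
    exact ⟨c, e.symm⟩
  · exact fun c => D.surj _ ⟨_, mem_X.2 ⟨c, rfl⟩, rfl⟩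
  · intro w hw hc
    obtain ⟨k, hk, e⟩ := D.cent w hw hc.symm
    obtain ⟨c, rfl⟩ := mem_X.1 hk
    exact ⟨c, e.symm⟩
  · intro w hw k hk
    exact (D.WP w hw _ ⟨k, hP0 (mem_P0_of_comm hK.nondeg h hk), rfl⟩).symm
  · intro k hk w hw
    exact C.nice_big hh _ (hnice k hk) hw
  · intro w hw
    obtain ⟨h1, -⟩ := (C.mem_Wbig hh _).1 hw
    obtain ⟨k, hk, e⟩ := C.sq_mem h1
    obtain ⟨c, rfl⟩ := mem_X.1 hk
    exact ⟨c, e.symm⟩

/-- **Existence of the doubled long root groups, `q > 2`.** -/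
theorem exists_dbl [Finite F] (S : Sit Q t j) (hK : KFacts Q) (hP : Par Q) (h : LF Q u v u' v') {n : ℕ}
    {e f : ℕ → V} (hF : Flag Q n e f) (hn : 3 ≤ n) {θ : F} (hθ : θ ≠ 0) (hθ' : θ ≠ 1)
    (ex : ∀ x ∈ (X Q u v h.qu h.uv).map j, ∃ b : G, (∀ p ∈ (P Q u v h.qu h.uv).map j, b * p = p * b) ∧
      b * t * b⁻¹ = t * x) : ∃ W : V → V → Subgroup G, Dbl Q t j W := by
  obtain ⟨W0, B⟩ := baseW S hK hP h hθ hθ' ex
  exact ⟨_, B.dbl_big S hK h.ln hF hn hθ hθ'⟩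

/-- the same from `D7Ex.Setup` and one moving element -/
theorem exists_dbl_of_setup [Finite G] [Finite F] (S : Sit Q t j) (hK : KFacts Q) (hP : Par Q)
    (h : LF Q u v u' v') {n : ℕ} {e f : ℕ → V} (hF : Flag Q n e f) (hn : 3 ≤ n) {θ : F} (hθ : θ ≠ 0)
    (hθ' : θ ≠ 1) {H : Subgroup G}
    (ST : Setup t ((X Q u v h.qu h.uv).map j) ((QL Q u v).map j) ((P Q u v h.qu h.uv).map j) H)
    (hlin : Lin ((X Q u v h.qu h.uv).map j) ((QL Q u v).map j) ((P Q u v h.qu h.uv).map j))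
    (Htr : ∀ x ∈ (X Q u v h.qu h.uv).map j, ∀ y ∈ (X Q u v h.qu h.uv).map j, x ≠ 1 → y ≠ 1 →
      ∃ a ∈ H, a * x * a⁻¹ = y)
    (Hne : ∃ a ∈ H, (∀ p ∈ (P Q u v h.qu h.uv).map j, a * p * a⁻¹ * p⁻¹ ∈ (QL Q u v).map j) ∧
      ∃ x ∈ (X Q u v h.qu h.uv).map j, a * x * a⁻¹ ≠ x)
    {m : G} (hm : m ∈ ST.N) (hmt : m * t * m⁻¹ ≠ t) : ∃ W : V → V → Subgroup G, Dbl Q t j W :=
  exists_dbl S hK hP h hF hn hθ hθ' fun _ hx => ST.exists_cent_of_big hlin Htr Hne hm hmt hx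

end Cfsg.Agent.OddHalf.Orth.ExBig

end

-- merged: Cfsg.Agent.OddHalf.Orth.CleanMain
section

/-!
# ODD D7, `K = Ω(V)`: from the doubled long root groups to a homomorphism `G → {±1}`, clean case
-/

set_option autoImplicit false

namespace Cfsg.Agent.OddHalf.Orth.CleanMain

open QuadraticMap Cfsg.Agent.LieClassical.OrthCore Cfsg.Agent.LieClassical.OrthTrans
  Cfsg.Agent.LieClassical.OrthForms
  Cfsg.Agent.ClassicalGeometry.OrthAutBasic Cfsg.Agent.ClassicalGeometry.OrthAutRoot Cfsg.Agent.OddHalf.Orth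
  Cfsg.Agent.OddHalf.Orth.Face Cfsg.Agent.OddHalf.Orth.Star Cfsg.Agent.OddHalf.Orth.Lines
  Cfsg.Agent.OddHalf.Orth.FlagDef

variable {F V : Type*} [Field F] [AddCommGroup V] [Module F V] {Q : QuadraticForm F V}
variable {G : Type*} [Group G] {t : G} {j : ↥(E Q) →* G} {W : V → V → Subgroup G}
variable {n : ℕ} {e f : ℕ → V}

theorem grow_of [CharP F 2] [FiniteDimensional F V] (D : Full Q t j W) : Lay.Grow Q t W where
  notin hu hu0 := D.t_notin hu hu0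
  ab _ _ hf hg := (D.ab hf hg).eq
  sq _ _ hf := sqVs D hf
  norm huv hs hs0 h1 h2 hw hf := by
    have := norm_Vs D hs hs0 huv h1 h2 (inv_mem hw) hf
    rwa [inv_inv] at this

/-- The end of the clean case. -/
theorem exists_hom [Finite G] [Finite F] [CharP F 2] [FiniteDimensional F V] (hB : Big Q) (hK : KFacts Q)
    (D : Dbl Q t j W) (hF : Flag Q n e f) (hn : 3 ≤ n) (hd : HasDelta Q n e f) (hU : Odd (UK Q e f n).index)
    (hodd : Odd ((j.range ⊔ Subgroup.zpowers t).relIndex (Subgroup.centralizer ({t} : Set G)))) :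
    ∃ m : G →* ℤˣ, m t = -1 :=
  Clean.exists_hom_of hB hK D (grow_of (full_of D hK)) hF hn hd hU hodd

end Cfsg.Agent.OddHalf.Orth.CleanMain

end

-- merged: Cfsg.Agent.OddHalf.Orth.ExMain
section

/-!
# `Dbl` for `q > 2` from one moving element (ODD D7, `K = Ω(V)`)
-/

set_option autoImplicit false

namespace Cfsg.Agent.OddHalf.Orth.ExMain

open QuadraticMap Cfsg.Agent.LieClassical.OrthCore Cfsg.Agent.LieClassical.OrthTrans
  Cfsg.Agent.ClassicalGeometry.OrthAutBasic Cfsg.Agent.ClassicalGeometry.OrthAutRoot Cfsg.Agent.OddHalf.Orth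
  Cfsg.Agent.OddHalf.Orth.Star Cfsg.Agent.OddHalf.Orth.Face Cfsg.Agent.OddHalf.Orth.FlagDef
  Cfsg.Agent.OddHalf.Orth.ExBase Cfsg.Agent.OddHalf.Orth.ExBig Cfsg.Agent.OddHalf.D7Ex

variable {F V : Type*} [Field F] [AddCommGroup V] [Module F V] {Q : QuadraticForm F V}
variable {G : Type*} [Group G] {t : G} {j : ↥(E Q) →* G} {u v u' v' : V} [CharP F 2]

/-- **`q > 2`**: if some `m` normalises `X` and moves `t` into `t X` then the doubled long root groups exist. -/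
theorem exists_dbl_of_move [Finite G] [Finite F] (S : Sit Q t j) (hP : Par Q) (h : LF Q u v u' v') {n : ℕ}
    {e f : ℕ → V} (hF : Flag Q n e f) (hn : 3 ≤ n) {θ : F} (hθ : θ ≠ 0) (hθ' : θ ≠ 1) {m : G}
    (hmX : ∀ x ∈ (X Q u v h.qu h.uv).map j, m * x * m⁻¹ ∈ (X Q u v h.qu h.uv).map j)
    (hmt : t * (m * t * m⁻¹) ∈ (X Q u v h.qu h.uv).map j) (hne : m * t * m⁻¹ ≠ t) :
    ∃ W : V → V → Subgroup G, Dbl Q t j W := by
  have hK : KFacts Q := kfacts hP.nd hP.d8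
  have ST := setup_of hP S h
  refine exists_dbl_of_setup S hK hP h hF hn hθ hθ' ST ?_ (setup_tr hP h) (setup_ne hP S h hθ hθ')
    (m := m) ?_ hne
  · intro a ha h1 h2 h3
    exact setup_lin hP S h ha h1 h2 h3
  · refine ST.mem_N.2 ⟨hmX, fun x hx => ?_, hmt⟩
    have := (inv_norm S hmX hmt).1 x hx
    rwa [inv_inv] at this

end Cfsg.Agent.OddHalf.Orth.ExMain

end
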