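import Mathlib
import Cfsg.Agent.StdSpSix.TR
import Cfsg.Agent.OddHalf.Orth.StarBig
import Cfsg.Agent.OddHalf.Orth.FlagDef

-- merged: Cfsg.Agent.OddHalf.Orth.Grow2
section

/-!
# Growth of doubled root groups (layers)

`t` is an involution, `V 0, V 1, …` are elementary abelian 2-groups normalised by `t` on which `t` acts freely,
`V j` normalises `W j` where `W k = ⟨V i : i < k⟩`, and the fixed point groups `X i = C_{V i}(t)` are independent in
the sense that `X k ⊓ U k = ⊥`, `U k = ⟨X i : i < k⟩`. Then `C_{W k}(t) = U k`, every involution of `t W k` is conjugate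
to `t` under `W k`, and if `⟨t⟩ U n` has odd index in `C_G(t)` then `G` has a subgroup of index 2 which does not
contain `t`.
-/

set_option autoImplicit false
set_option linter.unusedSectionVars false

namespace Cfsg.Agent.OddHalf.Orth.Grow2

variable {G : Type*} [Group G]

/-- The group generated by the first `k` terms. -/
def W (V : ℕ → Subgroup G) (k : ℕ) : Subgroup G := ⨆ i : ℕ, ⨆ _ : i < k, V i

theorem le_W (V : ℕ → Subgroup G) {i k : ℕ} (h : i < k) : V i ≤ W V k :=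
  le_iSup₂_of_le (f := fun i (_ : i < k) => V i) i h le_rfl

theorem W_mono (V : ℕ → Subgroup G) {j k : ℕ} (h : j ≤ k) : W V j ≤ W V k :=
  iSup₂_le fun _ hi => le_W V (lt_of_lt_of_le hi h)

theorem W_zero (V : ℕ → Subgroup G) : W V 0 = ⊥ := by
  rw [eq_bot_iff]
  exact iSup₂_le fun i hi => absurd hi (Nat.not_lt_zero i)

theorem W_succ (V : ℕ → Subgroup G) (k : ℕ) : W V (k + 1) = W V k ⊔ V k := by
  apply le_antisymm
  · refine iSup₂_le fun i hi => ?_
    rcases Nat.lt_succ_iff_lt_or_eq.1 hi with h | rfl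
    · exact le_sup_of_le_left (le_W V h)
    · exact le_sup_right
  · exact sup_le (W_mono V (Nat.le_succ k)) (le_W V (Nat.lt_succ_self k))

/-- The hypotheses: `V i` doubled root groups, `X i` root groups. -/
structure Dbl (t : G) (V X : ℕ → Subgroup G) (n : ℕ) : Prop where
  tt : t * t = 1
  conj : ∀ i < n, ∀ v ∈ V i, t * v * t ∈ V i
  sq : ∀ i < n, ∀ v ∈ V i, v * v = 1
  fix : ∀ i < n, ∀ v ∈ V i, t * v * t = v → v ∈ X i
  X_le : ∀ i < n, X i ≤ V i
  X_fix : ∀ i < n, ∀ v ∈ X i, t * v * t = v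
  free : ∀ i < n, ∀ v ∈ X i, ∃ c ∈ V i, v = t * c * t * c⁻¹
  norm : ∀ i j, i < j → j < n → ∀ v ∈ V i, ∀ w ∈ V j, w * v * w⁻¹ ∈ W V j
  indep : ∀ k < n, X k ⊓ W X k = ⊥

namespace Dbl

variable {t : G} {V X : ℕ → Subgroup G} {n : ℕ}

theorem t_inv (h : Dbl t V X n) : t⁻¹ = t := inv_eq_of_mul_eq_one_left h.tt

theorem conj_mul (h : Dbl t V X n) (a b : G) : t * (a * b) * t = (t * a * t) * (t * b * t) := by
  calc t * (a * b) * t = t * a * 1 * b * t := by group
    _ = t * a * (t * t) * b * t := by rw [h.tt]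
    _ = (t * a * t) * (t * b * t) := by group

theorem conj_inv (h : Dbl t V X n) (a : G) : t * a⁻¹ * t = (t * a * t)⁻¹ := by
  rw [mul_inv_rev, mul_inv_rev, h.t_inv, mul_assoc]

theorem conj_conj (h : Dbl t V X n) (a : G) : t * (t * a * t) * t = a := by
  calc t * (t * a * t) * t = (t * t) * a * (t * t) := by group
    _ = a := by rw [h.tt, one_mul, mul_one]

/-- Conjugation by `t`. -/
theorem conj_W (h : Dbl t V X n) {k : ℕ} (hk : k ≤ n) {w : G} (hw : w ∈ W V k) : t * w * t ∈ W V k := by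
  have hle : W V k ≤ (W V k).comap (MulAut.conj t).toMonoidHom := by
    refine iSup₂_le fun i hi v hv => ?_
    show t * v * t⁻¹ ∈ W V k
    rw [h.t_inv]
    exact le_W V hi (h.conj i (lt_of_lt_of_le hi hk) v hv)
  have h1 : t * w * t⁻¹ ∈ W V k := hle hw
  rwa [h.t_inv] at h1

/-- `V j` normalises `W j`. -/
theorem normal (h : Dbl t V X n) {k j : ℕ} (hkj : k = j) (hj : j < n) {v w : G} (hv : v ∈ V j) (hw : w ∈ W V k) :
    v * w * v⁻¹ ∈ W V k := by
  subst hkj
  have hle : W V k ≤ (W V k).comap (MulAut.conj v).toMonoidHom := by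
    refine iSup₂_le fun i hi u hu => ?_
    show v * u * v⁻¹ ∈ W V k
    exact h.norm i k hi hj u hu v hv
  exact hle hw

theorem mem_succ (h : Dbl t V X n) {k : ℕ} (hk : k < n) {w : G} (hw : w ∈ W V (k + 1)) :
    ∃ u ∈ W V k, ∃ v ∈ V k, w = u * v := by
  let S : Subgroup G :=
    { carrier := {w | ∃ u ∈ W V k, ∃ v ∈ V k, w = u * v}
      one_mem' := ⟨1, one_mem _, 1, one_mem _, (mul_one 1).symm⟩
      mul_mem' := by
        rintro _ _ ⟨u, hu, v, hv, rfl⟩ ⟨u', hu', v', hv', rfl⟩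
        exact ⟨u * (v * u' * v⁻¹), mul_mem hu (h.normal rfl hk hv hu'), v * v', mul_mem hv hv', by group⟩
      inv_mem' := by
        rintro _ ⟨u, hu, v, hv, rfl⟩
        exact ⟨v⁻¹ * u⁻¹ * v⁻¹⁻¹, h.normal rfl hk (inv_mem hv) (inv_mem hu), v⁻¹, inv_mem hv, by group⟩ }
  have hS : W V (k + 1) ≤ S := by
    rw [W_succ, sup_le_iff]
    exact ⟨fun u hu => ⟨u, hu, 1, one_mem _, (mul_one u).symm⟩, fun v hv => ⟨1, one_mem _, v, hv, (one_mul v).symm⟩⟩
  exact hS hw

/-- The induction. -/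
theorem main (h : Dbl t V X n) (k : ℕ) : k ≤ n →
    (∀ w ∈ W V k, t * w * t = w → w ∈ W X k) ∧
    (∀ w ∈ W V k, t * w * t = w⁻¹ → ∃ c ∈ W V k, w = t * c * t * c⁻¹) := by
  induction k with
  | zero =>
    intro _
    rw [W_zero, W_zero]
    constructor
    · intro w hw _
      exact hw
    · intro w hw _
      refine ⟨1, one_mem _, ?_⟩
      rw [Subgroup.mem_bot.1 hw, mul_one, h.tt, one_mul, inv_one]
  | succ k ih =>
    intro hk
    have hk' : k < n := hk
    obtain ⟨h1, h2⟩ := ih hk'.le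
    -- `V k ⊓ W k = ⊥`
    have hX : ∀ v ∈ V k, v ∈ W V k → t * v * t = v → v = 1 := by
      intro v hv hw hf
      have h3 : v ∈ X k ⊓ W X k := ⟨h.fix k hk' v hv hf, h1 v hw hf⟩
      rw [h.indep k hk'] at h3
      exact Subgroup.mem_bot.1 h3
    have hV : ∀ v ∈ V k, v ∈ W V k → v = 1 := by
      intro v hv hw
      have hv' := h.conj k hk' v hv
      have hw' := h.conj_W hk'.le hw
      have hcomm : ∀ a ∈ V k, ∀ b ∈ V k, a * b = b * a := by
        intro a ha b hb
        have e1 := h.sq k hk' (a * b) (mul_mem ha hb)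
        have e2 := h.sq k hk' a ha
        have e3 := h.sq k hk' b hb
        calc a * b = a * ((a * b) * (a * b)) * b := by rw [e1, mul_one]
          _ = (a * a) * (b * a) * (b * b) := by group
          _ = b * a := by rw [e2, e3, one_mul, mul_one]
      have e : v * (t * v * t) = 1 := by
        apply hX _ (mul_mem hv hv') (mul_mem hw hw')
        rw [h.conj_mul, h.conj_conj]
        exact hcomm _ hv' _ hv
      have e1 : t * v * t = v := by
        have e2 := h.sq k hk' v hv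
        exact mul_left_cancel (e.trans e2.symm)
      exact hX v hv hw e1
    constructor
    · intro w hw hf
      obtain ⟨u, hu, v, hv, rfl⟩ := h.mem_succ hk' hw
      rw [h.conj_mul] at hf
      have hu' := h.conj_W hk'.le hu
      have hv' := h.conj k hk' v hv
      have e1 : u⁻¹ * (t * u * t) = v * (t * v * t)⁻¹ := by
        rw [inv_mul_eq_iff_eq_mul, ← mul_assoc, eq_mul_inv_iff_mul_eq]
        exact hf
      have e2 : v * (t * v * t)⁻¹ = 1 := hV _ (mul_mem hv (inv_mem hv')) (by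
        rw [← e1]
        exact mul_mem (inv_mem hu) hu')
      have e3 : t * v * t = v := (mul_inv_eq_one.1 e2).symm
      have e4 : t * u * t = u := by
        rw [e2, inv_mul_eq_one] at e1
        exact e1.symm
      exact mul_mem (W_mono X (Nat.le_succ k) (h1 u hu e4)) (le_W X (Nat.lt_succ_self k) (h.fix k hk' v hv e3))
    · intro w hw hf
      obtain ⟨u, hu, v, hv, rfl⟩ := h.mem_succ hk' hw
      have hu' := h.conj_W hk'.le hu
      have hv' := h.conj k hk' v hv
      rw [h.conj_mul, mul_inv_rev] at hf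
      -- modulo `W k`
      have e1 : (t * v * t) * v = (t * u * t)⁻¹ * (v⁻¹ * u⁻¹ * v⁻¹⁻¹) := by
        calc (t * v * t) * v = (t * u * t)⁻¹ * ((t * u * t) * (t * v * t)) * v := by group
          _ = (t * u * t)⁻¹ * (v⁻¹ * u⁻¹ * v⁻¹⁻¹) := by rw [hf]; group
      have e2 : (t * v * t) * v = 1 := hV _ (mul_mem hv' hv) (by
        rw [e1]
        exact mul_mem (inv_mem hu') (h.normal rfl hk' (inv_mem hv) (inv_mem hu)))
      have e3 : t * v * t = v := by
        have e4 := h.sq k hk' v hv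
        exact mul_right_cancel (e2.trans e4.symm)
      obtain ⟨c, hc, hvc⟩ := h.free k hk' v (h.fix k hk' v hv e3)
      have hc' := h.conj k hk' c hc
      set w' := (t * c * t)⁻¹ * u * (t * c * t) with hw'
      have hw'm : w' ∈ W V k := by
        have := h.normal rfl hk' (inv_mem hc') hu
        rwa [inv_inv] at this
      have e5 : u * v = (t * c * t) * w' * c⁻¹ := by
        rw [hw', hvc]
        group
      have e6 : t * w' * t = w'⁻¹ := by
        have e7 : w' = (t * c * t)⁻¹ * (u * v) * c := by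
          rw [e5]
          group
        rw [e7, h.conj_mul, h.conj_mul, h.conj_inv, h.conj_conj, h.conj_mul, hf]
        group
      obtain ⟨d, hd, hwd⟩ := h2 w' hw'm e6
      refine ⟨c * d, mul_mem (le_W V (Nat.lt_succ_self k) hc) (W_mono V (Nat.le_succ k) hd), ?_⟩
      rw [e5, hwd, h.conj_mul]
      group

theorem U_le (h : Dbl t V X n) {k : ℕ} (hk : k ≤ n) : W X k ≤ W V k :=
  iSup₂_le fun i hi => (h.X_le i (lt_of_lt_of_le hi hk)).trans (le_W V hi)

theorem U_fix (h : Dbl t V X n) {k : ℕ} (hk : k ≤ n) {w : G} (hw : w ∈ W X k) : t * w * t = w := by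
  let S : Subgroup G := Subgroup.centralizer {t}
  have hS : W X k ≤ S := by
    refine iSup₂_le fun i hi v hv => ?_
    rw [Subgroup.mem_centralizer_singleton_iff]
    have h1 := h.X_fix i (lt_of_lt_of_le hi hk) v hv
    calc v * t = t * v * t * t := by rw [h1]
      _ = t * v * (t * t) := by group
      _ = t * v := by rw [h.tt, mul_one]
  have h1 := Subgroup.mem_centralizer_singleton_iff.1 (hS hw)
  rw [mul_assoc, h1, ← mul_assoc, h.tt, one_mul]

/-- The fixed points of `t`. -/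
theorem mem_U_iff (h : Dbl t V X n) {k : ℕ} (hk : k ≤ n) {w : G} :
    w ∈ W X k ↔ w ∈ W V k ∧ t * w * t = w :=
  ⟨fun hw => ⟨h.U_le hk hw, h.U_fix hk hw⟩, fun hw => (h.main k hk).1 w hw.1 hw.2⟩

/-- Every involution of `t W` is conjugate to `t`. -/
theorem exists_conj (h : Dbl t V X n) {w : G} (hw : w ∈ W V n) (hinv : (t * w) * (t * w) = 1) :
    ∃ c ∈ W V n, t * w = c * t * c⁻¹ := by
  have h1 : t * w * t = w⁻¹ := by
    rw [eq_inv_iff_mul_eq_one, ← hinv]
    group
  obtain ⟨c, hc, hwc⟩ := (h.main n le_rfl).2 w hw h1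
  refine ⟨c, hc, ?_⟩
  rw [hwc]
  calc t * (t * c * t * c⁻¹) = (t * t) * c * t * c⁻¹ := by group
    _ = c * t * c⁻¹ := by rw [h.tt, one_mul]

/-- The group `W ⟨t⟩`. -/
def H (h : Dbl t V X n) : Subgroup G where
  carrier := {g | g ∈ W V n ∨ t * g ∈ W V n}
  one_mem' := Or.inl (one_mem _)
  mul_mem' := by
    rintro a b (ha | ha) (hb | hb)
    · exact Or.inl (mul_mem ha hb)
    · right
      have h1 := mul_mem (h.conj_W le_rfl ha) hb
      have h2 : t * a * t * (t * b) = t * (a * b) := by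
        calc t * a * t * (t * b) = t * a * (t * t) * b := by group
          _ = t * (a * b) := by rw [h.tt]; group
      rwa [h2] at h1
    · right
      have h1 := mul_mem ha hb
      rwa [mul_assoc] at h1
    · left
      have h1 := mul_mem (h.conj_W le_rfl ha) hb
      have h2 : t * (t * a) * t * (t * b) = a * b := by
        calc t * (t * a) * t * (t * b) = (t * t) * a * (t * t) * b := by group
          _ = a * b := by rw [h.tt]; group
      rwa [h2] at h1
  inv_mem' := by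
    rintro a (ha | ha)
    · exact Or.inl (inv_mem ha)
    · right
      have h1 := h.conj_W le_rfl (inv_mem ha)
      rw [mul_inv_rev, h.t_inv] at h1
      have h2 : t * (a⁻¹ * t) * t = t * a⁻¹ := by
        calc t * (a⁻¹ * t) * t = t * a⁻¹ * (t * t) := by group
          _ = t * a⁻¹ := by rw [h.tt, mul_one]
      rwa [h2] at h1

theorem mem_H (h : Dbl t V X n) {g : G} : g ∈ h.H ↔ g ∈ W V n ∨ t * g ∈ W V n := Iff.rfl

theorem t_mem_H (h : Dbl t V X n) : t ∈ h.H := Or.inr (by rw [h.tt]; exact one_mem _)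

open Classical in
/-- The sign with kernel `W`. -/
noncomputable def sign (h : Dbl t V X n) (ht : t ∉ W V n) : h.H →* ℤˣ where
  toFun g := if (g : G) ∈ W V n then 1 else -1
  map_one' := if_pos (one_mem _)
  map_mul' := by
    rintro ⟨a, ha⟩ ⟨b, hb⟩
    have key : ∀ g ∈ h.H, g ∉ W V n → t * g ∈ W V n := fun g hg hn => hg.resolve_left hn
    have htg : ∀ g, g ∈ W V n → t * g ∉ W V n := by
      intro g hg hn
      apply ht
      have := mul_mem hn (inv_mem hg)
      rwa [mul_inv_cancel_right] at this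
    simp only [MulMemClass.mk_mul_mk]
    by_cases h1 : a ∈ W V n <;> by_cases h2 : b ∈ W V n
    · rw [if_pos h1, if_pos h2, if_pos (mul_mem h1 h2), one_mul]
    · have h3 : a * b ∉ W V n := fun hn => h2 (by
        have := mul_mem (inv_mem h1) hn
        rwa [inv_mul_cancel_left] at this)
      rw [if_pos h1, if_neg h2, if_neg h3, one_mul]
    · have h3 : a * b ∉ W V n := fun hn => h1 (by
        have := mul_mem hn (inv_mem h2)
        rwa [mul_inv_cancel_right] at this)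
      rw [if_neg h1, if_pos h2, if_neg h3, mul_one]
    · have h4 := key a ha h1
      have h5 := key b hb h2
      have h6 := mul_mem (h.conj_W le_rfl h4) h5
      have h7 : t * (t * a) * t * (t * b) = a * b := by
        calc t * (t * a) * t * (t * b) = (t * t) * a * (t * t) * b := by group
          _ = a * b := by rw [h.tt]; group
      rw [h7] at h6
      rw [if_neg h1, if_neg h2, if_pos h6]
      rfl

theorem sign_apply (h : Dbl t V X n) (ht : t ∉ W V n) (g : h.H) :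
    h.sign ht g = -1 ↔ (g : G) ∉ W V n := by
  classical
  show (if (g : G) ∈ W V n then (1 : ℤˣ) else -1) = -1 ↔ _
  by_cases h1 : (g : G) ∈ W V n
  · rw [if_pos h1]
    exact ⟨fun h => absurd h (by decide), fun h => absurd h1 h⟩
  · rw [if_neg h1]
    exact ⟨fun _ => h1, fun _ => rfl⟩

/-- **Growth**: if `⟨t⟩ U` has odd index in the centraliser of `t`, then `t` lies outside a subgroup of index 2. -/
theorem exists_hom [Finite G] (h : Dbl t V X n) (ht : t ∉ W X n)
    (hodd : Odd ((W X n ⊔ Subgroup.zpowers t).relIndex (Subgroup.centralizer ({t} : Set G)))) :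
    ∃ m : G →* ℤˣ, m t = -1 := by
  have htt : t * t * t = t := by rw [h.tt, one_mul]
  have ht' : t ∉ W V n := fun h1 => ht ((h.mem_U_iff le_rfl).2 ⟨h1, htt⟩)
  refine Cfsg.Agent.StdSpSix.TR.exists_hom_of_class (h.sign ht') h.tt h.t_mem_H ((h.sign_apply ht' _).2 ht') ?_ ?_
  · intro g hg hs
    rw [h.sign_apply] at hs
    have h1 : t * (g⁻¹ * t * g) ∈ W V n := hg.resolve_left hs
    have h2 : t * (t * (g⁻¹ * t * g)) = g⁻¹ * t * g := by rw [← mul_assoc, h.tt, one_mul]
    have h3 : (g⁻¹ * t * g) * (g⁻¹ * t * g) = 1 := by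
      calc (g⁻¹ * t * g) * (g⁻¹ * t * g) = g⁻¹ * (t * t) * g := by group
        _ = 1 := by rw [h.tt]; group
    obtain ⟨c, hc, hcc⟩ := h.exists_conj h1 (by rw [h2]; exact h3)
    rw [h2] at hcc
    exact ⟨c, Or.inl hc, hcc⟩
  · have h1 : h.H.relIndex (Subgroup.centralizer ({t} : Set G)) =
        (W X n ⊔ Subgroup.zpowers t).relIndex (Subgroup.centralizer ({t} : Set G)) := by
      rw [← Subgroup.inf_relIndex_right, ← Subgroup.inf_relIndex_right (W X n ⊔ Subgroup.zpowers t)]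
      congr 1
      apply le_antisymm
      · rintro g ⟨hg, hc⟩
        refine ⟨?_, hc⟩
        have hc' := Subgroup.mem_centralizer_singleton_iff.1 hc
        rcases hg with hg | hg
        · refine Subgroup.mem_sup_left ((h.mem_U_iff le_rfl).2 ⟨hg, ?_⟩)
          rw [mul_assoc, hc', ← mul_assoc, h.tt, one_mul]
        · have h4 : t * g ∈ W X n := (h.mem_U_iff le_rfl).2 ⟨hg, by
            rw [mul_assoc, mul_assoc, hc', ← mul_assoc, ← mul_assoc, h.tt, one_mul]⟩
          have h5 : g = t⁻¹ * (t * g) := by group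
          rw [h5]
          exact mul_mem (Subgroup.mem_sup_right (inv_mem (Subgroup.mem_zpowers t))) (Subgroup.mem_sup_left h4)
      · refine le_inf ?_ inf_le_right
        refine inf_le_left.trans (sup_le ?_ ?_)
        · exact fun g hg => Or.inl (h.U_le le_rfl hg)
        · rw [Subgroup.zpowers_le]
          exact h.t_mem_H
    rw [h1]
    exact hodd

end Dbl

end Cfsg.Agent.OddHalf.Orth.Grow2

end

-- merged: Cfsg.Agent.OddHalf.Orth.Lay
section

/-!
# ODD D7, `K = Ω(V)`: the layers `B_i`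

`B u H = V*_u ∩ ⋂_{s ∈ H} N_G(V*_s)`; `H` is a set of singular vectors perpendicular to `u`.
-/

set_option autoImplicit false

namespace Cfsg.Agent.OddHalf.Orth.Lay

open QuadraticMap Cfsg.Agent.LieClassical.OrthCore Cfsg.Agent.LieClassical.OrthTrans
  Cfsg.Agent.ClassicalGeometry.OrthAutBasic Cfsg.Agent.ClassicalGeometry.OrthAutRoot
  Cfsg.Agent.ClassicalGeometry.OrthAutSylow Cfsg.Agent.OddHalf.Orth
  Cfsg.Agent.OddHalf.Orth.Face Cfsg.Agent.OddHalf.Orth.Star

variable {F V : Type*} [Field F] [AddCommGroup V] [Module F V] {Q : QuadraticForm F V}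
variable {G : Type*} [Group G] {t : G} {j : ↥(E Q) →* G} {W : V → V → Subgroup G}

/-- The results of sections 2 and 3 of the text. -/
structure Grow (Q : QuadraticForm F V) (t : G) (W : V → V → Subgroup G) : Prop where
  notin : ∀ {u : V}, Q u = 0 → u ≠ 0 → t ∉ Vs Q W u
  ab : ∀ {u : V} {f g : G}, Q u = 0 → u ≠ 0 → f ∈ Vs Q W u → g ∈ Vs Q W u → f * g = g * f
  sq : ∀ {u : V} {f : G}, Q u = 0 → u ≠ 0 → f ∈ Vs Q W u → f * f = 1
  norm : ∀ {u v s : V} {w f : G}, Ln Q u v → Q s = 0 → s ≠ 0 → polar Q s u = 0 → polar Q s v = 0 →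
    w ∈ W u v → f ∈ Vs Q W s → w * f * w⁻¹ ∈ Vs Q W s

/-- The layer. -/
def B (Q : QuadraticForm F V) (W : V → V → Subgroup G) (u : V) (H : Set V) : Subgroup G :=
  Vs Q W u ⊓ ⨅ s : V, ⨅ _ : s ∈ H, Subgroup.normalizer (Vs Q W s : Set G)

theorem mem_B {u : V} {H : Set V} {g : G} :
    g ∈ B Q W u H ↔ g ∈ Vs Q W u ∧ ∀ s ∈ H, g ∈ Subgroup.normalizer (Vs Q W s : Set G) := by
  rw [B, Subgroup.mem_inf, Subgroup.mem_iInf]
  constructor
  · rintro ⟨h1, h2⟩
    exact ⟨h1, fun s hs => (Subgroup.mem_iInf.1 (h2 s)) hs⟩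
  · rintro ⟨h1, h2⟩
    exact ⟨h1, fun s => Subgroup.mem_iInf.2 (h2 s)⟩

theorem mem_norm {A : Subgroup G} {g : G} (h1 : ∀ f ∈ A, g * f * g⁻¹ ∈ A) (h2 : ∀ f ∈ A, g⁻¹ * f * g ∈ A) :
    g ∈ Subgroup.normalizer (A : Set G) := by
  rw [Subgroup.mem_normalizer_iff]
  intro f
  refine ⟨h1 f, fun h => ?_⟩
  have := h2 _ h
  have e : g⁻¹ * (g * f * g⁻¹) * g = f := by group
  rwa [e] at this

theorem norm_conj {A : Subgroup G} {g f : G} (hg : g ∈ Subgroup.normalizer (A : Set G)) (hf : f ∈ A) :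
    g * f * g⁻¹ ∈ A := (Subgroup.mem_normalizer_iff.1 hg f).1 hf

/-- `B_j` normalises `B_i`. -/
theorem B_conj {u u' : V} {H H' : Set V} (hu : u ∈ H') (hH : H ⊆ H') {a b : G} (ha : a ∈ B Q W u H)
    (hb : b ∈ B Q W u' H') : b * a * b⁻¹ ∈ B Q W u H := by
  rw [mem_B] at ha hb ⊢
  exact ⟨norm_conj (hb.2 u hu) ha.1, fun s hs =>
    mul_mem (mul_mem (hb.2 s (hH hs)) (ha.2 s hs)) (inv_mem (hb.2 s (hH hs)))⟩

section Dbl

variable (D : Dbl Q t j W)
include D

theorem t_conj_Vs (hK : KFacts Q) {s : V} (hs : Q s = 0) (hs0 : s ≠ 0) {f : G} (hf : f ∈ Vs Q W s) :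
    t * f * t ∈ Vs Q W s := by
  have h1 := Ru_le D hK hs hs0 (Vs_ph D hs hf)
  have h2 := mul_mem hf h1
  have e : f * ph t f = t * f * t := by rw [ph_def, mul_inv_cancel_left]
  rwa [e] at h2

theorem t_norm (hK : KFacts Q) {s : V} (hs : Q s = 0) (hs0 : s ≠ 0) :
    t ∈ Subgroup.normalizer (Vs Q W s : Set G) := by
  have ti := D.t_inv
  refine mem_norm (fun f hf => ?_) (fun f hf => ?_)
  · rw [ti]; exact t_conj_Vs D hK hs hs0 hf
  · rw [ti]; exact t_conj_Vs D hK hs hs0 hf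

/-- `B` is `t`-invariant. -/
theorem B_t (hK : KFacts Q) {u : V} (hu : Q u = 0) (hu0 : u ≠ 0) {H : Set V} (hH : ∀ s ∈ H, Q s = 0 ∧ s ≠ 0)
    {g : G} (hg : g ∈ B Q W u H) : t * g * t ∈ B Q W u H := by
  rw [mem_B] at hg ⊢
  refine ⟨t_conj_Vs D hK hu hu0 hg.1, fun s hs => ?_⟩
  have h1 := t_norm D hK (hH s hs).1 (hH s hs).2
  exact mul_mem (mul_mem h1 (hg.2 s hs)) h1

/-- `k ∈ K` fixing `s` normalises `V*_s` -/
theorem k_norm {s : V} {k : ↥(E Q)} (hk : (k : V ≃ₗ[F] V) s = s) :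
    j k ∈ Subgroup.normalizer (Vs Q W s : Set G) := by
  have hk' : ((k⁻¹ : ↥(E Q)) : V ≃ₗ[F] V) s = s := by
    rw [Subgroup.coe_inv]
    show (k : V ≃ₗ[F] V).symm s = s
    rw [LinearEquiv.symm_apply_eq]
    exact hk.symm
  refine mem_norm (fun f hf => ?_) (fun f hf => ?_)
  · have := Vs_conj D k hf
    rwa [hk] at this
  · have := Vs_conj D k⁻¹ hf
    rwa [hk', map_inv, inv_inv] at this

theorem R_mem_B [CharP F 2] (hK : KFacts Q) {u y : V} (hu : Q u = 0) (hu0 : u ≠ 0) (hy : polar Q u y = 0)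
    {H : Set V} (hH : ∀ s ∈ H, polar Q s u = 0 ∧ polar Q s y = 0) : j (tE Q u y) ∈ B Q W u H := by
  rw [mem_B]
  refine ⟨Ru_le D hK hu hu0 (Ru_mem hy), fun s hs => k_norm D ?_⟩
  obtain ⟨h1, h2⟩ := hH s hs
  rw [coe_tE]
  exact T_fix (by rw [polar_comm]; exact h1) (by rw [polar_comm]; exact h2)

omit D in
theorem W_mem_B (hG : Grow Q t W) {u v : V} (h : Ln Q u v) {H : Set V}
    (hH : ∀ s ∈ H, Q s = 0 ∧ s ≠ 0 ∧ polar Q s u = 0 ∧ polar Q s v = 0) {w : G} (hw : w ∈ W u v) :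
    w ∈ B Q W u H := by
  rw [mem_B]
  refine ⟨mem_Vs h hw, fun s hs => ?_⟩
  obtain ⟨h1, h2, h3, h4⟩ := hH s hs
  refine mem_norm (fun f hf => hG.norm h h1 h2 h3 h4 hw hf) (fun f hf => ?_)
  have := hG.norm h h1 h2 h3 h4 (inv_mem hw) hf
  rwa [inv_inv] at this

/-- `C_B(t) = R` -/
theorem B_fix [Finite F] [CharP F 2] (hB : Big Q) (hK : KFacts Q) (hG : Grow Q t W) {u : V} (hu : Q u = 0)
    (hu0 : u ≠ 0) {H : Set V} (hH : ∀ s ∈ H, Q s = 0 ∧ s ≠ 0 ∧ polar Q s u = 0 ∧ ∀ c : F, u ≠ c • s) {g : G}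
    (hg : g ∈ B Q W u H) (h : t * g * t = g) :
    ∃ y, polar Q u y = 0 ∧ g = j (tE Q u y) ∧ ∀ s ∈ H, polar Q s y = 0 := by
  obtain ⟨hg1, hg2⟩ := mem_B.1 hg
  have hph : ph t g = 1 := by rw [ph_def, h, inv_mul_cancel]
  obtain ⟨y, hy, rfl⟩ := Vs_fix_of D hK hu hu0 (hG.notin hu hu0) hg1 hph
  refine ⟨y, hy, rfl, fun s hs => ?_⟩
  obtain ⟨hs1, hs2, hs3, hs4⟩ := hH s hs
  set k := tE Q u y with hk
  have hks : (k : V ≃ₗ[F] V) s = s + polar Q y s • u := by
    rw [hk, coe_tE, T_apply2 hu hy, polar_comm Q u s, hs3]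
    simp
  have hfix : ∀ x, polar Q s x = 0 → T Q s x ((k : V ≃ₗ[F] V) s) = (k : V ≃ₗ[F] V) s := by
    intro x hx
    have h1 := Ru_le D hK hs1 hs2 (Ru_mem (j := j) hx)
    have h2 := norm_conj (inv_mem (hg2 s hs)) h1
    have h3 : ph t ((j k)⁻¹ * j (tE Q s x) * (j k)⁻¹⁻¹) = 1 := by
      rw [ph_eq_one D.tt, ← map_inv, ← map_inv, ← map_mul, ← map_mul, ← D.tj]
    obtain ⟨x', hx', e⟩ := Vs_fix_of D hK hs1 hs2 (hG.notin hs1 hs2) h2 h3
    have e2 : j (tE Q s x) = j (tE Q ((k : V ≃ₗ[F] V) s) ((k : V ≃ₗ[F] V) x')) := by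
      rw [← D.rconj, ← e]; group
    have e3 := D.inj e2
    have e4 : T Q s x = T Q ((k : V ≃ₗ[F] V) s) ((k : V ≃ₗ[F] V) x') := congrArg Subtype.val e3
    rw [e4]
    exact T_apply_self (by rw [Q_map]; exact hs1) (by rw [polar_map']; exact hx')
  obtain ⟨c, hc⟩ := eq_smul_of_fix_rad hB hs1 hs2 hfix
  rw [hks] at hc
  by_contra hne
  rw [polar_comm] at hne
  apply hs4 ((polar Q y s)⁻¹ * (c - 1))
  have e5 : polar Q y s • u = (c - 1) • s := by
    have : polar Q y s • u = (s + polar Q y s • u) - s := by module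
    rw [this, hc]; module
  rw [mul_smul, ← e5, smul_smul, inv_mul_cancel₀ hne, one_smul]

theorem exists_c_mul {u x y : V} (hu : Q u = 0) {H : Set V} (hx : polar Q u x = 0) (hy : polar Q u y = 0)
    (h1 : ∃ c ∈ B Q W u H, ph t c = j (tE Q u x)) (h2 : ∃ c ∈ B Q W u H, ph t c = j (tE Q u y)) :
    ∃ c ∈ B Q W u H, ph t c = j (tE Q u (x + y)) := by
  obtain ⟨c, hc, e⟩ := h1
  obtain ⟨c', hc', e'⟩ := h2
  exact ⟨c * c', mul_mem hc hc', by rw [Vs_ph_mul D hu (mem_B.1 hc).1 (mem_B.1 hc').1, e, e', D.rmul hu hx hy]⟩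

/-- one singular vector -/
theorem exists_c_sing (hG : Grow Q t W) {e f v : V} (h : Hyp Q e f) {H : Set V}
    (hH : ∀ s ∈ H, Q s = 0 ∧ s ≠ 0 ∧ polar Q s e = 0) (hv : Q v = 0) (hve : polar Q e v = 0)
    (hvf : polar Q f v = 0) (hHv : ∀ s ∈ H, polar Q s v = 0) : ∃ c ∈ B Q W e H, ph t c = j (tE Q e v) := by
  by_cases h0 : v = 0
  · subst h0
    refine ⟨1, one_mem _, ?_⟩
    rw [ph_def, inv_one, one_mul, mul_one, D.tt, tE_zero_right, map_one]
  · have hl : Ln Q e v := by
      refine Ln.symm ⟨hv, h.left, by rw [polar_comm]; exact hve, h0, ?_⟩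
      intro c hc
      have h1 := h.pair'
      rw [hc, polar_smul_right, hvf, smul_zero] at h1
      exact zero_ne_one h1
    obtain ⟨w, hw, e1⟩ := surj_W D hl 1
    rw [one_smul] at e1
    exact ⟨w, W_mem_B hG hl (fun s hs => ⟨(hH s hs).1, (hH s hs).2.1, (hH s hs).2.2, hHv s hs⟩) hw, e1⟩

/-- every vector, if there is a hyperbolic pair -/
theorem exists_c_pair (hG : Grow Q t W) {e f a b y : V} (h : Hyp Q e f) {H : Set V}
    (hH : ∀ s ∈ H, Q s = 0 ∧ s ≠ 0 ∧ polar Q s e = 0) (hab : Hyp Q a b)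
    (hea : polar Q e a = 0) (heb : polar Q e b = 0) (hey : polar Q e y = 0)
    (hfa : polar Q f a = 0) (hfb : polar Q f b = 0) (hfy : polar Q f y = 0)
    (hs : ∀ s ∈ H, polar Q s a = 0 ∧ polar Q s b = 0 ∧ polar Q s y = 0) :
    ∃ c ∈ B Q W e H, ph t c = j (tE Q e y) := by
  set y' := Cfsg.Agent.LieClassical.OrthTrans.proj Q a b y with hy'
  have hy'e : polar Q e y' = 0 := by
    rw [hy', polar_proj_of_perp (by rw [polar_comm]; exact hea) (by rw [polar_comm]; exact heb), hey]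
  have hy'f : polar Q f y' = 0 := by
    rw [hy', polar_proj_of_perp (by rw [polar_comm]; exact hfa) (by rw [polar_comm]; exact hfb), hfy]
  have hy's : ∀ s ∈ H, polar Q s y' = 0 := by
    intro s hs'
    obtain ⟨h1, h2, h3⟩ := hs s hs'
    rw [hy', polar_proj_of_perp (by rw [polar_comm]; exact h1) (by rw [polar_comm]; exact h2), h3]
  have hay' : polar Q a y' = 0 := polar_proj_left hab y
  have hby' : polar Q b y' = 0 := polar_proj_right hab y
  have e1 : y = ((y' + a + (-Q y') • b) + (polar Q b y - 1) • a) + (polar Q a y + Q y') • b := by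
    rw [hy', Cfsg.Agent.LieClassical.OrthTrans.proj]; module
  have p1 : polar Q e (y' + a + (-Q y') • b) = 0 := by
    rw [polar_add_right, polar_add_right, polar_smul_right, hy'e, hea, heb]; simp
  have p2 : polar Q e ((polar Q b y - 1) • a) = 0 := by rw [polar_smul_right, hea, smul_zero]
  have p3 : polar Q e ((polar Q a y + Q y') • b) = 0 := by rw [polar_smul_right, heb, smul_zero]
  rw [e1]
  refine exists_c_mul D h.left (by rw [polar_add_right, p1, p2, add_zero]) p3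
    (exists_c_mul D h.left p1 p2 ?_ ?_) ?_
  · refine exists_c_sing D hG h hH ?_ p1 ?_ ?_
    · rw [Q_add, Q_add, QuadraticMap.map_smul, hab.left, hab.right, polar_add_left, polar_smul_right,
        polar_smul_right, hab.pair, polar_comm Q y' b, hby', polar_comm Q y' a, hay']
      simp
    · rw [polar_add_right, polar_add_right, polar_smul_right, hy'f, hfa, hfb]; simp
    · intro s hs'
      obtain ⟨h1, h2, h3⟩ := hs s hs'
      rw [polar_add_right, polar_add_right, polar_smul_right, hy's s hs', h1, h2]; simp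
  · refine exists_c_sing D hG h hH ?_ p2 ?_ ?_
    · rw [QuadraticMap.map_smul, hab.left, smul_zero]
    · rw [polar_smul_right, hfa, smul_zero]
    · intro s hs'
      rw [polar_smul_right, (hs s hs').1, smul_zero]
  · refine exists_c_sing D hG h hH ?_ p3 ?_ ?_
    · rw [QuadraticMap.map_smul, hab.right, smul_zero]
    · rw [polar_smul_right, hfb, smul_zero]
    · intro s hs'
      rw [polar_smul_right, (hs s hs').2.1, smul_zero]

/-- the last layer: an element `d ∈ K` fixing `e` and all `s ∈ H` -/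
theorem exists_c_last [CharP F 2] (hK : KFacts Q) (hG : Grow Q t W) {e z : V} (he : Q e = 0) (he0 : e ≠ 0)
    {H : Set V} (hz : polar Q e z = 0) {d : ↥(E Q)} (hd : (d : V ≃ₗ[F] V) e = e)
    (hH : ∀ s ∈ H, polar Q s e = 0 ∧ (d : V ≃ₗ[F] V) s = s ∧ ∃ c ∈ B Q W e {s}, ph t c = j (tE Q e z)) :
    ∃ c ∈ B Q W e H, ph t c = j (tE Q e ((d : V ≃ₗ[F] V) z - z)) := by
  obtain ⟨c0, hc0, e0⟩ := (Vs_surj' D hK he he0 hz).1
  have hd0 : j d * c0 * (j d)⁻¹ ∈ Vs Q W e := by
    have := Vs_conj D d hc0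
    rwa [hd] at this
  have hdz : polar Q e ((d : V ≃ₗ[F] V) z) = 0 := by
    have := polar_map' d e z
    rw [hd] at this
    rw [this, hz]
  refine ⟨c0⁻¹ * (j d * c0 * (j d)⁻¹), ?_, ?_⟩
  · rw [mem_B]
    refine ⟨mul_mem (inv_mem hc0) hd0, fun s hs => ?_⟩
    obtain ⟨hs1, hs2, c, hc, ec⟩ := hH s hs
    obtain ⟨hc1, hc2⟩ := mem_B.1 hc
    have hc2' := hc2 s rfl
    -- `c0 = c r`
    have hr : ph t (c⁻¹ * c0) = 1 := by
      rw [Vs_ph_mul D he (inv_mem hc1) hc0, Vs_ph_inv D he hc1, ec, e0, inv_mul_cancel]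
    obtain ⟨x, hx, ex⟩ := Vs_fix_of D hK he he0 (hG.notin he he0) (mul_mem (inv_mem hc1) hc0) hr
    have hjd := k_norm D hs2
    have hdc : j d * c * (j d)⁻¹ ∈ Vs Q W e := by
      have := Vs_conj D d hc1
      rwa [hd] at this
    have hdx : polar Q e ((d : V ≃ₗ[F] V) x) = 0 := by
      have := polar_map' d e x
      rw [hd] at this
      rw [this, hx]
    have ec0 : c0 = c * j (tE Q e x) := by rw [← ex]; group
    have e2 : j d * j (tE Q e x) * (j d)⁻¹ = j (tE Q e ((d : V ≃ₗ[F] V) x)) := by rw [D.rconj, hd]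
    have e3 : c0⁻¹ * (j d * c0 * (j d)⁻¹) =
        (c⁻¹ * (j d * c * (j d)⁻¹)) * ((j (tE Q e x))⁻¹ * j (tE Q e ((d : V ≃ₗ[F] V) x))) := by
      have hc3 : c⁻¹ * (j d * c * (j d)⁻¹) ∈ Vs Q W e := mul_mem (inv_mem hc1) hdc
      have h4 := Vs_comm D he hc3 (Ru_inv he (Ru_mem (j := j) hx))
      calc c0⁻¹ * (j d * c0 * (j d)⁻¹)
          = (j (tE Q e x))⁻¹ * (c⁻¹ * (j d * c * (j d)⁻¹)) * (j d * j (tE Q e x) * (j d)⁻¹) := by
            rw [ec0]; group
        _ = _ := by rw [h4, e2]; group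
    rw [e3]
    refine mul_mem (mul_mem (inv_mem hc2') (mul_mem (mul_mem hjd hc2') (inv_mem hjd))) ?_
    rw [← map_inv, tE_inv he hx, ← map_mul, tE_mul he hx hdx]
    refine k_norm D ?_
    rw [coe_tE]
    refine T_fix (by rw [polar_comm]; exact hs1) ?_
    have h5 := polar_map' d s x
    rw [hs2] at h5
    rw [polar_comm, polar_add_right, h5, CharTwo.add_self_eq_zero]
  · rw [Vs_ph_mul D he (inv_mem hc0) hd0, Vs_ph_inv D he hc0, e0, ph_conj (D.tj d), e0, D.rconj, hd,
      ← map_inv, tE_inv he hz, ← map_mul, tE_mul he hz hdz]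
    congr 2
    rw [sub_eq' (F := F), add_comm]

end Dbl

end Cfsg.Agent.OddHalf.Orth.Lay

end

-- merged: Cfsg.Agent.OddHalf.Orth.End
section

/-!
# ODD D7, `K = Ω(V)`: the product `U*` of the layers, and the end

From `Flag` (at least three hyperbolic pairs), `HasDelta` and `Grow`: if `⟨t⟩ UK` has odd index in `C_G(t)` then
there is a homomorphism `G → {±1}` with `t ↦ -1`.
-/

set_option autoImplicit false

namespace Cfsg.Agent.OddHalf.Orth.End

open QuadraticMap Cfsg.Agent.LieClassical.OrthCore Cfsg.Agent.LieClassical.OrthTrans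
  Cfsg.Agent.ClassicalGeometry.OrthAutBasic Cfsg.Agent.ClassicalGeometry.OrthAutRoot
  Cfsg.Agent.ClassicalGeometry.OrthAutSylow Cfsg.Agent.OddHalf.Orth
  Cfsg.Agent.OddHalf.Orth.Face Cfsg.Agent.OddHalf.Orth.Star Cfsg.Agent.OddHalf.Orth.Lay
  Cfsg.Agent.OddHalf.Orth.FlagDef

variable {F V : Type*} [Field F] [AddCommGroup V] [Module F V] {Q : QuadraticForm F V}
variable {G : Type*} [Group G] {t : G} {j : ↥(E Q) →* G} {W : V → V → Subgroup G}
variable {n : ℕ} {e f : ℕ → V}

/-- the points `e k, f k`, `k < i` -/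
def HH (e f : ℕ → V) (i : ℕ) : Set V := {s | ∃ k < i, s = e k ∨ s = f k}

theorem mem_HH {i : ℕ} {s : V} : s ∈ HH e f i ↔ ∃ k < i, s = e k ∨ s = f k := Iff.rfl

theorem HH_mono {i k : ℕ} (h : i ≤ k) : HH e f i ⊆ HH e f k := by
  rintro s ⟨l, hl, hs⟩
  exact ⟨l, lt_of_lt_of_le hl h, hs⟩

theorem mem_Yv {i : ℕ} {y : V} : y ∈ Yv Q e f i ↔ ∀ k ≤ i, polar Q (e k) y = 0 ∧ polar Q (f k) y = 0 := Iff.rfl

theorem Yv_add {i : ℕ} {x y : V} (hx : x ∈ Yv Q e f i) (hy : y ∈ Yv Q e f i) : x + y ∈ Yv Q e f i := fun k hk => by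
  rw [polar_add_right, polar_add_right, (hx k hk).1, (hx k hk).2, (hy k hk).1, (hy k hk).2, add_zero]
  exact ⟨rfl, rfl⟩

theorem Yv_smul {i : ℕ} {x : V} (c : F) (hx : x ∈ Yv Q e f i) : c • x ∈ Yv Q e f i := fun k hk => by
  rw [polar_smul_right, polar_smul_right, (hx k hk).1, (hx k hk).2, smul_zero]
  exact ⟨rfl, rfl⟩

theorem HH_facts (hF : Flag Q n e f) {i : ℕ} (hi : i < n) :
    ∀ s ∈ HH e f i, Q s = 0 ∧ s ≠ 0 ∧ polar Q s (e i) = 0 ∧ polar Q s (f i) = 0 ∧ ∀ c : F, e i ≠ c • s := by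
  rintro s ⟨k, hk, hs⟩
  have hkn : k < n := hk.trans hi
  have hki : k ≠ i := hk.ne
  have h1 : polar Q s (e i) = 0 ∧ polar Q s (f i) = 0 := by
    rcases hs with rfl | rfl
    · exact ⟨hF.ee k i hkn hi hki, hF.ef k i hkn hi hki⟩
    · exact ⟨by rw [polar_comm]; exact hF.ef i k hi hkn hki.symm, hF.ff k i hkn hi hki⟩
  refine ⟨?_, ?_, h1.1, h1.2, ?_⟩
  · rcases hs with rfl | rfl
    · exact (hF.hyp k hkn).left
    · exact (hF.hyp k hkn).right
  · rcases hs with rfl | rfl
    · exact (hF.hyp k hkn).left_ne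
    · exact (hF.hyp k hkn).right_ne
  · intro c hc
    have h2 := (hF.hyp i hi).pair
    rw [hc, polar_smul_left, h1.2, smul_zero] at h2
    exact zero_ne_one h2

/-- `RK i` as a set -/
theorem mem_RK [CharP F 2] (hF : Flag Q n e f) {i : ℕ} (hi : i < n) {g : ↥(E Q)} :
    g ∈ RK Q e f i ↔ ∃ y ∈ Yv Q e f i, g = tE Q (e i) y := by
  have he := (hF.hyp i hi).left
  constructor
  · intro hg
    rw [RK] at hg
    induction hg using Subgroup.closure_induction with
    | mem x hx => exact hx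
    | one => exact ⟨0, fun k _ => ⟨polar_zero_right _ _, polar_zero_right _ _⟩, (tE_zero_right _).symm⟩
    | mul x y _ _ hx hy =>
      obtain ⟨a, ha, rfl⟩ := hx
      obtain ⟨b, hb, rfl⟩ := hy
      exact ⟨a + b, Yv_add ha hb, tE_mul he (ha i le_rfl).1 (hb i le_rfl).1⟩
    | inv x _ hx =>
      obtain ⟨a, ha, rfl⟩ := hx
      exact ⟨a, ha, tE_inv he (ha i le_rfl).1⟩
  · exact fun h => Subgroup.subset_closure h

variable (D : Dbl Q t j W)
include D

/-- every `y ∈ Yv i` is reached -/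
theorem exists_c [CharP F 2] (hK : KFacts Q) (hG : Grow Q t W) (hF : Flag Q n e f) (hn : 3 ≤ n)
    (hd : HasDelta Q n e f) {i : ℕ} (hi : i < n) {y : V} (hy : y ∈ Yv Q e f i) :
    ∃ c ∈ B Q W (e i) (HH e f i), ph t c = j (tE Q (e i) y) := by
  have hH := HH_facts hF hi
  have hfe := hF.hyp i hi
  rcases Nat.lt_or_ge (i + 1) n with h1 | h1
  · refine exists_c_pair D hG hfe (fun s hs => ⟨(hH s hs).1, (hH s hs).2.1, (hH s hs).2.2.1⟩) (hF.hyp (i + 1) h1)
      (hF.ee _ _ hi h1 (by omega)) (hF.ef _ _ hi h1 (by omega)) (hy i le_rfl).1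
      (by rw [polar_comm]; exact hF.ef _ _ h1 hi (by omega)) (hF.ff _ _ hi h1 (by omega)) (hy i le_rfl).2 ?_
    rintro s ⟨k, hk, rfl | rfl⟩
    · exact ⟨hF.ee _ _ (by omega) h1 (by omega), hF.ef _ _ (by omega) h1 (by omega), (hy k hk.le).1⟩
    · exact ⟨by rw [polar_comm]; exact hF.ef _ _ h1 (by omega) (by omega), hF.ff _ _ (by omega) h1 (by omega),
        (hy k hk.le).2⟩
  · have hin : i = n - 1 := by omega
    obtain ⟨d, hd1, hd2⟩ := hd
    obtain ⟨z, hz, rfl⟩ := hd2 y (by rw [← hin]; exact hy)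
    rw [← hin] at hz
    refine exists_c_last D hK hG hfe.left hfe.left_ne (hz i le_rfl).1 (hd1 i hi).1 ?_
    rintro s ⟨k, hk, hs⟩
    have hkn : k < n := by omega
    have hs1 := hH s ⟨k, hk, hs⟩
    refine ⟨hs1.2.2.1, ?_, ?_⟩
    · rcases hs with rfl | rfl
      · exact (hd1 k hkn).1
      · exact (hd1 k hkn).2
    · obtain ⟨m, hm, hmk⟩ : ∃ m < i, m ≠ k := by
        by_cases h0 : k = 0
        · exact ⟨1, by omega, by omega⟩
        · exact ⟨0, by omega, fun h => h0 h.symm⟩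
      refine exists_c_pair D hG hfe (fun s' hs' => ?_) (hF.hyp m (by omega))
        (hF.ee _ _ hi (by omega) (by omega)) (hF.ef _ _ hi (by omega) (by omega)) (hz i le_rfl).1
        (by rw [polar_comm]; exact hF.ef _ _ (by omega) hi (by omega)) (hF.ff _ _ hi (by omega) (by omega))
        (hz i le_rfl).2 ?_
      · rw [Set.mem_singleton_iff.1 hs']
        exact ⟨hs1.1, hs1.2.1, hs1.2.2.1⟩
      · intro s' hs'
        rw [Set.mem_singleton_iff.1 hs']
        rcases hs with rfl | rfl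
        · exact ⟨hF.ee _ _ (by omega) (by omega) hmk.symm, hF.ef _ _ (by omega) (by omega) hmk.symm,
            (hz k hk.le).1⟩
        · exact ⟨by rw [polar_comm]; exact hF.ef _ _ (by omega) (by omega) hmk,
            hF.ff _ _ (by omega) (by omega) hmk.symm, (hz k hk.le).2⟩

/-- the fixed points of `t` in the layer -/
theorem fix_iff [Finite F] [CharP F 2] (hB : Big Q) (hK : KFacts Q) (hG : Grow Q t W) (hF : Flag Q n e f)
    {i : ℕ} (hi : i < n) : B Q W (e i) (HH e f i) ⊓ Subgroup.centralizer {t} = (RK Q e f i).map j := by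
  have hH := HH_facts hF hi
  have hfe := hF.hyp i hi
  ext g
  rw [Subgroup.mem_inf, Subgroup.mem_centralizer_singleton_iff, Subgroup.mem_map]
  constructor
  · rintro ⟨h1, h2⟩
    obtain ⟨y, hy, rfl, hs⟩ := B_fix D hB hK hG hfe.left hfe.left_ne
      (fun s hs => ⟨(hH s hs).1, (hH s hs).2.1, (hH s hs).2.2.1, (hH s hs).2.2.2.2⟩) h1
      (by rw [← h2, mul_assoc, D.tt, mul_one])
    refine ⟨tE Q (e i) y, (mem_RK hF hi).2 ⟨y + polar Q (f i) y • e i, ?_, ?_⟩, rfl⟩
    · intro k hk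
      rcases hk.lt_or_eq with hk | rfl
      · have a1 := hs (e k) ⟨k, hk, Or.inl rfl⟩
        have a2 := hs (f k) ⟨k, hk, Or.inr rfl⟩
        rw [polar_add_right, polar_add_right, polar_smul_right, polar_smul_right, a1, a2,
          (hH (e k) ⟨k, hk, Or.inl rfl⟩).2.2.1, (hH (f k) ⟨k, hk, Or.inr rfl⟩).2.2.1]
        simp
      · rw [polar_add_right, polar_add_right, polar_smul_right, polar_smul_right, hy, hfe.polar_left, hfe.pair']
        refine ⟨by simp, ?_⟩
        rw [smul_eq_mul, mul_one, CharTwo.add_self_eq_zero]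
    · rw [tE_add_smul hfe.left hy]
  · rintro ⟨k, hk, rfl⟩
    obtain ⟨y, hy, rfl⟩ := (mem_RK hF hi).1 hk
    refine ⟨R_mem_B D hK hfe.left hfe.left_ne (hy i le_rfl).1 ?_, (D.tj _).symm⟩
    rintro s ⟨k, hk, hs⟩
    refine ⟨(hH s ⟨k, hk, hs⟩).2.2.1, ?_⟩
    rcases hs with rfl | rfl
    · exact (hy k hk.le).1
    · exact (hy k hk.le).2

omit D in
/-- elements of the product of the first `k` root groups act trivially on `L^⊥ / L` -/
theorem triv [CharP F 2] (hF : Flag Q n e f) {k : ℕ} (hk : k ≤ n) {g : ↥(E Q)}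
    (hg : g ∈ ⨆ i : ℕ, ⨆ _ : i < k, RK Q e f i) :
    ∀ v, (∀ i < k, polar Q (e i) v = 0) → (∀ i < k, polar Q (e i) ((g : V ≃ₗ[F] V) v) = 0) ∧
      ∀ w, (∀ i < k, polar Q (e i) w = 0) → polar Q ((g : V ≃ₗ[F] V) v) w = polar Q v w := by
  induction hg using Subgroup.iSup_induction' with
  | hp i x hx =>
    by_cases hi : i < k
    · rw [iSup_pos hi] at hx
      obtain ⟨y, hy, rfl⟩ := (mem_RK hF (hi.trans_le hk)).1 hx
      intro v hv
      have he := (hF.hyp i (hi.trans_le hk)).left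
      have e1 : ((tE Q (e i) y : ↥(E Q)) : V ≃ₗ[F] V) v = v + polar Q y v • e i := by
        rw [coe_tE, T_apply2 he (hy i le_rfl).1, hv i hi]
        simp
      rw [e1]
      have hee : ∀ l < k, polar Q (e l) (e i) = 0 := by
        intro l hl
        by_cases hli : l = i
        · rw [hli]; exact polar_self_of_sing he
        · exact hF.ee l i (hl.trans_le hk) (hi.trans_le hk) hli
      refine ⟨fun l hl => ?_, fun w hw => ?_⟩
      · rw [polar_add_right, polar_smul_right, hv l hl, hee l hl]; simp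
      · rw [polar_add_left, polar_smul_left, hw i hi]; simp
    · rw [iSup_neg hi, Subgroup.mem_bot] at hx
      subst hx
      intro v hv
      exact ⟨hv, fun w _ => rfl⟩
  | h1 => exact fun v hv => ⟨hv, fun w _ => rfl⟩
  | hmul x y _ _ hx hy =>
    intro v hv
    obtain ⟨h1, h2⟩ := hy v hv
    obtain ⟨h3, h4⟩ := hx _ h1
    refine ⟨h3, fun w hw => ?_⟩
    have e1 : ((x * y : ↥(E Q)) : V ≃ₗ[F] V) v = (x : V ≃ₗ[F] V) ((y : V ≃ₗ[F] V) v) := rfl
    rw [e1, h4 w hw, h2 w hw]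

omit D in
theorem indep_K [CharP F 2] (hK : KFacts Q) (hF : Flag Q n e f) {k : ℕ} (hk : k < n) {g : ↥(E Q)}
    (hg : g ∈ RK Q e f k) (hg' : g ∈ ⨆ i : ℕ, ⨆ _ : i < k, RK Q e f i) : g = 1 := by
  obtain ⟨y, hy, rfl⟩ := (mem_RK hF hk).1 hg
  have hfe := hF.hyp k hk
  have hf0 : ∀ i < k, polar Q (e i) (f k) = 0 := fun i hi => hF.ef i k (hi.trans hk) hk hi.ne
  obtain ⟨-, h2⟩ := triv hF hk.le hg' (f k) hf0
  have e1 : ((tE Q (e k) y : ↥(E Q)) : V ≃ₗ[F] V) (f k) = f k + y + Q y • e k := by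
    rw [coe_tE, T_apply2 hfe.left (hy k le_rfl).1, hfe.pair, polar_comm Q y, (hy k le_rfl).2]
    module
  rw [e1] at h2
  have h3 : ∀ w, (∀ i < k, polar Q (e i) w = 0) → polar Q y w + Q y * polar Q (e k) w = 0 := by
    intro w hw
    have := h2 w hw
    rw [polar_add_left, polar_add_left, polar_smul_left, add_assoc] at this
    exact left_eq_add.1 this.symm
  have hQy : Q y = 0 := by
    have := h3 (f k) hf0
    rwa [polar_comm Q y, (hy k le_rfl).2, hfe.pair, mul_one, zero_add] at this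
  have h4 : ∀ w, (∀ i < k, polar Q (e i) w = 0) → polar Q y w = 0 := by
    intro w hw
    have := h3 w hw
    rwa [hQy, zero_mul, add_zero] at this
  have hy0 : y = 0 := by
    apply hK.nondeg
    intro w
    have key : ∀ m ≤ k, (∀ i < k, m ≤ i → polar Q (e i) w = 0) → polar Q y w = 0 := by
      intro m
      induction m generalizing w with
      | zero =>
        intro _ hw
        exact h4 w (fun i hi => hw i hi (Nat.zero_le _))
      | succ m ih =>
        intro hm hw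
        have hmn : m < n := by omega
        have := ih (w + polar Q (e m) w • f m) (by omega) (fun i hi hmi => by
          rcases hmi.lt_or_eq with h | rfl
          · rw [polar_add_right, hw i hi h, polar_smul_right, hF.ef i m (by omega) hmn (by omega)]; simp
          · rw [polar_add_right, polar_smul_right, (hF.hyp m hmn).pair, smul_eq_mul, mul_one,
              CharTwo.add_self_eq_zero])
        rwa [polar_add_right, polar_smul_right, polar_comm Q y (f m), (hy m (by omega)).2, smul_zero,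
          add_zero] at this
    exact key k le_rfl (fun i hi hki => absurd hi (by omega))
  rw [hy0, tE_zero_right]

theorem dbl [Finite F] [CharP F 2] (hB : Big Q) (hK : KFacts Q) (hG : Grow Q t W) (hF : Flag Q n e f)
    (hn : 3 ≤ n) (hd : HasDelta Q n e f) :
    Grow2.Dbl t (fun i => B Q W (e i) (HH e f i)) (fun i => (RK Q e f i).map j) n where
  tt := D.tt
  conj i hi v hv := by
    have hH := HH_facts hF hi
    exact B_t D hK (hF.hyp i hi).left (hF.hyp i hi).left_ne (fun s hs => ⟨(hH s hs).1, (hH s hs).2.1⟩) hv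
  sq i hi v hv := hG.sq (hF.hyp i hi).left (hF.hyp i hi).left_ne (mem_B.1 hv).1
  fix i hi v hv h := by
    rw [← fix_iff D hB hK hG hF hi, Subgroup.mem_inf, Subgroup.mem_centralizer_singleton_iff]
    refine ⟨hv, ?_⟩
    have := congrArg (fun x => t * x) h
    simp only [← mul_assoc, D.tt, one_mul] at this
    exact this
  X_le i hi := by
    show (RK Q e f i).map j ≤ _
    rw [← fix_iff D hB hK hG hF hi]; exact inf_le_left
  X_fix i hi v hv := by
    obtain ⟨k, -, rfl⟩ := hv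
    rw [D.tj, mul_assoc, D.tt, mul_one]
  free i hi v hv := by
    obtain ⟨k, hk, rfl⟩ := hv
    obtain ⟨y, hy, rfl⟩ := (mem_RK hF hi).1 hk
    obtain ⟨c, hc, e1⟩ := exists_c D hK hG hF hn hd hi hy
    refine ⟨c, hc, ?_⟩
    have h1 := Vs_comm D (hF.hyp i hi).left (mem_B.1 hc).1 (Ru_mem (j := j) (hy i le_rfl).1)
    have h2 : t * c * t = c * j (tE Q (e i) y) := by rw [← e1, ph_def, mul_inv_cancel_left]
    rw [h2, ← h1, mul_inv_cancel_right]
  norm i l hil hl v hv w hw := by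
    refine Grow2.le_W (fun i => B Q W (e i) (HH e f i)) hil ?_
    exact B_conj (show e i ∈ HH e f l from ⟨i, hil, Or.inl rfl⟩) (HH_mono hil.le) hv hw
  indep k hk := by
    rw [eq_bot_iff]
    rintro g ⟨⟨x, hx, rfl⟩, hg⟩
    have h1 : Grow2.W (fun i => (RK Q e f i).map j) k = (⨆ i : ℕ, ⨆ _ : i < k, RK Q e f i).map j := by
      rw [Grow2.W, Subgroup.map_iSup]
      exact iSup_congr fun i => by rw [Subgroup.map_iSup]
    rw [h1] at hg
    obtain ⟨x', hx', e1⟩ := hg
    have := D.inj e1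
    subst this
    rw [Subgroup.mem_bot, indep_K hK hF hk hx hx', map_one]

/-- **Sections 4 and 5.** -/
theorem exists_hom [Finite G] [Finite F] [CharP F 2] (hB : Big Q) (hK : KFacts Q) (hG : Grow Q t W)
    (hF : Flag Q n e f) (hn : 3 ≤ n) (hd : HasDelta Q n e f)
    (hodd : Odd (((UK Q e f n).map j ⊔ Subgroup.zpowers t).relIndex (Subgroup.centralizer ({t} : Set G)))) :
    ∃ m : G →* ℤˣ, m t = -1 := by
  have h1 : Grow2.W (fun i => (RK Q e f i).map j) n = (UK Q e f n).map j := by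
    rw [Grow2.W, UK, Subgroup.map_iSup]
    exact iSup_congr fun i => by rw [Subgroup.map_iSup]
  refine (dbl D hB hK hG hF hn hd).exists_hom ?_ ?_
  · rw [h1]
    rintro ⟨k, -, hk⟩
    exact D.tK k hk
  · rw [h1]
    exact hodd

end Cfsg.Agent.OddHalf.Orth.End

end
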