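import Mathlib
import Cfsg.Agent.OddHalf.Orth.FlagDef
import Cfsg.Agent.ClassicalGeometry.OrthDickson
import Cfsg.Agent.LieClassical.OrthFinite
import Cfsg.Agent.OddHalf.Orth.KPl
import Cfsg.Agent.OddHalf.D7Out.OddGen
import Cfsg.Agent.OddHalf.D7Out.TwClaim

-- merged: Cfsg.Agent.OddHalf.Orth.FlagSyl
section

/-!
# ODD D7, `K = Ω(V)`, characteristic 2: the unipotent group of the flag has odd index

`FlagSyl.odd_index`: if `e i, f i` (`i < n`) are mutually perpendicular hyperbolic pairs and there is no singular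
vector `≠ 0` perpendicular to all of them, then `UK Q e f n` has odd index in `↥(E Q)`.
-/

set_option autoImplicit false

namespace Cfsg.Agent.OddHalf.Orth.FlagSyl

open QuadraticMap Cfsg.Agent.LieClassical.OrthCore Cfsg.Agent.LieClassical.OrthTrans
  Cfsg.Agent.ClassicalGeometry.OrthAutBasic Cfsg.Agent.OddHalf.Orth Cfsg.Agent.OddHalf.Orth.FlagDef

variable {F V : Type*} [Field F] [AddCommGroup V] [Module F V] {Q : QuadraticForm F V}

/-- no reflection lies in `E Q` -/
def NoRefl (Q : QuadraticForm F V) : Prop :=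
  ∀ (g : ↥(E Q)) (v : V), Q v ≠ 0 → ¬ ∀ z, (g : V ≃ₗ[F] V) z = z - ((Q v)⁻¹ * polar Q v z) • v

/-- the vectors perpendicular to `e j, f j`, `j < k` -/
def Vk (Q : QuadraticForm F V) (e f : ℕ → V) (k : ℕ) : Submodule F V where
  carrier := {v | ∀ j < k, polar Q (e j) v = 0 ∧ polar Q (f j) v = 0}
  add_mem' := by
    intro x y hx hy j hj
    rw [polar_add_right, polar_add_right, (hx j hj).1, (hx j hj).2, (hy j hj).1, (hy j hj).2]
    simp
  zero_mem' := by
    intro j _
    rw [polar_zero_right, polar_zero_right]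
    simp
  smul_mem' := by
    intro c x hx j hj
    rw [polar_smul_right, polar_smul_right, (hx j hj).1, (hx j hj).2]
    simp

theorem mem_Vk {e f : ℕ → V} {k : ℕ} {v : V} :
    v ∈ Vk Q e f k ↔ ∀ j < k, polar Q (e j) v = 0 ∧ polar Q (f j) v = 0 := Iff.rfl

theorem mem_Yv {e f : ℕ → V} {i : ℕ} {v : V} : v ∈ Yv Q e f i ↔ v ∈ Vk Q e f (i + 1) := by
  constructor
  · intro h j hj
    exact h j (by omega)
  · intro h j hj
    exact h j (by omega)

theorem Vk_le {e f : ℕ → V} {k l : ℕ} (h : k ≤ l) : Vk Q e f l ≤ Vk Q e f k :=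
  fun _ hv j hj => hv j (by omega)

/-- the elements fixing `e j, f j`, `j < k` -/
def Fx (Q : QuadraticForm F V) (e f : ℕ → V) (k : ℕ) : Subgroup ↥(E Q) where
  carrier := {g | ∀ j < k, (g : V ≃ₗ[F] V) (e j) = e j ∧ (g : V ≃ₗ[F] V) (f j) = f j}
  mul_mem' := by
    intro g h hg hh j hj
    constructor
    · show (g : V ≃ₗ[F] V) ((h : V ≃ₗ[F] V) (e j)) = e j
      rw [(hh j hj).1, (hg j hj).1]
    · show (g : V ≃ₗ[F] V) ((h : V ≃ₗ[F] V) (f j)) = f j
      rw [(hh j hj).2, (hg j hj).2]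
  one_mem' := fun j _ => ⟨rfl, rfl⟩
  inv_mem' := by
    intro g hg j hj
    constructor
    · show (g : V ≃ₗ[F] V).symm (e j) = e j
      rw [LinearEquiv.symm_apply_eq]
      exact (hg j hj).1.symm
    · show (g : V ≃ₗ[F] V).symm (f j) = f j
      rw [LinearEquiv.symm_apply_eq]
      exact (hg j hj).2.symm

theorem mem_Fx {e f : ℕ → V} {k : ℕ} {g : ↥(E Q)} :
    g ∈ Fx Q e f k ↔ ∀ j < k, (g : V ≃ₗ[F] V) (e j) = e j ∧ (g : V ≃ₗ[F] V) (f j) = f j := Iff.rfl

theorem map_Vk {e f : ℕ → V} {k : ℕ} {g : ↥(E Q)} (hg : g ∈ Fx Q e f k) {v : V}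
    (hv : v ∈ Vk Q e f k) : (g : V ≃ₗ[F] V) v ∈ Vk Q e f k := by
  intro j hj
  have h1 := polar_map' g (e j) v
  have h2 := polar_map' g (f j) v
  rw [(hg j hj).1] at h1
  rw [(hg j hj).2] at h2
  rw [h1, h2]
  exact hv j hj

/-! ### The groups `RK` -/

section flag

variable {n : ℕ} {e f : ℕ → V} (hF : Flag Q n e f)
include hF

omit hF in
theorem perp_e {i : ℕ} {x : V} (hx : x ∈ Vk Q e f (i + 1)) : polar Q (e i) x = 0 :=
  (hx i (by omega)).1

omit hF in
theorem mem_RK_aux {i : ℕ} (he : Q (e i) = 0) (g : ↥(E Q)) :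
    g ∈ RK Q e f i ↔ ∃ y ∈ Yv Q e f i, g = tE Q (e i) y := by
  constructor
  · intro hg
    refine Subgroup.closure_induction (p := fun g _ => ∃ y ∈ Yv Q e f i, g = tE Q (e i) y)
      ?_ ?_ ?_ ?_ hg
    · rintro x ⟨y, hy, rfl⟩
      exact ⟨y, hy, rfl⟩
    · refine ⟨0, ?_, (tE_zero_right _).symm⟩
      exact mem_Yv.2 (Submodule.zero_mem _)
    · rintro _ _ _ _ ⟨x, hx, rfl⟩ ⟨y, hy, rfl⟩
      refine ⟨x + y, mem_Yv.2 (Submodule.add_mem _ (mem_Yv.1 hx) (mem_Yv.1 hy)), ?_⟩
      exact tE_mul he (hx i le_rfl).1 (hy i le_rfl).1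
    · rintro _ _ ⟨x, hx, rfl⟩
      refine ⟨-x, mem_Yv.2 (Submodule.neg_mem _ (mem_Yv.1 hx)), ?_⟩
      rw [inv_eq_iff_mul_eq_one, tE_mul he (hx i le_rfl).1, add_neg_cancel, tE_zero_right]
      rw [polar_neg_right, (hx i le_rfl).1, neg_zero]
  · rintro ⟨y, hy, rfl⟩
    exact Subgroup.subset_closure ⟨y, hy, rfl⟩

theorem mem_RK {i : ℕ} (hi : i < n) {g : ↥(E Q)} :
    g ∈ RK Q e f i ↔ ∃ y ∈ Vk Q e f (i + 1), g = tE Q (e i) y := by
  rw [mem_RK_aux (hF.hyp i hi).left]
  constructor
  · rintro ⟨y, hy, rfl⟩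
    exact ⟨y, mem_Yv.1 hy, rfl⟩
  · rintro ⟨y, hy, rfl⟩
    exact ⟨y, mem_Yv.2 hy, rfl⟩

theorem e_mem_Vk {i k : ℕ} (hi : i < n) (h : k ≤ i) : e i ∈ Vk Q e f k := by
  intro j hj
  refine ⟨hF.ee j i (by omega) hi (by omega), ?_⟩
  rw [polar_comm]
  exact hF.ef i j hi (by omega) (by omega)

theorem f_mem_Vk {i k : ℕ} (hi : i < n) (h : k ≤ i) : f i ∈ Vk Q e f k := by
  intro j hj
  exact ⟨hF.ef j i (by omega) hi (by omega), hF.ff j i (by omega) hi (by omega)⟩

theorem proj_mem {k : ℕ} (hk : k < n) {x : V} (hx : x ∈ Vk Q e f k) :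
    x - polar Q (f k) x • e k - polar Q (e k) x • f k ∈ Vk Q e f (k + 1) := by
  intro j hj
  have hh := hF.hyp k hk
  rcases Nat.lt_succ_iff_lt_or_eq.1 hj with h | rfl
  · have h1 := hx j h
    have h2 := e_mem_Vk hF hk (le_refl k) j h
    have h3 := f_mem_Vk hF hk (le_refl k) j h
    constructor
    · rw [polar_sub_right, polar_sub_right, polar_smul_right, polar_smul_right, h1.1, h2.1, h3.1]
      simp
    · rw [polar_sub_right, polar_sub_right, polar_smul_right, polar_smul_right, h1.2, h2.2, h3.2]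
      simp
  · constructor
    · rw [polar_sub_right, polar_sub_right, polar_smul_right, polar_smul_right,
        polar_self_of_sing hh.left, hh.pair]
      simp
    · rw [polar_sub_right, polar_sub_right, polar_smul_right, polar_smul_right,
        polar_self_of_sing hh.right, hh.pair']
      simp

/-- `RK k` is all `T (e k) x`, `x ∈ V^(k)`, `x ⊥ e k` -/
theorem tE_mem_RK {k : ℕ} (hk : k < n) {x : V} (hx : x ∈ Vk Q e f k) (hx' : polar Q (e k) x = 0) :
    tE Q (e k) x ∈ RK Q e f k := by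
  rw [mem_RK hF hk]
  refine ⟨x - polar Q (f k) x • e k - polar Q (e k) x • f k, proj_mem hF hk hx, ?_⟩
  have h1 := (hF.hyp k hk).left
  rw [hx', zero_smul, sub_zero, sub_eq_add_neg, ← neg_smul, tE_add_smul h1 hx']

theorem RK_le_Fx {k : ℕ} (hk : k < n) : RK Q e f k ≤ Fx Q e f k := by
  intro g hg
  obtain ⟨y, hy, rfl⟩ := (mem_RK hF hk).1 hg
  have hh := hF.hyp k hk
  intro j hj
  have h1 := e_mem_Vk hF hk (le_refl k) j hj
  have h2 := hy j (by omega)
  refine ⟨?_, ?_⟩
  · rw [coe_tE]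
    exact T_apply_fix hh.left (perp_e hy) (by rw [polar_comm]; exact h1.1)
      (by rw [polar_comm]; exact h2.1)
  · rw [coe_tE]
    exact T_apply_fix hh.left (perp_e hy) (by rw [polar_comm]; exact h1.2)
      (by rw [polar_comm]; exact h2.2)

theorem RK_fix_e {k : ℕ} (hk : k < n) {g : ↥(E Q)} (hg : g ∈ RK Q e f k) :
    (g : V ≃ₗ[F] V) (e k) = e k := by
  obtain ⟨y, hy, rfl⟩ := (mem_RK hF hk).1 hg
  rw [coe_tE]
  exact T_apply_self (hF.hyp k hk).left (perp_e hy)

/-- elements fixing `e j, f j` (`j < k`) and `e k` normalise `RK k` -/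
theorem conj_RK {k : ℕ} (hk : k < n) {g r : ↥(E Q)} (hg : g ∈ Fx Q e f k)
    (hge : (g : V ≃ₗ[F] V) (e k) = e k) (hr : r ∈ RK Q e f k) : g * r * g⁻¹ ∈ RK Q e f k := by
  obtain ⟨y, hy, rfl⟩ := (mem_RK hF hk).1 hr
  rw [tE_conj, hge]
  refine tE_mem_RK hF hk (map_Vk hg (Vk_le (Nat.le_succ k) hy)) ?_
  have := polar_map' g (e k) y
  rw [hge] at this
  rw [this]
  exact perp_e hy

end flag

/-- generated by `RK i`, `k ≤ i < n` -/
noncomputable def Uk (Q : QuadraticForm F V) (e f : ℕ → V) (n k : ℕ) : Subgroup ↥(E Q) :=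
  ⨆ i : ℕ, ⨆ _ : k ≤ i ∧ i < n, RK Q e f i

theorem Uk_zero (e f : ℕ → V) (n : ℕ) : Uk Q e f n 0 = UK Q e f n := by
  apply le_antisymm
  · exact iSup_le fun i => iSup_le fun hi => le_iSup_of_le i (le_iSup_of_le hi.2 le_rfl)
  · exact iSup_le fun i => iSup_le fun hi =>
      le_iSup_of_le i (le_iSup_of_le ⟨Nat.zero_le i, hi⟩ le_rfl)

theorem RK_le_Uk {e f : ℕ → V} {n k i : ℕ} (h1 : k ≤ i) (h2 : i < n) : RK Q e f i ≤ Uk Q e f n k :=
  le_iSup_of_le i (le_iSup_of_le ⟨h1, h2⟩ le_rfl)

theorem Uk_le {e f : ℕ → V} {n k : ℕ} {H : Subgroup ↥(E Q)}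
    (h : ∀ i, k ≤ i → i < n → RK Q e f i ≤ H) : Uk Q e f n k ≤ H :=
  iSup_le fun i => iSup_le fun hi => h i hi.1 hi.2

theorem Uk_anti {e f : ℕ → V} {n k l : ℕ} (h : k ≤ l) : Uk Q e f n l ≤ Uk Q e f n k :=
  Uk_le fun _ h1 h2 => RK_le_Uk (h.trans h1) h2

theorem Uk_eq {e f : ℕ → V} {n k : ℕ} (hk : k < n) :
    Uk Q e f n k = Uk Q e f n (k + 1) ⊔ RK Q e f k := by
  apply le_antisymm
  · apply Uk_le
    intro i h1 h2
    rcases h1.eq_or_lt with rfl | h3
    · exact le_sup_right
    · exact (RK_le_Uk h3 h2).trans le_sup_left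
  · exact sup_le (Uk_anti (Nat.le_succ k)) (RK_le_Uk le_rfl hk)

theorem Uk_bot {e f : ℕ → V} {n k : ℕ} (hk : n ≤ k) : Uk Q e f n k = ⊥ := by
  rw [eq_bot_iff]
  exact Uk_le fun i h1 h2 => by omega

theorem Fx_anti {e f : ℕ → V} {k l : ℕ} (h : k ≤ l) : Fx Q e f l ≤ Fx Q e f k :=
  fun _ hg j hj => hg j (by omega)

section flag

variable {n : ℕ} {e f : ℕ → V} (hF : Flag Q n e f)
include hF

theorem Uk_le_Fx (k : ℕ) : Uk Q e f n k ≤ Fx Q e f k :=
  Uk_le fun _ h1 h2 => (RK_le_Fx hF h2).trans (Fx_anti h1)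

/-- `U k` is a 2-group -/
theorem isPGroup_RK [CharP F 2] {k : ℕ} (hk : k < n) : IsPGroup 2 (RK Q e f k) := by
  rintro ⟨g, hg⟩
  obtain ⟨y, hy, rfl⟩ := (mem_RK hF hk).1 hg
  have hh := (hF.hyp k hk).left
  refine ⟨1, ?_⟩
  apply Subtype.ext
  show (tE Q (e k) y) ^ 2 ^ 1 = 1
  rw [pow_one, pow_two, tE_mul_self hh (perp_e hy)]

theorem normal_aux {k : ℕ} (hk : k < n) :
    Uk Q e f n (k + 1) ≤ Subgroup.normalizer (RK Q e f k : Set ↥(E Q)) := by
  intro g hg
  have hg' := Uk_le_Fx hF (k + 1) hg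
  have h1 : g ∈ Fx Q e f k := Fx_anti (Nat.le_succ k) hg'
  have h2 := (hg' k (Nat.lt_succ_self k)).1
  have h1' : g⁻¹ ∈ Fx Q e f k := inv_mem h1
  have h2' := ((inv_mem hg') k (Nat.lt_succ_self k)).1
  rw [Subgroup.mem_normalizer_iff]
  intro r
  constructor
  · intro hr
    exact conj_RK hF hk h1 h2 hr
  · intro hr
    have h3 := conj_RK hF hk h1' h2' hr
    have e1 : g⁻¹ * (g * r * g⁻¹) * g⁻¹⁻¹ = r := by group
    rwa [e1] at h3

theorem isPGroup_Uk [CharP F 2] (k : ℕ) : IsPGroup 2 (Uk Q e f n k) := by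
  have key : ∀ m k, m + k = n → IsPGroup 2 (Uk Q e f n k) := by
    intro m
    induction m with
    | zero =>
      intro k hk
      rw [Uk_bot (by omega)]
      exact IsPGroup.of_bot
    | succ m ih =>
      intro k hk
      rw [Uk_eq (by omega : k < n)]
      exact IsPGroup.to_sup_of_normal_right' (ih (k + 1) (by omega))
        (isPGroup_RK hF (by omega)) (normal_aux hF (by omega))
  by_cases hk : k ≤ n
  · exact key (n - k) k (by omega)
  · rw [Uk_bot (by omega)]
    exact IsPGroup.of_bot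

/-- a vector of `V^(k)` perpendicular to `V^(k)` is zero -/
theorem nondeg_Vk (hQ : Nondeg Q) {k : ℕ} (hk : k ≤ n) {v : V} (hv : v ∈ Vk Q e f k)
    (h : ∀ x ∈ Vk Q e f k, polar Q x v = 0) : v = 0 := by
  have key : ∀ k, k ≤ n → v ∈ Vk Q e f k → (∀ x ∈ Vk Q e f k, polar Q x v = 0) →
      ∀ x, polar Q x v = 0 := by
    intro k
    induction k with
    | zero =>
      intro _ _ h x
      exact h x (fun j hj => absurd hj (Nat.not_lt_zero j))
    | succ k ih =>
      intro hk hv h
      apply ih (by omega) (Vk_le (Nat.le_succ k) hv)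
      intro x hx
      have h1 := h _ (proj_mem hF (by omega) hx)
      have h2 := hv k (Nat.lt_succ_self k)
      rw [polar_sub_left, polar_sub_left, polar_smul_left, polar_smul_left, h2.1, h2.2] at h1
      simpa using h1
  apply hQ
  intro y
  rw [polar_comm]
  exact key k hk hv h y

/-- Vectors of `V^(k)` fixed by `RK k` are multiples of `e k`. -/
theorem eq_smul_of_fix (hQ : Nondeg Q) {k : ℕ} (hk : k < n) {v : V} (hv : v ∈ Vk Q e f k)
    {a : V} (ha : a ∈ Vk Q e f (k + 1)) (ha0 : a ≠ 0)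
    (h : ∀ g ∈ RK Q e f k, (g : V ≃ₗ[F] V) v = v) : ∃ c : F, v = c • e k := by
  have hh := hF.hyp k hk
  have fixT : ∀ x ∈ Vk Q e f (k + 1), T Q (e k) x v = v := by
    intro x hx
    have := h (tE Q (e k) x) ((mem_RK hF hk).2 ⟨x, hx, rfl⟩)
    rwa [coe_tE] at this
  -- `(e k, v) = 0`
  have h1 : polar Q (e k) v = 0 := by
    by_contra hne
    obtain ⟨b, hb⟩ : ∃ b ∈ Vk Q e f (k + 1), polar Q b a ≠ 0 := by
      by_contra hcon
      push Not at hcon
      exact ha0 (nondeg_Vk hF hQ (by omega) ha hcon)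
    have e1 := fixT a ha
    rw [T_apply hh.left (perp_e ha)] at e1
    have e2 : polar Q b (v + polar Q (e k) v • a - polar Q a v • e k - (Q a * polar Q (e k) v) • e k)
        = polar Q b v := by rw [e1]
    have hbe : polar Q b (e k) = 0 := by rw [polar_comm]; exact perp_e hb.1
    simp only [polar_add_right, polar_sub_right, polar_smul_right, hbe, smul_eq_mul, mul_zero,
      sub_zero] at e2
    have e3 : polar Q (e k) v * polar Q b a = 0 := by linear_combination e2
    rcases mul_eq_zero.1 e3 with h' | h'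
    · exact hne h'
    · exact hb.2 h'
  have h2 : ∀ x ∈ Vk Q e f (k + 1), polar Q x v = 0 := by
    intro x hx
    have e1 := fixT x hx
    rw [T_apply_perp hh.left (perp_e hx) h1] at e1
    have e2 : polar Q x v • e k = 0 := by simpa using e1
    rcases smul_eq_zero.1 e2 with h' | h'
    · exact h'
    · exact absurd h' hh.left_ne
  have h3 := proj_mem hF hk hv
  have h4 : v - polar Q (f k) v • e k - polar Q (e k) v • f k = 0 := by
    apply nondeg_Vk hF hQ (by omega) h3
    intro x hx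
    have h5 := hx k (Nat.lt_succ_self k)
    rw [polar_sub_right, polar_sub_right, polar_smul_right, polar_smul_right, h2 x hx,
      polar_comm Q x (e k), polar_comm Q x (f k), h5.1, h5.2]
    simp
  refine ⟨polar Q (f k) v, ?_⟩
  rw [h1, zero_smul, sub_zero] at h4
  exact sub_eq_zero.1 h4

end flag

/-- a 2-group has a fixed vector `≠ 0` on every invariant subspace `≠ 0` -/
theorem exists_fixed [CharP F 2] [Finite V] {S : Subgroup ↥(E Q)} (hS : IsPGroup 2 S)
    (W : Submodule F V) {w : V} (hw : w ∈ W) (hw0 : w ≠ 0)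
    (hSW : ∀ g ∈ S, ∀ v ∈ W, (g : V ≃ₗ[F] V) v ∈ W) :
    ∃ v ∈ W, v ≠ 0 ∧ ∀ g ∈ S, (g : V ≃ₗ[F] V) v = v := by
  let _ : MulAction S W :=
    { smul := fun g v => ⟨((g : ↥(E Q)) : V ≃ₗ[F] V) v, hSW g g.2 v v.2⟩
      one_smul := fun v => rfl
      mul_smul := fun g h v => rfl }
  have hsm : ∀ (g : S) (v : W), ((g • v : W) : V) = ((g : ↥(E Q)) : V ≃ₗ[F] V) v := fun _ _ => rfl
  have hcard : 2 ∣ Nat.card W := by
    have h1 : addOrderOf (⟨w, hw⟩ : W) = 2 := by
      apply addOrderOf_eq_prime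
      · apply Subtype.ext
        show (2 : ℕ) • w = 0
        rw [two_nsmul, add_self' (F := F)]
      · intro h
        exact hw0 (congrArg Subtype.val h)
    rw [← h1]
    exact addOrderOf_dvd_natCard _
  have h0 : (0 : W) ∈ MulAction.fixedPoints S W := by
    intro g
    apply Subtype.ext
    rw [hsm]
    exact map_zero _
  obtain ⟨v, hv, hv0⟩ := hS.exists_fixed_point_of_prime_dvd_card_of_fixed_point W hcard h0
  refine ⟨v, v.2, ?_, ?_⟩
  · intro h
    apply hv0
    apply Subtype.ext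
    rw [h]
    rfl
  · intro g hg
    have := congrArg Subtype.val (hv ⟨g, hg⟩)
    rwa [hsm] at this

/-! ### The plane `V^(n)` -/

/-- `a, b` is a basis of `V^(n)`, `(a,b) = 1` -/
structure Plane (Q : QuadraticForm F V) (e f : ℕ → V) (n : ℕ) (a b : V) : Prop where
  am : a ∈ Vk Q e f n
  bm : b ∈ Vk Q e f n
  ab : polar Q a b = 1
  gen : ∀ v ∈ Vk Q e f n, v = polar Q b v • a + polar Q a v • b

theorem Plane.ne {e f : ℕ → V} {n : ℕ} {a b : V} (P : Plane Q e f n a b) : a ≠ 0 := by
  rintro rfl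
  have := P.ab
  rw [polar_zero_left] at this
  exact zero_ne_one this

theorem Plane.eq_zero [CharP F 2] {e f : ℕ → V} {n : ℕ} {a b : V} (P : Plane Q e f n a b)
    {v y z : V} (hv : v ∈ Vk Q e f n) (hy : y ∈ Vk Q e f n) (hz : z ∈ Vk Q e f n)
    (hvy : polar Q v y = 1) (h1 : polar Q v z = 0) (h2 : polar Q y z = 0) : z = 0 := by
  have h20 : (2 : F) = 0 := CharTwo.two_eq_zero
  have e1 : ∀ x, polar Q v x = polar Q b v * polar Q a x + polar Q a v * polar Q b x := by
    intro x
    conv_lhs => rw [P.gen v hv]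
    rw [polar_add_left, polar_smul_left, polar_smul_left, smul_eq_mul, smul_eq_mul]
  have e2 : ∀ x, polar Q y x = polar Q b y * polar Q a x + polar Q a y * polar Q b x := by
    intro x
    conv_lhs => rw [P.gen y hy]
    rw [polar_add_left, polar_smul_left, polar_smul_left, smul_eq_mul, smul_eq_mul]
  have h3 := e1 y
  rw [hvy] at h3
  have h4 := e1 z
  rw [h1] at h4
  have h5 := e2 z
  rw [h2] at h5
  have h6 : polar Q b z = 0 := by
    linear_combination (polar Q b z) * h3 - (polar Q b v) * h5 - (polar Q b y) * h4 -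
      (polar Q b v * polar Q b y * polar Q a z) * h20
  have h7 : polar Q a z = 0 := by
    linear_combination (polar Q a z) * h3 - (polar Q a v) * h5 - (polar Q a y) * h4 -
      (polar Q a v * polar Q a y * polar Q b z) * h20
  rw [P.gen z hz, h6, h7, zero_smul, zero_smul, add_zero]

/-- A 2-group of `E Q` fixing all `e j, f j` is trivial. -/
theorem eq_one [CharP F 2] [Finite V] (hN : NoRefl Q) {e f : ℕ → V} {n : ℕ}
    {a b : V} (P : Plane Q e f n a b) {S : Subgroup ↥(E Q)} (hS : IsPGroup 2 S)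
    (hSF : S ≤ Fx Q e f n) {g : ↥(E Q)} (hg : g ∈ S) : g = 1 := by
  have h20 : (2 : F) = 0 := CharTwo.two_eq_zero
  obtain ⟨v, hv, hv0, hfix⟩ := exists_fixed hS (Vk Q e f n) P.am P.ne
    (fun g hg v hv => map_Vk (hSF hg) hv)
  have hgv := hfix g hg
  -- a partner of `v`
  obtain ⟨y, hy, hvy⟩ : ∃ y ∈ Vk Q e f n, polar Q v y = 1 := by
    by_cases h1 : polar Q v a = 0
    · by_cases h2 : polar Q v b = 0
      · exfalso
        apply hv0
        rw [P.gen v hv, polar_comm Q b v, polar_comm Q a v, h1, h2, zero_smul, zero_smul, add_zero]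
      · refine ⟨(polar Q v b)⁻¹ • b, Submodule.smul_mem _ _ P.bm, ?_⟩
        rw [polar_smul_right, smul_eq_mul, inv_mul_cancel₀ h2]
    · refine ⟨(polar Q v a)⁻¹ • a, Submodule.smul_mem _ _ P.am, ?_⟩
      rw [polar_smul_right, smul_eq_mul, inv_mul_cancel₀ h1]
  have hgF := hSF hg
  have hgy := map_Vk hgF hy
  have hyv : polar Q y v = 1 := by rw [polar_comm]; exact hvy
  have hvgy : polar Q v ((g : V ≃ₗ[F] V) y) = 1 := by
    have := polar_map' g v y
    rwa [hgv, hvy] at this
  -- `g z - z` lies in the plane and is perpendicular to `v`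
  have hmem : ∀ z, (g : V ≃ₗ[F] V) z - z ∈ Vk Q e f n := by
    intro z j hj
    have h1 := polar_map' g (e j) z
    have h2 := polar_map' g (f j) z
    rw [(hgF j hj).1] at h1
    rw [(hgF j hj).2] at h2
    rw [polar_sub_right, polar_sub_right, h1, h2]
    simp
  have hperp : ∀ z, polar Q v ((g : V ≃ₗ[F] V) z - z) = 0 := by
    intro z
    have h1 := polar_map' g v z
    rw [hgv] at h1
    rw [polar_sub_right, h1, sub_self]
  have hform : ∀ z ∈ Vk Q e f n, polar Q v z = 0 → z = polar Q y z • v := by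
    intro z hz hz1
    rw [← sub_eq_zero]
    apply P.eq_zero hv hy (Submodule.sub_mem _ hz (Submodule.smul_mem _ _ hv)) hvy
    · rw [polar_sub_right, polar_smul_right, hz1, polar_self2]
      simp
    · rw [polar_sub_right, polar_smul_right, hyv]
      simp
  -- `g y = y + c v`
  set c := polar Q y ((g : V ≃ₗ[F] V) y - y) with hc
  have hgy' : (g : V ≃ₗ[F] V) y = y + c • v := by
    have := hform _ (hmem y) (hperp y)
    rw [← hc] at this
    rw [← this]
    abel
  have hQ1 : c + c * c * Q v = 0 := by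
    have h1 := Q_map g y
    rw [hgy', Q_add, QuadraticMap.map_smul, polar_smul_right, hyv, smul_eq_mul,
      smul_eq_mul] at h1
    linear_combination h1
  have hgz : ∀ z, (g : V ≃ₗ[F] V) z = z - (c * polar Q v z) • v := by
    intro z
    have h1 := hform _ (hmem z) (hperp z)
    have h2 : polar Q y ((g : V ≃ₗ[F] V) z - z) = - (c * polar Q v z) := by
      have h3 := polar_map' g y z
      have h4 := polar_map' g v z
      rw [hgv] at h4
      rw [hgy', polar_add_left, polar_smul_left, smul_eq_mul, h4] at h3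
      rw [polar_sub_right]
      linear_combination h3
    rw [h2, neg_smul] at h1
    rw [sub_eq_iff_eq_add] at h1
    rw [h1]
    abel
  by_cases hc0 : c = 0
  · apply Subtype.ext
    apply LinearEquiv.ext
    intro z
    rw [hgz z, hc0, zero_mul, zero_smul, sub_zero]
    rfl
  · exfalso
    have h1 : c * Q v = 1 := by
      have h2 : c * (1 + c * Q v) = 0 := by linear_combination hQ1
      rcases mul_eq_zero.1 h2 with h3 | h3
      · exact absurd h3 hc0
      · linear_combination h3 - h20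
    have hQv : Q v ≠ 0 := by
      intro h
      rw [h, mul_zero] at h1
      exact zero_ne_one h1
    have h2 : c = (Q v)⁻¹ := by
      rw [eq_comm, inv_eq_of_mul_eq_one_left h1]
    exact hN g v hQv (fun z => by rw [hgz z, h2])

/-! ### The Sylow argument -/

theorem le_Uk [CharP F 2] [Finite V] (hQ : Nondeg Q) (hN : NoRefl Q) {n : ℕ} {e f : ℕ → V}
    (hF : Flag Q n e f) {a b : V} (P : Plane Q e f n a b) :
    ∀ (m k : ℕ), m + k = n → ∀ S : Subgroup ↥(E Q), IsPGroup 2 S → Uk Q e f n k ≤ S →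
      S ≤ Fx Q e f k → S ≤ Uk Q e f n k := by
  intro m
  induction m with
  | zero =>
    intro k hk S hS _ h2 g hg
    have hk' : k = n := by omega
    subst hk'
    rw [eq_one hN P hS h2 hg]
    exact one_mem _
  | succ m ih =>
    intro k hk S hS h1 h2 g hg
    have hkn : k < n := by omega
    have hh := hF.hyp k hkn
    have ha : a ∈ Vk Q e f (k + 1) := Vk_le (by omega) P.am
    obtain ⟨v, hv, hv0, hfix⟩ := exists_fixed hS (Vk Q e f k) (Vk_le (Nat.le_succ k) ha) P.ne
      (fun g hg v hv => map_Vk (h2 hg) hv)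
    obtain ⟨c, hc⟩ := eq_smul_of_fix hF hQ hkn hv ha P.ne
      (fun g hg => hfix g (h1 (RK_le_Uk le_rfl hkn hg)))
    have hc0 : c ≠ 0 := by
      rintro rfl
      rw [zero_smul] at hc
      exact hv0 hc
    have hge : ∀ g ∈ S, (g : V ≃ₗ[F] V) (e k) = e k := by
      intro g hg
      have h3 := hfix g hg
      rw [hc, map_smul] at h3
      have h4 := congrArg (fun t => c⁻¹ • t) h3
      simpa [smul_smul, inv_mul_cancel₀ hc0] using h4
    -- correct `f k`
    have hgk := hge g hg
    have hH : Hyp Q (e k) ((g : V ≃ₗ[F] V) (f k)) := by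
      refine ⟨hh.left, ?_, ?_⟩
      · rw [Q_map]; exact hh.right
      · have := polar_map' g (e k) (f k)
        rwa [hgk, hh.pair] at this
    have hx : polar Q (e k) ((g : V ≃ₗ[F] V) (f k) - f k) = 0 := by
      rw [polar_sub_right, hH.pair, hh.pair, sub_self]
    have hr : tE Q (e k) ((g : V ≃ₗ[F] V) (f k) - f k) ∈ RK Q e f k :=
      tE_mem_RK hF hkn (Submodule.sub_mem _ (map_Vk (h2 hg) (f_mem_Vk hF hkn le_rfl))
        (f_mem_Vk hF hkn le_rfl)) hx
    set r := tE Q (e k) ((g : V ≃ₗ[F] V) (f k) - f k) with hrdef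
    have hrU : r ∈ Uk Q e f n k := RK_le_Uk le_rfl hkn hr
    have hrf : (r : V ≃ₗ[F] V) (f k) = (g : V ≃ₗ[F] V) (f k) := by
      rw [hrdef, coe_tE]
      exact T_partner hh hH
    have hre : (r : V ≃ₗ[F] V) (e k) = e k := RK_fix_e hF hkn hr
    have hs : r⁻¹ * g ∈ S ⊓ Fx Q e f (k + 1) := by
      refine ⟨S.mul_mem (S.inv_mem (h1 hrU)) hg, ?_⟩
      intro j hj
      rcases Nat.lt_succ_iff_lt_or_eq.1 hj with h | rfl
      · have h7 : r⁻¹ * g ∈ Fx Q e f k :=
          (Fx Q e f k).mul_mem ((Fx Q e f k).inv_mem (RK_le_Fx hF hkn hr)) (h2 hg)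
        exact h7 j h
      · constructor
        · show (r : V ≃ₗ[F] V).symm ((g : V ≃ₗ[F] V) (e j)) = e j
          rw [hgk, LinearEquiv.symm_apply_eq]
          exact hre.symm
        · show (r : V ≃ₗ[F] V).symm ((g : V ≃ₗ[F] V) (f j)) = f j
          rw [LinearEquiv.symm_apply_eq]
          exact hrf.symm
    have hU : Uk Q e f n (k + 1) ≤ S ⊓ Fx Q e f (k + 1) :=
      le_inf ((Uk_anti (Nat.le_succ k)).trans h1) (Uk_le_Fx hF (k + 1))
    have h5 := ih (k + 1) (by omega) (S ⊓ Fx Q e f (k + 1)) (hS.to_le inf_le_left) hU inf_le_right hs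
    have h6 : r * (r⁻¹ * g) = g := by group
    rw [← h6]
    exact mul_mem hrU (Uk_anti (Nat.le_succ k) h5)

/-- `U` has odd index if the complement is a plane -/
theorem odd_index_of_plane [CharP F 2] [Finite V] (hQ : Nondeg Q) (hN : NoRefl Q) {n : ℕ}
    {e f : ℕ → V} (hF : Flag Q n e f) {a b : V} (P : Plane Q e f n a b) :
    Odd (UK Q e f n).index := by
  have hfin : Finite (V ≃ₗ[F] V) := Finite.of_injective (fun g : V ≃ₗ[F] V => (g : V → V))
    DFunLike.coe_injective
  have hU : IsPGroup 2 (Uk Q e f n 0) := isPGroup_Uk hF 0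
  obtain ⟨T, hT⟩ := hU.exists_le_sylow
  have hle : (T : Subgroup ↥(E Q)) ≤ Uk Q e f n 0 :=
    le_Uk hQ hN hF P n 0 (by omega) T T.isPGroup' hT
      (fun _ _ j hj => absurd hj (Nat.not_lt_zero j))
  have heq : (T : Subgroup ↥(E Q)) = Uk Q e f n 0 := le_antisymm hle hT
  rw [← Uk_zero, ← heq, ← Nat.not_even_iff_odd, even_iff_two_dvd]
  exact T.not_dvd_index

/-! ### The complement of a maximal flag -/

theorem exists_plane [CharP F 2] [Finite F] [FiniteDimensional F V] (hQ : Nondeg Q) {n : ℕ}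
    {e f : ℕ → V} (hF : Flag Q n e f) (an : ∀ y ∈ Vk Q e f n, Q y = 0 → y = 0)
    (hne : ∃ y ∈ Vk Q e f n, y ≠ 0) : ∃ a b, Plane Q e f n a b := by
  obtain ⟨a, ha, ha0⟩ := hne
  obtain ⟨b, hb, hab⟩ : ∃ b ∈ Vk Q e f n, polar Q b a ≠ 0 := by
    by_contra hcon
    push Not at hcon
    exact ha0 (nondeg_Vk hF hQ le_rfl ha hcon)
  refine ⟨a, (polar Q b a)⁻¹ • b, ha, Submodule.smul_mem _ _ hb, ?_, ?_⟩
  · rw [polar_smul_right, polar_comm Q a b, smul_eq_mul, inv_mul_cancel₀ hab]
  · set b' := (polar Q b a)⁻¹ • b with hb'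
    have hb'm : b' ∈ Vk Q e f n := Submodule.smul_mem _ _ hb
    have hab' : polar Q a b' = 1 := by
      rw [hb', polar_smul_right, polar_comm Q a b, smul_eq_mul, inv_mul_cancel₀ hab]
    have hba' : polar Q b' a = 1 := by rw [polar_comm]; exact hab'
    intro v hv
    set z := v - (polar Q b' v • a + polar Q a v • b') with hz
    have hzm : z ∈ Vk Q e f n := Submodule.sub_mem _ hv
      (Submodule.add_mem _ (Submodule.smul_mem _ _ ha) (Submodule.smul_mem _ _ hb'm))
    have hza : polar Q a z = 0 := by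
      rw [hz, polar_sub_right, polar_add_right, polar_smul_right, polar_smul_right, polar_self2,
        hab']
      simp
    have hzb : polar Q b' z = 0 := by
      rw [hz, polar_sub_right, polar_add_right, polar_smul_right, polar_smul_right, polar_self2,
        hba']
      simp
    by_cases hz0 : z = 0
    · exact sub_eq_zero.1 hz0
    · exfalso
      have hli : LinearIndependent F (![⟨a, ha⟩, ⟨b', hb'm⟩, ⟨z, hzm⟩] : Fin 3 → Vk Q e f n) := by
        rw [Fintype.linearIndependent_iff]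
        intro c hc
        rw [Fin.sum_univ_three] at hc
        have hc' : c 0 • a + c 1 • b' + c 2 • z = 0 := congrArg Subtype.val hc
        have h1 : c 1 = 0 := by
          have := congrArg (fun t => polar Q a t) hc'
          simp only [polar_add_right, polar_smul_right, polar_self2, hab', hza] at this
          simpa using this
        have h0 : c 0 = 0 := by
          have := congrArg (fun t => polar Q b' t) hc'
          simp only [polar_add_right, polar_smul_right, polar_self2, hba', hzb] at this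
          simpa using this
        have h2 : c 2 = 0 := by
          rw [h0, h1, zero_smul, zero_smul, zero_add, zero_add] at hc'
          exact (smul_eq_zero.1 hc').resolve_right hz0
        intro i
        fin_cases i
        · exact h0
        · exact h1
        · exact h2
      have h3 := hli.fintype_card_le_finrank
      rw [Fintype.card_fin] at h3
      obtain ⟨w, hw, hw0, hQw⟩ := LieClassical.OrthFinite.exists_sing_mem (Q := Q) _ h3
      exact hw0 (an w hw hQw)

/-- **`UK Q e f n` has odd index in `K = ↥(E Q)`.** -/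
theorem odd_index_of_noRefl [CharP F 2] [Finite F] [FiniteDimensional F V] (hQ : Nondeg Q)
    (hN : NoRefl Q) {n : ℕ} (hn : 1 ≤ n) {e f : ℕ → V} (hF : Flag Q n e f)
    (an : ∀ y ∈ Yv Q e f (n - 1), Q y = 0 → y = 0) : Odd (UK Q e f n).index := by
  have hV : Finite V := Module.finite_of_finite F
  obtain ⟨m, rfl⟩ : ∃ m, n = m + 1 := ⟨n - 1, by omega⟩
  have an' : ∀ y ∈ Vk Q e f (m + 1), Q y = 0 → y = 0 := fun y hy => an y (mem_Yv.2 hy)
  by_cases hne : ∃ y ∈ Vk Q e f (m + 1), y ≠ 0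
  · obtain ⟨a, b, P⟩ := exists_plane hQ hF an' hne
    exact odd_index_of_plane hQ hN hF P
  · push Not at hne
    have hF' : Flag Q m e f :=
      ⟨fun i hi => hF.hyp i (by omega), fun i k hi hk => hF.ee i k (by omega) (by omega),
        fun i k hi hk => hF.ef i k (by omega) (by omega),
        fun i k hi hk => hF.ff i k (by omega) (by omega)⟩
    have P : Plane Q e f m (e m) (f m) := by
      refine ⟨e_mem_Vk hF (Nat.lt_succ_self m) le_rfl, f_mem_Vk hF (Nat.lt_succ_self m) le_rfl,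
        (hF.hyp m (Nat.lt_succ_self m)).pair, ?_⟩
      intro v hv
      have h1 := hne _ (proj_mem hF (Nat.lt_succ_self m) hv)
      rw [sub_sub] at h1
      exact sub_eq_zero.1 h1
    have h1 := odd_index_of_plane hQ hN hF' P
    have h2 : UK Q e f (m + 1) = UK Q e f m := by
      rw [← Uk_zero, ← Uk_zero]
      apply le_antisymm
      · apply Uk_le
        intro i _ hi
        rcases Nat.lt_succ_iff_lt_or_eq.1 hi with h | rfl
        · exact RK_le_Uk (Nat.zero_le i) h
        · intro g hg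
          obtain ⟨y, hy, rfl⟩ := (mem_RK hF hi).1 hg
          rw [hne y hy, tE_zero_right]
          exact one_mem _
      · exact Uk_le fun i _ hi => RK_le_Uk (Nat.zero_le i) (by omega)
    rw [h2]
    exact h1

/-! ### No reflection in `E Q` -/

theorem polarBilin_nondeg (hQ : Nondeg Q) : (polarBilin Q).Nondegenerate := by
  constructor
  · intro x h
    exact hQ x h
  · intro y h
    apply hQ
    intro x
    rw [polar_comm]
    exact h x

theorem noRefl_pi {ι : Type} [Fintype ι] [DecidableEq ι] {Q : QuadraticForm F (ι → F)}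
    (hQ : Nondeg Q) (hd : Fintype.card ι ≠ 4) {g : (ι → F) ≃ₗ[F] (ι → F)}
    (hg : g ∈ ⁅O Q, O Q⁆) {v : ι → F} (hv : Q v ≠ 0)
    (h : ∀ z, g z = z - ((Q v)⁻¹ * polar Q v z) • v) : False := by
  rw [← LieClassical.OrthFinite.map_Omega] at hg
  obtain ⟨x, hx, rfl⟩ := hg
  have hx' : x ∈ commutator (Cfsg.isometryGroup F ⇑Q) := hx
  have e1 : x = ClassicalGeometry.Reflection.reflIso Q v hv := by
    apply ClassicalGeometry.Reflection.isometryGroup_ext
    intro z
    rw [ClassicalGeometry.Reflection.coe_reflIso,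
      ClassicalGeometry.Reflection.reflectionMatrix_mulVec]
    exact h z
  rw [e1] at hx'
  exact ClassicalGeometry.OrthDickson.refl_notMem_commutator Q (polarBilin_nondeg hQ) (Or.inr hd)
    v hv hx'

/-- conjugation by a linear equivalence -/
def cj {W : Type*} [AddCommGroup W] [Module F W] (c : V ≃ₗ[F] W) :
    (V ≃ₗ[F] V) →* (W ≃ₗ[F] W) where
  toFun g := (c.symm.trans g).trans c
  map_one' := by
    ext x
    simp
  map_mul' g h := by
    ext x
    simp

theorem noRefl (hG : Good Q) : NoRefl Q := by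
  have hfd : FiniteDimensional F V := Module.finite_of_finrank_pos (by have := hG.dim; omega)
  set d := Module.finrank F V with hd
  have hd5 : 5 ≤ d := hG.dim
  let c : V ≃ₗ[F] (Fin d → F) := (Module.finBasis F V).equivFun
  let Q' : QuadraticForm F (Fin d → F) := Q.comp c.symm.toLinearMap
  have hQ'c : ∀ x, Q' x = Q (c.symm x) := fun x => rfl
  have hpol : ∀ x y, polar Q' x y = polar Q (c.symm x) (c.symm y) := by
    intro x y
    unfold polar
    rw [hQ'c, hQ'c, hQ'c, map_add]
  have hQ' : Nondeg Q' := by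
    intro x hx
    have h1 : c.symm x = 0 := by
      apply hG.nondeg
      intro y
      have := hx (c y)
      rwa [hpol, LinearEquiv.symm_apply_apply] at this
    simpa using congrArg c h1
  intro g v hv hz
  have hg : (g : V ≃ₗ[F] V) ∈ ⁅O Q, O Q⁆ := by
    rw [hG.commutator_eq_E]
    exact g.2
  have hg' : cj c (g : V ≃ₗ[F] V) ∈ ⁅O Q', O Q'⁆ := by
    have h1 : (⁅O Q, O Q⁆ : Subgroup (V ≃ₗ[F] V)).map (cj c) ≤ ⁅O Q', O Q'⁆ := by
      rw [Subgroup.map_commutator]
      have h2 : (O Q).map (cj c) ≤ O Q' := by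
        rintro _ ⟨x, hx, rfl⟩
        intro y
        show Q' (c (x (c.symm y))) = Q' y
        rw [hQ'c, hQ'c, LinearEquiv.symm_apply_apply]
        exact hx _
      exact Subgroup.commutator_mono h2 h2
    exact h1 (Subgroup.mem_map_of_mem _ hg)
  refine noRefl_pi hQ' (by rw [Fintype.card_fin]; omega) hg' (v := c v) ?_ ?_
  · rw [hQ'c, LinearEquiv.symm_apply_apply]
    exact hv
  · intro z
    show c ((g : V ≃ₗ[F] V) (c.symm z)) = _
    rw [hz, map_sub, map_smul, LinearEquiv.apply_symm_apply, hQ'c, hpol,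
      LinearEquiv.symm_apply_apply]

/-- **(F2)** `UK Q e f n` has odd index in `K = ↥(E Q)` -/
theorem odd_index [CharP F 2] [Finite F] (hG : Good Q) {n : ℕ} (hn : 1 ≤ n) {e f : ℕ → V}
    (hF : Flag Q n e f) (an : ∀ y ∈ Yv Q e f (n - 1), Q y = 0 → y = 0) :
    Odd (UK Q e f n).index := by
  have hfd : FiniteDimensional F V := Module.finite_of_finrank_pos (by have := hG.dim; omega)
  exact odd_index_of_noRefl hG.nondeg (noRefl hG) hn hF an

end Cfsg.Agent.OddHalf.Orth.FlagSyl

end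

-- merged: Cfsg.Agent.OddHalf.Orth.PZero
section

/-!
# ODD D7, `K = Ω(V)`: the field `f3` of `TwEnd.Dat` for the class `OddGen` (helper552; outer 2-part, piece O9)

`root_mem`: the long root elements of `U` lie in `P0 OddGen K U`.
`norm_range`: `C(t)` normalises `j.range`.
`f3_O`: an element of `C(t)` centralising `P0` lies in `⟨t⟩ X_⟨e0,e1⟩`.
-/

set_option autoImplicit false

namespace Cfsg.Agent.OddHalf.Orth.PZero

open QuadraticMap Cfsg.Agent.LieClassical.OrthCore Cfsg.Agent.LieClassical.OrthTrans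
  Cfsg.Agent.LieClassical.OrthSimple Cfsg.Agent.ClassicalGeometry.OrthAutBasic
  Cfsg.Agent.ClassicalGeometry.OrthAutRoot Cfsg.Agent.OddHalf.Orth Cfsg.Agent.OddHalf.Orth.Face
  Cfsg.Agent.OddHalf.Orth.FlagDef
open Cfsg.Agent.OddHalf.D7Out.OddGen (OddGen oddGen_closure)

variable {F V : Type*} [Field F] [AddCommGroup V] [Module F V] {Q : QuadraticForm F V}

theorem P_oddGen {u v : V} {hu : Q u = 0} {huv : polar Q u v = 0} : OddGen (P Q u v hu huv) :=
  oddGen_closure fun _ h => h.2

variable {G : Type*} [Group G] {t : G} {j : ↥(E Q) →* G}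

/-- `C(t)` normalises `K`. -/
theorem norm_range (S : Sit Q t j) (c : G) (hc : c * t = t * c) : ∀ k ∈ j.range, c * k * c⁻¹ ∈ j.range := by
  obtain ⟨M, σ, -, hM⟩ := S.act c hc
  have h1 : (j.range.comap (MulAut.conj c).toMonoidHom).comap j = ⊤ := by
    apply closure_tE
    intro u x hu hx
    show c * j (tE Q u x) * c⁻¹ ∈ j.range
    rw [hM u x hu hx]
    exact ⟨_, rfl⟩
  rintro _ ⟨k, rfl⟩
  have h2 : k ∈ (j.range.comap (MulAut.conj c).toMonoidHom).comap j := by rw [h1]; trivial
  exact h2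

section Two

variable [CharP F 2]

/-- The long root elements of `U` lie in `P0`. -/
theorem root_mem [Finite F] (hP : Par Q) {u v : V} (h : Ln Q u v) {U : Subgroup G} (hU : j (tE Q u v) ∈ U) :
    j (tE Q u v) ∈ Cfsg.Agent.OddHalf.D7Out.TwClaim.P0 OddGen j.range U := by
  obtain ⟨u', v', H⟩ := exists_LF hP.nd h
  have h1 : tE Q u v ∈ P Q u v H.qu H.uv := X_le_P hP H (mem_X.2 ⟨1, by rw [one_smul]⟩)
  refine ⟨hU, ?_, (P Q u v H.qu H.uv).map j, P_oddGen.map j, ?_, ⟨_, h1, rfl⟩, ?_⟩
  · rw [← map_mul, tE_mul_self h.qu h.perp, map_one]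
  · rintro _ ⟨y, -, rfl⟩
    exact ⟨y, rfl⟩
  · rintro _ ⟨y, hy, rfl⟩
    have h2 := mem_P0.1 (P_le_P0 hy) 1
    rw [one_smul] at h2
    rw [← map_mul, ← map_mul, h2]

omit [CharP F 2] in
/-- An element commuting with the long root elements at `u` commutes with `R_u`. -/
theorem comm_R (hK : KFacts Q) {u : V} (hu : Q u = 0) (hu0 : u ≠ 0) {x : G}
    (h : ∀ v, Ln Q u v → x * j (tE Q u v) = j (tE Q u v) * x) :
    ∀ y, polar Q u y = 0 → x * j (tE Q u y) = j (tE Q u y) * x := by
  refine hK.ind_perp hu hu0 (P := fun y => x * j (tE Q u y) = j (tE Q u y) * x) ?_ ?_ h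
  · intro c
    have h1 : tE Q u (c • u) = 1 := by
      have h2 := tE_add_smul hu (show polar Q u (0 : V) = 0 from by simp) c
      rw [zero_add, tE_zero_right] at h2
      exact h2
    show x * j (tE Q u (c • u)) = j (tE Q u (c • u)) * x
    rw [h1, map_one, mul_one, one_mul]
  · intro a b ha hb h1 h2
    show x * j (tE Q u (a + b)) = j (tE Q u (a + b)) * x
    rw [← tE_mul hu ha hb, map_mul]
    calc x * (j (tE Q u a) * j (tE Q u b)) = (x * j (tE Q u a)) * j (tE Q u b) := by group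
      _ = j (tE Q u a) * (x * j (tE Q u b)) := by rw [h1]; group
      _ = j (tE Q u a) * j (tE Q u b) * x := by rw [h2]; group

omit [CharP F 2] in
/-- `C_{C(t)}(R_u) = ⟨t⟩ R_u`. -/
theorem exists_R (S : Sit Q t j) (hK : KFacts Q) {u : V} (hu : Q u = 0) (hu0 : u ≠ 0) {x : G} (hxt : x * t = t * x)
    (h : ∀ y, polar Q u y = 0 → x * j (tE Q u y) = j (tE Q u y) * x) :
    ∃ y, polar Q u y = 0 ∧ (x = j (tE Q u y) ∨ x = j (tE Q u y) * t) := by
  obtain ⟨M, σ, hM, hx⟩ := S.act x hxt
  obtain ⟨y, hy, hMy⟩ := hK.cent1 hM hu hu0 (by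
    intro z hz
    apply S.inj
    rw [← hx u z hu hz, h z hz, mul_inv_cancel_right])
  refine ⟨y, hy, ?_⟩
  have h1 : ∀ a b, Q a = 0 → polar Q a b = 0 → (j (tE Q u y))⁻¹ * x * j (tE Q a b) =
      j (tE Q a b) * ((j (tE Q u y))⁻¹ * x) := by
    intro a b ha hb
    have h2 := hx a b ha hb
    rw [hMy, hMy] at h2
    have h3 := tE_conj (tE Q u y) a b
    rw [coe_tE] at h3
    rw [← h3, map_mul, map_mul, map_inv] at h2
    calc (j (tE Q u y))⁻¹ * x * j (tE Q a b) = (j (tE Q u y))⁻¹ * (x * j (tE Q a b) * x⁻¹) * x := by group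
      _ = (j (tE Q u y))⁻¹ * (j (tE Q u y) * j (tE Q a b) * (j (tE Q u y))⁻¹) * x := by rw [h2]
      _ = j (tE Q a b) * ((j (tE Q u y))⁻¹ * x) := by group
  have ht : (j (tE Q u y))⁻¹ * x * t = t * ((j (tE Q u y))⁻¹ * x) := by
    have c1 : Commute (j (tE Q u y)) t := (S.tj _).symm
    have c2 : Commute x t := hxt
    exact (c1.inv_left.mul_left c2).eq
  rcases S.ker _ ht h1 with h2 | h2
  · left; exact (inv_mul_eq_one.1 h2).symm
  · right; exact inv_mul_eq_iff_eq_mul.1 h2

/-- An element `tE e y` commuting with `tE a z`, `z` perpendicular to the two hyperbolic pairs. -/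
theorem perp_of_comm (hQ : Nondeg Q) {e f a b y z : V} (h1 : Hyp Q e f) (h2 : Hyp Q a b) (hea : polar Q e a = 0)
    (hfa : polar Q f a = 0) (hy : polar Q e y = 0) (hz : Q z = 0) (hz0 : z ≠ 0) (hze : polar Q z e = 0)
    (hzf : polar Q z f = 0) (hza : polar Q z a = 0) (hzb : polar Q z b = 0)
    (hc : tE Q e y * tE Q a z = tE Q a z * tE Q e y) : polar Q a y = 0 ∧ polar Q z y = 0 := by
  have haz : polar Q a z = 0 := by rw [polar_comm]; exact hza
  have h3 := tE_conj (tE Q a z) e y
  rw [coe_tE, ← hc, mul_inv_cancel_right] at h3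
  have hTe : T Q a z e = e := by
    rw [T_apply2 h2.left haz, polar_comm Q a e, hea, hze]; simp
  have hTy : T Q a z y = y + (polar Q a y • z + polar Q z y • a) := by
    rw [T_apply2 h2.left haz, hz, zero_mul, add_zero, add_assoc]
  rw [hTe, hTy] at h3
  have hez : polar Q e z = 0 := by rw [polar_comm]; exact hze
  have hey' : polar Q e (y + (polar Q a y • z + polar Q z y • a)) = 0 := by
    rw [polar_add_right, polar_add_right, polar_smul_right, polar_smul_right, hy, hez, hea]; simp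
  obtain ⟨c, hc'⟩ := (tE_eq_iff hQ h1.left h1.left_ne hy hey').1 h3
  have h4 : polar Q a y • z + polar Q z y • a = c • e := by
    have := hc'
    exact add_left_cancel this
  have hc0 : c = 0 := by
    have h5 := congrArg (fun v => polar Q f v) h4
    simp only [polar_add_right, polar_smul_right] at h5
    rw [polar_comm Q f z, hzf, hfa, h1.pair'] at h5
    simpa using h5.symm
  rw [hc0, zero_smul] at h4
  have h6 : polar Q z y = 0 := by
    have h5 := congrArg (fun v => polar Q b v) h4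
    simp only [polar_add_right, polar_smul_right] at h5
    rw [polar_comm Q b z, hzb, h2.pair'] at h5
    simpa using h5
  rw [h6, zero_smul, add_zero] at h4
  exact ⟨(smul_eq_zero.1 h4).resolve_right hz0, h6⟩

/-- **The field `f3`.** `e, f`, `a, b` perpendicular hyperbolic pairs. -/
theorem f3_pairs [Finite F] (S : Sit Q t j) (hK : KFacts Q) (hP : Par Q) {e f a b : V} (h1 : Hyp Q e f)
    (h2 : Hyp Q a b) (hea : polar Q e a = 0) (heb : polar Q e b = 0) (hfa : polar Q f a = 0)
    (hfb : polar Q f b = 0) {U : Subgroup G} (hU0 : ∀ v, Ln Q e v → j (tE Q e v) ∈ U)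
    (hU1 : ∀ z, Ln Q a z → polar Q z e = 0 → polar Q z f = 0 → polar Q z b = 0 → j (tE Q a z) ∈ U)
    {x : G} (hxt : x * t = t * x)
    (h : ∀ p ∈ Cfsg.Agent.OddHalf.D7Out.TwClaim.P0 OddGen j.range U, x * p = p * x) :
    x ∈ (X Q e a h1.left hea).map j ∨ t * x ∈ (X Q e a h1.left hea).map j := by
  have hQ := hP.nd
  have he0 : e ≠ 0 := h1.left_ne
  have ha0 : a ≠ 0 := h2.left_ne
  obtain ⟨y, hy, hxy⟩ := exists_R S hK h1.left he0 hxt
    (comm_R hK h1.left he0 fun v hv => h _ (root_mem hP hv (hU0 v hv)))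
  -- `tE e y` commutes with the root elements at `a`
  have hya : ∀ z, Ln Q a z → polar Q z e = 0 → polar Q z f = 0 → polar Q z b = 0 →
      polar Q a y = 0 ∧ polar Q z y = 0 := by
    intro z hz hze hzf hzb
    refine perp_of_comm hQ h1 h2 hea hfa hy hz.qw hz.ne' hze hzf (by rw [polar_comm]; exact hz.perp) hzb ?_
    apply S.inj
    rw [map_mul, map_mul]
    have h3 := h _ (root_mem hP hz (hU1 z hz hze hzf hzb))
    rcases hxy with rfl | rfl
    · exact h3
    · have h4 := S.tj (tE Q a z)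
      have c1 : Commute (j (tE Q e y) * t) (j (tE Q a z)) := h3
      have c2 : Commute t (j (tE Q a z)) := h4
      have c3 := c1.mul_left c2.inv_left
      rw [mul_inv_cancel_right] at c3
      exact c3.eq
  -- a line at `e`
  have hln : Ln Q e a := by
    refine ⟨h1.left, h2.left, hea, he0, fun c hc => ?_⟩
    have h3 := h2.pair
    rw [hc, polar_smul_left, heb, smul_zero] at h3
    exact zero_ne_one h3
  have hsing : ∀ w, Ln3 Q e a w → ∃ (α β : F) (w0 : V), w = α • e + β • a + w0 ∧ Ln Q a w0 ∧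
      polar Q w0 e = 0 ∧ polar Q w0 f = 0 ∧ polar Q w0 b = 0 := by
    intro w hw
    set w0 := w - polar Q f w • e - polar Q b w • a with hw0
    have hee : polar Q e e = 0 := polar_self2 e
    have haa : polar Q a a = 0 := polar_self2 a
    have hfe : polar Q f e = 1 := h1.pair'
    have hba : polar Q b a = 1 := h2.pair'
    have hbe : polar Q b e = 0 := by rw [polar_comm]; exact heb
    have hae : polar Q a e = 0 := by rw [polar_comm]; exact hea
    have hew : polar Q e w = 0 := hw.uw.perp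
    have haw : polar Q a w = 0 := hw.perp
    have q1 : polar Q e w0 = 0 := by
      rw [hw0, polar_sub_right, polar_sub_right, polar_smul_right, polar_smul_right, hew, hee, hea]; simp
    have q2 : polar Q f w0 = 0 := by
      rw [hw0, polar_sub_right, polar_sub_right, polar_smul_right, polar_smul_right, hfe, hfa]; simp
    have q3 : polar Q a w0 = 0 := by
      rw [hw0, polar_sub_right, polar_sub_right, polar_smul_right, polar_smul_right, haw, hae, haa]; simp
    have q4 : polar Q b w0 = 0 := by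
      rw [hw0, polar_sub_right, polar_sub_right, polar_smul_right, polar_smul_right, hbe, hba]; simp
    have hwe : w = polar Q f w • e + polar Q b w • a + w0 := by rw [hw0]; abel
    have qw0 : Q w0 = 0 := by
      have h3 : Q w = Q (polar Q f w • e + polar Q b w • a) + Q w0 +
          polar Q (polar Q f w • e + polar Q b w • a) w0 := by
        conv_lhs => rw [hwe]
        exact QuadraticMap.map_add Q _ _
      have h4 : Q (polar Q f w • e + polar Q b w • a) = 0 := by
        have h5 := QuadraticMap.map_add Q (polar Q f w • e) (polar Q b w • a)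
        rw [h5, QuadraticMap.map_smul, QuadraticMap.map_smul, polar_smul_left, polar_smul_right,
          hea, h1.left, h2.left]
        simp
      rw [h4, polar_add_left, polar_smul_left, polar_smul_left, q1, q3, hw.uw.qw] at h3
      simpa using h3.symm
    refine ⟨_, _, w0, hwe, ⟨h2.left, qw0, q3, ha0, fun c hc => ?_⟩, by rw [polar_comm]; exact q1,
      by rw [polar_comm]; exact q2, by rw [polar_comm]; exact q4⟩
    apply hw.ind
    rw [mem_L]
    refine ⟨polar Q f w, polar Q b w + c, ?_⟩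
    conv_rhs => rw [hwe, hc]
    rw [add_smul, add_assoc]
  obtain ⟨w, hw⟩ := hK.exLn3 hln
  obtain ⟨-, -, w1, -, g1, g2, g3, g4⟩ := hsing w hw
  have hay : polar Q a y = 0 := (hya w1 g1 g2 g3 g4).1
  obtain ⟨α, β, hyab⟩ := hK.perp2 (y := y) hln (by
    intro w hw
    obtain ⟨α, β, w0, hwe, k1, k2, k3, k4⟩ := hsing w hw
    rw [hwe, polar_add_right, polar_add_right, polar_smul_right, polar_smul_right, polar_comm Q y e, hy,
      polar_comm Q y a, hay, polar_comm Q y w0, (hya w0 k1 k2 k3 k4).2]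
    simp)
  have hX : tE Q e y ∈ X Q e a h1.left hea := by
    refine mem_X.2 ⟨β, ?_⟩
    rw [hyab, add_comm, tE_add_smul h1.left (by rw [polar_smul_right, hea, smul_zero])]
  rcases hxy with h3 | h3
  · left; exact ⟨_, hX, h3.symm⟩
  · right
    refine ⟨_, hX, ?_⟩
    rw [h3, ← S.tj, ← mul_assoc, S.tt, one_mul]

/-- **The field `f3` for the flag.** -/
theorem f3_O [Finite F] (S : Sit Q t j) (hK : KFacts Q) (hP : Par Q) {n : ℕ} {e f : ℕ → V} (hF : Flag Q n e f)
    (hn : 2 ≤ n) {T : Subgroup G} (T_t : ∀ x ∈ T, x * t = t * x) :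
    ∀ x ∈ T, (∀ p ∈ Cfsg.Agent.OddHalf.D7Out.TwClaim.P0 OddGen j.range ((UK Q e f n).map j), x * p = p * x) →
      x ∈ (X Q (e 0) (e 1) (hF.hyp 0 (by omega)).left (hF.ee 0 1 (by omega) (by omega) (by omega))).map j ∨
      t * x ∈ (X Q (e 0) (e 1) (hF.hyp 0 (by omega)).left (hF.ee 0 1 (by omega) (by omega) (by omega))).map j := by
  intro x hx h
  have h0 : 0 < n := by omega
  have h1 : 1 < n := by omega
  refine f3_pairs S hK hP (hF.hyp 0 h0) (hF.hyp 1 h1) (hF.ee 0 1 h0 h1 (by omega)) (hF.ef 0 1 h0 h1 (by omega))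
    (by rw [polar_comm]; exact hF.ef 1 0 h1 h0 (by omega)) (hF.ff 0 1 h0 h1 (by omega)) ?_ ?_ (T_t x hx) h
  · intro v hv
    refine ⟨_, ?_, rfl⟩
    have h2 : tE Q (e 0) v ∈ RK Q e f 0 :=
      FlagSyl.tE_mem_RK hF h0 (fun k hk => absurd hk (by omega)) hv.perp
    exact (le_iSup_of_le 0 (le_iSup_of_le h0 le_rfl) : RK Q e f 0 ≤ UK Q e f n) h2
  · intro z hz hze hzf hzb
    refine ⟨_, ?_, rfl⟩
    have h2 : tE Q (e 1) z ∈ RK Q e f 1 := by
      refine FlagSyl.tE_mem_RK hF h1 (fun k hk => ?_) hz.perp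
      obtain rfl : k = 0 := by omega
      exact ⟨by rw [polar_comm]; exact hze, by rw [polar_comm]; exact hzf⟩
    exact (le_iSup_of_le 1 (le_iSup_of_le h1 le_rfl) : RK Q e f 1 ≤ UK Q e f n) h2

end Two

end Cfsg.Agent.OddHalf.Orth.PZero

end
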