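import Cfsg.Agent.OddHalf.Orth.FrontX
import Cfsg.Agent.OddHalf.Orth.ExMain
import Cfsg.Agent.OddHalf.Orth.ExTwoMain
import Cfsg.Agent.OddHalf.Orth.KFr
import Cfsg.Agent.OddHalf.Orth.SitOf
import Cfsg.Agent.Schreier.ClassAll
import Mathlib
import Cfsg.Agent.OddHalf.D7Out.PZeroU
import Cfsg.Agent.OddHalf.D7Out.TwGlue
import Cfsg.Agent.OddHalf.Orth.FlagDef
import Cfsg.Agent.KFacts.TwFrame.Syl
import Cfsg.Agent.OddHalf.Orth.Face
import Cfsg.Agent.OddHalf.Orth.KFlagMain
import Cfsg.Agent.OddHalf.D7Out.TwFrame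
import Cfsg.Agent.OddHalf.Orth.OutDat
import Cfsg.Agent.OddHalf.Orth.C01
import Cfsg.Agent.OddHalf.Orth.PZero
import Cfsg.Agent.KFacts.OutCyc.Minus
import Cfsg.Agent.OddHalf.D7.Cases

-- merged: Cfsg.Agent.OddHalf.Orth.FrontMinus
section

/-!
# ODD D7, `K = Ω(V)`, characteristic 2: the front and the doubled long root groups

* `exists_dbl` : the doubled long root groups from the element `n` of the front (all `q`);
* `front_of` : from `Ctx`, `Std`, `Cyc` and the facts on `K` : `t`, `T`, `n`, `z`, `W`;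
* `front_minus` : the same for `K = PΩ^-_{2m+2}(q)`, `m ≥ 3`, `q` even.
-/

set_option autoImplicit false

namespace Cfsg.Agent.OddHalf.Orth.FrontMinus

open QuadraticMap Cfsg.Agent.LieClassical.OrthCore Cfsg.Agent.LieClassical.OrthTrans
  Cfsg.Agent.LieClassical.OrthSimple Cfsg.Agent.LieClassical Cfsg.Agent.LieClassical.OrthForms
  Cfsg.Agent.ClassicalGeometry.OrthAutBasic Cfsg.Agent.ClassicalGeometry.OrthAutRoot
  Cfsg.Agent.ClassicalGeometry.OrthSemi Cfsg.Agent.TitsThree.KSideO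
  Cfsg.Agent.OddHalf.Orth Cfsg.Agent.OddHalf.Orth.Face Cfsg.Agent.OddHalf.Orth.KPerf
  Cfsg.Agent.OddHalf.Orth.FlagDef Cfsg.Agent.OddHalf.Orth.FrontX Cfsg.Agent.OddHalf.Orth.SitOf
  Cfsg.Agent.OddHalf.Orth.KFlagMain Cfsg.Agent.OddHalf.Front.FE Cfsg.Agent.OddHalf.D7Out
  Cfsg.Agent.OddHalf.Iface

section General

variable {F V : Type*} [Field F] [AddCommGroup V] [Module F V] {Q : QuadraticForm F V}

/-- the line of the flag -/
theorem lf_of_flag {n : ℕ} {e f : ℕ → V} (hF : Flag Q n e f) (hn : 2 ≤ n) :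
    LF Q (e 0) (e 1) (f 0) (f 1) :=
  ⟨hF.hyp 0 (by omega), hF.hyp 1 (by omega), hF.ee 0 1 (by omega) (by omega) (by omega),
    hF.ef 0 1 (by omega) (by omega) (by omega), KFr.hfe hF (by omega) (by omega) (by omega),
    hF.ff 0 1 (by omega) (by omega) (by omega)⟩

variable {G : Type*} [Group G] {t : G} {j : ↥(E Q) →* G} [CharP F 2] {u v u' v' : V}

/-- **The doubled long root groups from the front.** -/
theorem exists_dbl [Finite G] [Finite F] (hP : Par Q) (S : Sit Q t j) (h : LF Q u v u' v') {n : ℕ}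
    {e f : ℕ → V} (hF : Flag Q n e f) (hn : 3 ≤ n)
    {T : Subgroup G} {m z : G} (hw : FrontN.Swap t ((X Q u v h.qu h.uv).map j) T m z)
    (hperf : ∀ L : Subgroup G, ⁅L, L⁆ = L → (∀ x ∈ L, x * t = t * x) → L ≤ j.range) :
    ∃ W : V → V → Subgroup G, Dbl Q t j W := by
  have hK : KFacts Q := kfacts hP.nd hP.d8
  by_cases h01 : ∃ θ : F, θ ≠ 0 ∧ θ ≠ 1
  · obtain ⟨θ, hθ, hθ'⟩ := h01
    refine ExMain.exists_dbl_of_move S hP h hF hn hθ hθ' (m := m) (conj_X hP hK S h hw hperf) ?_ ?_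
    · rw [hw.nt, ← mul_assoc, S.tt, one_mul]
      exact hw.zZ
    · rw [hw.nt]
      intro e1
      exact hw.z1 (mul_eq_left.1 e1)
  · push Not at h01
    have h2 : ∀ c : F, c = 0 ∨ c = 1 := fun c => by
      by_cases hc : c = 0
      · exact Or.inl hc
      · exact Or.inr (h01 c hc)
    have hz : z = j (tE Q u v) := by
      obtain ⟨x, hx, e1⟩ := hw.zZ
      obtain ⟨d, rfl⟩ := mem_X.1 hx
      have hd : d ≠ 0 := by
        rintro rfl
        exact hw.z1 (by rw [← e1, zero_smul, tE_zero_right, map_one])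
      rw [← e1, h01 d hd, one_smul]
    refine ExTwoMain.exists_dbl hP S h2 ⟨u, v, m, h.ln, ?_, ?_⟩
    · rw [← hz, hw.nz, mul_inv_cancel_right]
    · rw [← hz, hw.nt]

end General

section Model

universe u

variable {ι : Type} [Fintype ι] [DecidableEq ι] {F : Type*} [Field F] [Finite F] [CharP F 2]
  {Q : QuadraticForm F (ι → F)} {G : Type u} [Group G] {K : Subgroup G}

omit [Finite F] in
theorem center_eq_bot (hG : Good Q) (e : ↥K ≃* Cfsg.POmega F ⇑Q) : Subgroup.center ↥K = ⊥ := by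
  rw [eq_bot_iff]
  intro x hx
  rw [Subgroup.mem_bot]
  set e' := (equivE hG).trans e.symm with he'
  have h1 : e'.symm x ∈ Subgroup.center ↥(E Q) := by
    rw [Subgroup.mem_center_iff] at hx ⊢
    intro y
    have h2 := hx (e' y)
    apply e'.injective
    rw [map_mul, map_mul, MulEquiv.apply_symm_apply]
    exact h2
  have h2 := center_E hG h1
  rw [← e'.apply_symm_apply x, h2, map_one]

/-- the situation from the start -/
theorem sit_of_start (hG : Good Q) (hs : Function.Surjective (Psi Q)) (e : ↥K ≃* Cfsg.POmega F ⇑Q) {t : G}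
    (S : Start K t t) : Sit Q t (emb hG e) := by
  refine SitOf.sit_of hG hs e S.tt ?_ (fun k hk => (S.Kt k hk).symm) (fun g hg k hk => ?_) (fun g hg h => ?_)
  · intro ht
    exact S.t1 (S.cen t ht fun y hy => S.Kt y hy)
  · exact (Subgroup.mem_normalizer_iff.1 (S.nK g hg) k).1 hk
  · obtain ⟨i, hi⟩ := Subgroup.mem_zpowers_iff.1 (S.cK g hg fun k hk => (h k hk).symm)
    rcases Int.even_or_odd' i with ⟨c, rfl | rfl⟩
    · left
      rw [← hi, zpow_mul, zpow_ofNat, pow_two, S.tt, one_zpow]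
    · right
      rw [← hi, zpow_add, zpow_mul, zpow_ofNat, pow_two, S.tt, one_zpow, one_mul, zpow_one]

omit [Finite F] in
/-- the image in `G` of a subgroup of `K` -/
theorem map_emb (hG : Good Q) (e : ↥K ≃* Cfsg.POmega F ⇑Q) (U : Subgroup ↥(E Q)) :
    (U.map ((equivE hG).trans e.symm).toMonoidHom).map K.subtype = U.map (emb hG e) := by
  rw [Subgroup.map_map]
  rfl

/-- **The front, from the facts on `K`.** -/
theorem front_of (C : Ctx G) (S : Std G K) (hcyc : Iface.Cyc K) (hG : Good Q) (hs : Function.Surjective (Psi Q))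
    (hP : Par Q) (e : ↥K ≃* Cfsg.POmega F ⇑Q) {n : ℕ} {a b : ℕ → (ι → F)} (hF : Flag Q n a b) (hn : 3 ≤ n)
    (hu : Q (a 0) = 0) (huv : polar Q (a 0) (a 1) = 0)
    (hkf : FrGen.KF (UK Q a b n) (X Q (a 0) (a 1) hu huv)) (hsch : Schreier.Basic.Sch ↥K)
    (hco : TwChoice.CycOut ↥K) :
    ∃ (t : G) (T : Subgroup G) (m z : G) (W : (ι → F) → (ι → F) → Subgroup G), Start K t t ∧
      FrontCyc.Out t K ((UK Q a b n).map (emb hG e)) ((X Q (a 0) (a 1) hu huv).map (emb hG e)) T m z ∧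
      Dbl Q t (emb hG e) W := by
  have := C.fin
  obtain ⟨t, T, m, z, hst, ho⟩ := FrontCyc.front_ctx C S hcyc (center_eq_bot hG e)
    (hkf.map ((equivE hG).trans e.symm)) hsch hco
  rw [map_emb, map_emb] at ho
  have hsit := sit_of_start hG hs e hst
  obtain ⟨W, hW⟩ := exists_dbl hP hsit (lf_of_flag hF (by omega)) hF hn ho.sw fun L hL hLt => by
    rw [range_emb]
    exact FrGen.perf_le hst.toStart0 hsch hLt hL
  exact ⟨t, T, m, z, W, hst, ho, hW⟩

end Model

section Minus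

universe u

variable {F : Type} [Field F] [Finite F] [CharP F 2] {m : ℕ} {a b : F} {G : Type u} [Group G] {K : Subgroup G}

omit [CharP F 2] in
theorem par_minus (hm : 3 ≤ m) (hab : ∀ z₁ z₂ : F, z₁ ^ 2 + a * z₁ * z₂ + b * z₂ ^ 2 = 0 → z₁ = 0 ∧ z₂ = 0) :
    Par (minusForm m F a b) where
  nd := nondeg_minusForm m F a b hab
  d8 := by rw [finrank_minus]; omega
  rich := Or.inr fun ⟨h8, W, hW, h4⟩ => by
    have h1 := Cfsg.Agent.AutOrth.Main.finrank_le_of_TS_minus m a b hab (W := W) (by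
      rw [← Cfsg.Agent.AutOrth.Main.minusForm_eq]; exact hW)
    rw [finrank_minus] at h8
    omega

/-- **The front for `K = PΩ^-_{2m+2}(q)`, `m ≥ 3`, `q` even.** -/
theorem front_minus (C : Ctx G) (S : Std G K) (hcyc : Iface.Cyc K) (hm : 3 ≤ m)
    (hab : ∀ z₁ z₂ : F, z₁ ^ 2 + a * z₁ * z₂ + b * z₂ ^ 2 = 0 → z₁ = 0 ∧ z₂ = 0)
    (e : ↥K ≃* Cfsg.POmega F ⇑(minusForm m F a b)) (hco : TwChoice.CycOut ↥K)
    (hu : minusForm m F a b (em m a b hab 0) = 0)
    (huv : polar (minusForm m F a b) (em m a b hab 0) (em m a b hab 1) = 0) :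
    ∃ (t : G) (T : Subgroup G) (n z : G)
      (W : ((Fin m ⊕ Fin m) ⊕ Fin 2 → F) → ((Fin m ⊕ Fin m) ⊕ Fin 2 → F) → Subgroup G), Start K t t ∧
      FrontCyc.Out t K ((UK (minusForm m F a b) (em m a b hab) (fm m a b hab) m).map
          (emb (good_minus (by omega) hab) e))
        ((X (minusForm m F a b) (em m a b hab 0) (em m a b hab 1) hu huv).map (emb (good_minus (by omega) hab) e))
        T n z ∧
      Dbl (minusForm m F a b) t (emb (good_minus (by omega) hab) e) W := by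
  have : Fintype F := Fintype.ofFinite F
  refine front_of C S hcyc (good_minus (by omega) hab) (Cfsg.Agent.AutOrth.Final.surjective_minus hm hab)
    (par_minus hm hab) e (KFlag.flag_minus hm a b hab).1 hm hu huv (KFr.kf_minus hm a b hab hu huv) ?_ hco
  refine Schreier.ClassAll.sch_pomegaMinus ⟨F, inferInstance, inferInstance, m + 1, a, b, by omega, hab, ?_⟩
  rw [coe_minusForm] at e
  exact ⟨e⟩

end Minus

end Cfsg.Agent.OddHalf.Orth.FrontMinus

end

-- merged: Cfsg.Agent.OddHalf.D7Out.PZeroOut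
section

/-!
# The field `hS` of `TwGlue.Inp` for the class `OddGen` from `TwChoice.Out` and `CycT` (helper552; piece O9)
-/

set_option autoImplicit false

namespace Cfsg.Agent.OddHalf.D7Out.PZeroOut

open Subgroup
open Cfsg.Agent.OddHalf.D7Out.OddGen Cfsg.Agent.OddHalf.D7Out.TwChoice

variable {G : Type*} [Group G] {t : G} {K Y U P T : Subgroup G}

/-- **The field `hS` from `Out` and `CycT`.** -/
theorem hS_out [Finite G] (tt : t * t = 1) (K_t : ∀ x ∈ K, x * t = t * x) (t_K : t ∉ K) (U_K : U ≤ K)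
    (hKn : ∀ c, c * t = t * c → ∀ x ∈ K, c * x * c⁻¹ ∈ K) (O : Out t t K Y U P T) (hcyc : CycT t t K) :
    ∀ P : Subgroup G, OddGen P → (∀ x ∈ P, x * t = t * x) → ∀ p ∈ P, p * p = 1 → p ∈ K := by
  refine PZeroU.hS (T := T) (U := U) tt t_K K_t hKn O.pT O.tc O.odd_relIndex U_K ?_
  obtain ⟨y, hy, h1⟩ := O.cyc_T hcyc
  refine ⟨y, O.PT hy, fun x hx => ?_⟩
  obtain ⟨i, r, hr, u, hu, rfl⟩ := h1 x hx
  refine ⟨-i, ?_⟩
  have e : y ^ (-i) * (y ^ i * r * u) = r * u := by
    rw [zpow_neg]; group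
  rw [e]
  obtain ⟨j, rfl⟩ := mem_zpowers_iff.1 hr
  rcases Int.even_or_odd' j with ⟨c, rfl | rfl⟩
  · left
    rw [zpow_mul, zpow_ofNat, pow_two, tt, one_zpow, one_mul]
    exact hu
  · right
    rw [zpow_add, zpow_mul, zpow_ofNat, pow_two, tt, one_zpow, zpow_one, one_mul, ← mul_assoc, tt, one_mul]
    exact hu

end Cfsg.Agent.OddHalf.D7Out.PZeroOut

end

-- merged: Cfsg.Agent.KFacts.TwFrame.OTrans
section

/-!
# `E Q` is transitive on flags of hyperbolic pairs which do not span `V` (characteristic two)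

`trans_flag`: `Q` nondegenerate over a finite field of characteristic two, `e i, f i` and `e' i, f' i` (`i < n`) two
flags (`FlagDef.Flag`), `2 n < dim V`; then some `g : E Q` maps `e i` to `e' i` and `f i` to `f' i`.
-/

set_option autoImplicit false

namespace Cfsg.Agent.KFacts.TwFrame.OTrans

open QuadraticMap Cfsg.Agent.LieClassical.OrthCore Cfsg.Agent.LieClassical.OrthTrans Cfsg.Agent.OddHalf.Orth
  Cfsg.Agent.OddHalf.Orth.SitOf Cfsg.Agent.OddHalf.Orth.FlagDef
  Cfsg.Agent.ClassicalGeometry.OrthAutBasic Cfsg.Agent.ClassicalGeometry.OrthAutRoot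

variable {F V : Type*} [Field F] [AddCommGroup V] [Module F V] {Q : QuadraticForm F V}

theorem Flag.mono {n m : ℕ} {e f : ℕ → V} (h : Flag Q n e f) (hm : m ≤ n) : Flag Q m e f where
  hyp i hi := h.hyp i (by omega)
  ee i k hi hk := h.ee i k (by omega) (by omega)
  ef i k hi hk := h.ef i k (by omega) (by omega)
  ff i k hi hk := h.ff i k (by omega) (by omega)

/-- The projection to the vectors perpendicular to `e k, f k` (`k < i`). -/
def pj (Q : QuadraticForm F V) (e f : ℕ → V) : ℕ → V → V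
  | 0, v => v
  | i + 1, v => proj Q (e i) (f i) (pj Q e f i v)

theorem pj_perp {n : ℕ} {e f : ℕ → V} (h : Flag Q n e f) (v : V) :
    ∀ i ≤ n, ∀ k < i, polar Q (e k) (pj Q e f i v) = 0 ∧ polar Q (f k) (pj Q e f i v) = 0 := by
  intro i
  induction i with
  | zero => intro _ k hk; omega
  | succ i ih =>
    intro hi k hk
    have hp := h.hyp i (by omega)
    rw [pj]
    rcases Nat.lt_succ_iff_lt_or_eq.1 hk with h1 | rfl
    · rw [polar_proj_of_perp (h.ee i k (by omega) (by omega) (by omega))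
          (polar_zero_of_comm (h.ef k i (by omega) (by omega) (by omega))),
        polar_proj_of_perp (h.ef i k (by omega) (by omega) (by omega))
          (h.ff i k (by omega) (by omega) (by omega))]
      exact ih (by omega) k h1
    · exact ⟨polar_proj_left hp _, polar_proj_right hp _⟩

theorem polar_pj {e f : ℕ → V} {w : V} (v : V) : ∀ i, (∀ k < i, polar Q (e k) w = 0 ∧ polar Q (f k) w = 0) →
    polar Q w (pj Q e f i v) = polar Q w v := by
  intro i
  induction i with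
  | zero => intro _; rfl
  | succ i ih =>
    intro h
    rw [pj, polar_proj_of_perp (h i (by omega)).1 (h i (by omega)).2]
    exact ih fun k hk => h k (by omega)

/-- A flag which does not span `V` has a perpendicular vector with `Q v ≠ 0`. -/
theorem exists_ns (hQ : Nondeg Q) {n : ℕ} {e f : ℕ → V} (h : Flag Q n e f)
    (hd : 2 * n < Module.finrank F V) :
    ∃ v, Q v ≠ 0 ∧ ∀ k < n, polar Q (e k) v = 0 ∧ polar Q (f k) v = 0 := by
  obtain ⟨w, hw0, hw⟩ := exists_perp_ne (Q := Q) (n := 2 * n)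
    (fun i : Fin (2 * n) => if (i : ℕ) < n then e i else f (i - n)) hd
  have hw' : ∀ k < n, polar Q (e k) w = 0 ∧ polar Q (f k) w = 0 := by
    intro k hk
    have h1 := hw ⟨k, by omega⟩
    have h2 := hw ⟨n + k, by omega⟩
    simp only [if_pos hk] at h1
    simp only [show ¬ n + k < n by omega, if_false, Nat.add_sub_cancel_left] at h2
    exact ⟨h1, h2⟩
  by_cases hQw : Q w = 0
  · obtain ⟨y0, hy0⟩ := hQ.exists_polar_ne hw0
    set y := (polar Q w y0)⁻¹ • y0 with hy
    have hwy : polar Q w y = 1 := by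
      rw [hy, polar_smul_right, smul_eq_mul, inv_mul_cancel₀ hy0]
    set z := pj Q e f n y with hz
    have hz1 := pj_perp h y n le_rfl
    have hz2 : polar Q w z = 1 := by rw [hz, polar_pj y n hw', hwy]
    rcases exists_nonsing hz2 with h1 | h1 | h1
    · exact absurd hQw h1
    · exact ⟨z, h1, hz1⟩
    · refine ⟨w + z, h1, fun k hk => ?_⟩
      rw [polar_add_right, polar_add_right, (hw' k hk).1, (hw' k hk).2, (hz1 k hk).1, (hz1 k hk).2, add_zero]
      exact ⟨rfl, rfl⟩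
  · exact ⟨w, hQw, hw'⟩

section two

variable [CharP F 2]

omit [CharP F 2] in
theorem sym (x y : V) : polar Q x y = polar Q y x := polar_comm Q x y

/-- `E Q` moves a partner of `x` to another one, and fixes everything perpendicular. -/
theorem partner {x y y' : V} (h : Hyp Q x y) (h' : Hyp Q x y') :
    ∃ g : ↥(E Q), (g : V ≃ₗ[F] V) x = x ∧ (g : V ≃ₗ[F] V) y = y' ∧
      ∀ s, polar Q x s = 0 → polar Q y s = 0 → polar Q y' s = 0 → (g : V ≃ₗ[F] V) s = s := by
  have hw : polar Q x (y + y') = 0 := by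
    rw [polar_add_right, h.pair, h'.pair, CharTwo.add_self_eq_zero]
  refine ⟨tE Q x (y + y'), ?_, ?_, fun s hs hy hy' => ?_⟩
  · rw [coe_tE, T_apply2 h.left hw, polar_self2, sym, hw]
    simp
  · rw [coe_tE, T_apply2 h.left hw, h.pair]
    have h1 : polar Q (y + y') y = polar Q y y' := by
      rw [polar_add_left, polar_self2, zero_add, sym]
    have h2 : Q (y + y') = polar Q y y' := by
      rw [Q_add, h.right, h'.right, zero_add, zero_add]
    rw [h1, h2, mul_one, CharTwo.add_self_eq_zero, zero_smul, add_zero, one_smul, ← add_assoc,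
      add_self' (F := F), zero_add]
  · rw [coe_tE, T_apply2 h.left hw, hs, polar_add_left, hy, hy']
    simp

variable [Finite F]

/-- Two singular vectors which are not perpendicular. -/
theorem move1 {S : Set V} {x x' v : V} (hx : Q x = 0) (hx' : Q x' = 0) (hxx : polar Q x x' ≠ 0) (hv : Q v ≠ 0)
    (hvx : polar Q x v = 0) (hvx' : polar Q x' v = 0) (hxS : ∀ s ∈ S, polar Q x s = 0)
    (hxS' : ∀ s ∈ S, polar Q x' s = 0) (hvS : ∀ s ∈ S, polar Q v s = 0) :
    ∃ g : ↥(E Q), (g : V ≃ₗ[F] V) x = x' ∧ ∀ s ∈ S, (g : V ≃ₗ[F] V) s = s := by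
  set c := polar Q x x' with hc
  obtain ⟨μ, hμ⟩ := exists_sqrt (c⁻¹ * (Q v)⁻¹)
  set z := c⁻¹ • x + c⁻¹ • x' + μ • v with hz
  have hQz : Q z = 0 := by
    have h1 : Q (c⁻¹ • x + c⁻¹ • x') = c⁻¹ := by
      rw [Q_add, QuadraticMap.map_smul, QuadraticMap.map_smul, hx, hx', polar_smul_left, polar_smul_right, ← hc]
      simp only [smul_eq_mul, mul_zero, zero_add]
      rw [inv_mul_cancel₀ hxx, mul_one]
    have h2 : polar Q (c⁻¹ • x + c⁻¹ • x') (μ • v) = 0 := by
      rw [polar_smul_right, polar_add_left, polar_smul_left, polar_smul_left, hvx, hvx']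
      simp
    rw [hz, Q_add, h1, h2, QuadraticMap.map_smul, smul_eq_mul, hμ, mul_assoc, inv_mul_cancel₀ hv, mul_one, add_zero,
      CharTwo.add_self_eq_zero]
  have hzx : polar Q z x = 1 := by
    rw [hz, polar_add_left, polar_add_left, polar_smul_left, polar_smul_left, polar_smul_left, polar_self2, sym x' x,
      ← hc, sym v x, hvx]
    simp [hxx]
  have hzx' : polar Q z x' = 1 := by
    rw [hz, polar_add_left, polar_add_left, polar_smul_left, polar_smul_left, polar_smul_left, polar_self2,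
      ← hc, sym v x', hvx']
    simp [hxx]
  obtain ⟨g, -, h2, h3⟩ := partner (Q := Q) ⟨hQz, hx, hzx⟩ ⟨hQz, hx', hzx'⟩
  refine ⟨g, h2, fun s hs => h3 s ?_ (hxS s hs) (hxS' s hs)⟩
  rw [hz, polar_add_left, polar_add_left, polar_smul_left, polar_smul_left, polar_smul_left, hxS s hs, hxS' s hs,
    hvS s hs]
  simp

/-- Hyperbolic pairs perpendicular to `S`. -/
theorem move2 {S : Set V} {x y x' y' : V} (h : Hyp Q x y) (h' : Hyp Q x' y') (hxS : ∀ s ∈ S, polar Q x s = 0)
    (hyS : ∀ s ∈ S, polar Q y s = 0) (hxS' : ∀ s ∈ S, polar Q x' s = 0) (hyS' : ∀ s ∈ S, polar Q y' s = 0)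
    (hv : ∀ a b : V, Q a = 0 → Q b = 0 → polar Q a b ≠ 0 → (∀ s ∈ S, polar Q a s = 0) →
      (∀ s ∈ S, polar Q b s = 0) → ∃ v, Q v ≠ 0 ∧ polar Q a v = 0 ∧ polar Q b v = 0 ∧ ∀ s ∈ S, polar Q v s = 0) :
    ∃ g : ↥(E Q), (g : V ≃ₗ[F] V) x = x' ∧ (g : V ≃ₗ[F] V) y = y' ∧ ∀ s ∈ S, (g : V ≃ₗ[F] V) s = s := by
  have hm : ∀ a b : V, Q a = 0 → Q b = 0 → polar Q a b ≠ 0 → (∀ s ∈ S, polar Q a s = 0) →
      (∀ s ∈ S, polar Q b s = 0) → ∃ g : ↥(E Q), (g : V ≃ₗ[F] V) a = b ∧ ∀ s ∈ S, (g : V ≃ₗ[F] V) s = s := by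
    intro a b ha hb hab haS hbS
    obtain ⟨v, hv1, hv2, hv3, hv4⟩ := hv a b ha hb hab haS hbS
    exact move1 ha hb hab hv1 hv2 hv3 haS hbS hv4
  -- the first vector
  obtain ⟨g1, hg1, hg1S⟩ : ∃ g : ↥(E Q), (g : V ≃ₗ[F] V) x = x' ∧ ∀ s ∈ S, (g : V ≃ₗ[F] V) s = s := by
    by_cases hxx : polar Q x x' ≠ 0
    · exact hm x x' h.left h'.left hxx hxS hxS'
    · rw [ne_eq, not_not] at hxx
      obtain ⟨z, hz, hz1, hz2, hzS⟩ : ∃ z, Q z = 0 ∧ polar Q x z ≠ 0 ∧ polar Q z x' ≠ 0 ∧
          ∀ s ∈ S, polar Q z s = 0 := by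
        by_cases h1 : polar Q x' y ≠ 0
        · exact ⟨y, h.right, by rw [h.pair]; exact one_ne_zero, by rwa [sym], hyS⟩
        rw [ne_eq, not_not] at h1
        by_cases h2 : polar Q x y' ≠ 0
        · exact ⟨y', h'.right, h2, by rw [sym, h'.pair]; exact one_ne_zero, hyS'⟩
        rw [ne_eq, not_not] at h2
        refine ⟨y + y' + polar Q y y' • x, ?_, ?_, ?_, fun s hs => ?_⟩
        · rw [Q_add, Q_add, h.right, h'.right, QuadraticMap.map_smul, h.left, polar_smul_right, polar_add_left,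
            sym y x, h.pair, sym y' x, h2]
          simp only [smul_eq_mul, mul_zero, add_zero, zero_add, mul_one]
          exact CharTwo.add_self_eq_zero _
        · rw [polar_add_right, polar_add_right, polar_smul_right, h.pair, h2, polar_self2]
          simp
        · rw [polar_add_left, polar_add_left, polar_smul_left, sym y x', h1, sym y' x', h'.pair, hxx]
          simp
        · rw [polar_add_left, polar_add_left, polar_smul_left, hyS s hs, hyS' s hs, hxS s hs]
          simp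
      obtain ⟨g, hg, hgS⟩ := hm x z h.left hz hz1 hxS hzS
      obtain ⟨g', hg', hgS'⟩ := hm z x' hz h'.left hz2 hzS hxS'
      refine ⟨g' * g, ?_, fun s hs => ?_⟩
      · rw [Subgroup.coe_mul, LinearEquiv.mul_apply, hg, hg']
      · rw [Subgroup.coe_mul, LinearEquiv.mul_apply, hgS s hs, hgS' s hs]
  -- the second vector
  set y1 := (g1 : V ≃ₗ[F] V) y with hy1
  have hH : Hyp Q x' y1 := by
    rw [← hg1]
    exact h.map (mem_O' g1)
  obtain ⟨g2, hg2, hg2', hg2S⟩ := partner hH h'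
  refine ⟨g2 * g1, ?_, ?_, fun s hs => ?_⟩
  · rw [Subgroup.coe_mul, LinearEquiv.mul_apply, hg1, hg2]
  · rw [Subgroup.coe_mul, LinearEquiv.mul_apply, ← hy1, hg2']
  · rw [Subgroup.coe_mul, LinearEquiv.mul_apply, hg1S s hs]
    refine hg2S s (hxS' s hs) ?_ (hyS' s hs)
    rw [← hg1S s hs, hy1, polar_map' g1]
    exact hyS s hs

omit [Finite F] in
/-- the flag `(e, f)` of length `n` prolonged by `(a, b)` -/
theorem flag_snoc {n : ℕ} {e f : ℕ → V} (h : Flag Q n e f) {a b : V} (hab : Hyp Q a b)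
    (hp : ∀ k < n, polar Q (e k) a = 0 ∧ polar Q (f k) a = 0 ∧ polar Q (e k) b = 0 ∧ polar Q (f k) b = 0) :
    Flag Q (n + 1) (fun i => if i < n then e i else a) (fun i => if i < n then f i else b) where
  hyp i hi := by
    by_cases h1 : i < n
    · simp only [if_pos h1]; exact h.hyp i h1
    · simp only [if_neg h1]; exact hab
  ee i k hi hk hik := by
    by_cases h1 : i < n <;> by_cases h2 : k < n
    · simp only [if_pos h1, if_pos h2]; exact h.ee i k h1 h2 hik
    · simp only [if_pos h1, if_neg h2]; exact (hp i h1).1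
    · simp only [if_neg h1, if_pos h2]; rw [sym]; exact (hp k h2).1
    · omega
  ef i k hi hk hik := by
    by_cases h1 : i < n <;> by_cases h2 : k < n
    · simp only [if_pos h1, if_pos h2]; exact h.ef i k h1 h2 hik
    · simp only [if_pos h1, if_neg h2]; exact (hp i h1).2.2.1
    · simp only [if_neg h1, if_pos h2]; rw [sym]; exact (hp k h2).2.1
    · omega
  ff i k hi hk hik := by
    by_cases h1 : i < n <;> by_cases h2 : k < n
    · simp only [if_pos h1, if_pos h2]; exact h.ff i k h1 h2 hik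
    · simp only [if_pos h1, if_neg h2]; exact (hp i h1).2.2.2
    · simp only [if_neg h1, if_pos h2]; rw [sym]; exact (hp k h2).2.2.2
    · omega

/-- **`E Q` is transitive on flags which do not span `V`.** -/
theorem trans_flag (hQ : Nondeg Q) : ∀ (n : ℕ) {e f e' f' : ℕ → V}, Flag Q n e f → Flag Q n e' f' →
    2 * n < Module.finrank F V →
    ∃ g : ↥(E Q), ∀ i < n, (g : V ≃ₗ[F] V) (e i) = e' i ∧ (g : V ≃ₗ[F] V) (f i) = f' i := by
  intro n
  induction n with
  | zero =>
    intro e f e' f' _ _ _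
    exact ⟨1, fun i hi => by omega⟩
  | succ n ih =>
    intro e f e' f' h h' hd
    obtain ⟨g0, hg0⟩ := ih (Flag.mono h (Nat.le_succ n)) (Flag.mono h' (Nat.le_succ n)) (by omega)
    set S : Set V := {s | ∃ k < n, s = e' k ∨ s = f' k} with hS
    have hp : ∀ {a : V}, (∀ k < n, polar Q (e k) a = 0 ∧ polar Q (f k) a = 0) →
        ∀ s ∈ S, polar Q ((g0 : V ≃ₗ[F] V) a) s = 0 := by
      rintro a ha s ⟨k, hk, rfl | rfl⟩
      · rw [← (hg0 k hk).1, polar_map', sym]; exact (ha k hk).1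
      · rw [← (hg0 k hk).2, polar_map', sym]; exact (ha k hk).2
    have hp' : ∀ {a : V}, (∀ k < n, polar Q (e' k) a = 0 ∧ polar Q (f' k) a = 0) → ∀ s ∈ S, polar Q a s = 0 := by
      rintro a ha s ⟨k, hk, rfl | rfl⟩
      · rw [sym]; exact (ha k hk).1
      · rw [sym]; exact (ha k hk).2
    have hen : ∀ k < n, polar Q (e k) (e n) = 0 ∧ polar Q (f k) (e n) = 0 := fun k hk =>
      ⟨h.ee k n (by omega) (by omega) (by omega), by
        rw [sym]; exact h.ef n k (by omega) (by omega) (by omega)⟩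
    have hfn : ∀ k < n, polar Q (e k) (f n) = 0 ∧ polar Q (f k) (f n) = 0 := fun k hk =>
      ⟨h.ef k n (by omega) (by omega) (by omega), h.ff k n (by omega) (by omega) (by omega)⟩
    have hen' : ∀ k < n, polar Q (e' k) (e' n) = 0 ∧ polar Q (f' k) (e' n) = 0 := fun k hk =>
      ⟨h'.ee k n (by omega) (by omega) (by omega), by
        rw [sym]; exact h'.ef n k (by omega) (by omega) (by omega)⟩
    have hfn' : ∀ k < n, polar Q (e' k) (f' n) = 0 ∧ polar Q (f' k) (f' n) = 0 := fun k hk =>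
      ⟨h'.ef k n (by omega) (by omega) (by omega), h'.ff k n (by omega) (by omega) (by omega)⟩
    obtain ⟨g1, h1, h2, h3⟩ := move2 (S := S) ((h.hyp n (by omega)).map (mem_O' g0)) (h'.hyp n (by omega))
      (hp hen) (hp hfn) (hp' hen') (hp' hfn') (by
        intro a b ha hb hab haS hbS
        have hab' : Hyp Q a ((polar Q a b)⁻¹ • b) :=
          ⟨ha, by rw [QuadraticMap.map_smul, hb, smul_zero], by
            rw [polar_smul_right, smul_eq_mul, inv_mul_cancel₀ hab]⟩
        have hea : ∀ k < n, polar Q (e' k) a = 0 ∧ polar Q (f' k) a = 0 := fun k hk =>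
          ⟨by rw [sym]; exact haS _ ⟨k, hk, Or.inl rfl⟩, by rw [sym]; exact haS _ ⟨k, hk, Or.inr rfl⟩⟩
        have heb : ∀ k < n, polar Q (e' k) b = 0 ∧ polar Q (f' k) b = 0 := fun k hk =>
          ⟨by rw [sym]; exact hbS _ ⟨k, hk, Or.inl rfl⟩, by rw [sym]; exact hbS _ ⟨k, hk, Or.inr rfl⟩⟩
        obtain ⟨v, hv, hv'⟩ := exists_ns hQ (flag_snoc (Flag.mono h' (Nat.le_succ n)) hab' fun k hk =>
          ⟨(hea k hk).1, (hea k hk).2, by rw [polar_smul_right, (heb k hk).1, smul_zero],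
            by rw [polar_smul_right, (heb k hk).2, smul_zero]⟩) hd
        have hvn := hv' n (by omega)
        simp only [lt_irrefl, if_false] at hvn
        refine ⟨v, hv, hvn.1, ?_, ?_⟩
        · have h4 := hvn.2
          rw [polar_smul_left, smul_eq_mul] at h4
          rcases mul_eq_zero.1 h4 with h5 | h5
          · exact absurd h5 (inv_ne_zero hab)
          · exact h5
        · rintro s ⟨k, hk, rfl | rfl⟩
          · have h4 := (hv' k (by omega)).1
            simp only [if_pos hk] at h4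
            rw [sym]; exact h4
          · have h4 := (hv' k (by omega)).2
            simp only [if_pos hk] at h4
            rw [sym]; exact h4)
    refine ⟨g1 * g0, fun i hi => ?_⟩
    rw [Subgroup.coe_mul, LinearEquiv.mul_apply, LinearEquiv.mul_apply]
    rcases Nat.lt_succ_iff_lt_or_eq.1 hi with h4 | rfl
    · rw [(hg0 i h4).1, (hg0 i h4).2]
      exact ⟨h3 _ ⟨i, h4, Or.inl rfl⟩, h3 _ ⟨i, h4, Or.inr rfl⟩⟩
    · exact ⟨h1, h2⟩

end two

end Cfsg.Agent.KFacts.TwFrame.OTrans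

end

-- merged: Cfsg.Agent.KFacts.TwFrame.OFact
section

/-!
# The frame of `Ω(V)` (D7, outer 2-part): `FrameFact` for `O⁻`

`frR h : Fin n ⊕ Fin n → Subgroup ↥(E Q)` : the root groups `R (e i)`, `R (f i)` of a flag `h : Flag Q n e f`.
`frameFact` : `FrameFact (frR h) (UK Q e f n)` if the flag does not span `V` (`2 n < dim V`); `frameFact_minus`.
`YR h t j` : the elements of `C(t)` normalising every `j (R (e i))`, `j (R (f i))`; `hyp_minus` :
`TwChoice.Hyp t v j.range (YR h t j) (U.map j)`.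
-/

set_option autoImplicit false

namespace Cfsg.Agent.KFacts.TwFrame.OFact

open QuadraticMap Cfsg.Agent.LieClassical.OrthCore Cfsg.Agent.LieClassical.OrthTrans Cfsg.Agent.OddHalf.Orth
  Cfsg.Agent.LieClassical.OrthForms
  Cfsg.Agent.OddHalf.Orth.SitOf Cfsg.Agent.OddHalf.Orth.FlagDef Cfsg.Agent.OddHalf.Orth.Face
  Cfsg.Agent.ClassicalGeometry.OrthAutBasic Cfsg.Agent.ClassicalGeometry.OrthAutRoot
  Cfsg.Agent.KFacts.TwFrame.OTrans Cfsg.Agent.OddHalf.D7Out Cfsg.Agent.OddHalf.D7Out.TwFrame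

variable {F V : Type*} [Field F] [AddCommGroup V] [Module F V] {Q : QuadraticForm F V}

/-! ### Semilinear isometries -/

theorem polar_map {M : V ≃+ V} {σ : F ≃+* F} (h : Sem Q M σ) (v w : V) :
    polar Q (M v) (M w) = σ (polar Q v w) := by
  simp only [polar, ← map_add, h.iso, map_sub]

/-- An element of `E Q` as a semilinear isometry. -/
theorem sem_of (k : ↥(E Q)) : Sem Q (k : V ≃ₗ[F] V).toAddEquiv (RingEquiv.refl F) := by
  constructor
  · intro a v
    exact (k : V ≃ₗ[F] V).map_smul a v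
  · intro v
    exact Q_map k v

/-- The double perpendicular of a singular vector. -/
theorem smul_of_perp (hQ : Nondeg Q) {u u' w : V} (h : Hyp Q u u')
    (hw : ∀ x, polar Q u x = 0 → polar Q w x = 0) : ∃ c : F, w = c • u := by
  refine ⟨polar Q w u', ?_⟩
  rw [← sub_eq_zero]
  refine hQ _ fun v => ?_
  have h1 : polar Q w (v - polar Q u v • u') = 0 := hw _ (by
    rw [sub_eq_add_neg, ← neg_smul, polar_add_right, polar_smul_right, h.pair, smul_eq_mul]; ring)
  rw [sub_eq_add_neg, ← neg_smul, polar_add_right, polar_smul_right, smul_eq_mul] at h1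
  rw [sub_eq_add_neg, ← neg_smul, polar_add_left, polar_smul_left, smul_eq_mul]
  linear_combination h1

/-- A semilinear isometry which maps `R u` into `R u` fixes the point `⟨u⟩`. -/
theorem point_of_R [CharP F 2] (hQ : Nondeg Q) {M : V ≃+ V} {σ : F ≃+* F} (hs : Sem Q M σ) {u u' x0 : V}
    (h : Hyp Q u u') (hx0 : polar Q u x0 = 0) (hx0' : ∀ c : F, x0 ≠ c • u)
    (hR : ∀ x, polar Q u x = 0 → ∃ y, polar Q u y = 0 ∧ tE Q (M u) (M x) = tE Q u y) :
    ∃ c : F, c ≠ 0 ∧ M u = c • u := by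
  have hMu : Q (M u) = 0 := by rw [hs.iso, h.left, map_zero]
  have h1 : ∀ x, polar Q u x = 0 →
      polar Q (M u) u • M x + (polar Q (M x) u + Q (M x) * polar Q (M u) u) • M u = 0 := by
    intro x hx
    obtain ⟨y, hy, he⟩ := hR x hx
    have hMx : polar Q (M u) (M x) = 0 := by rw [polar_map hs, hx, map_zero]
    have h2 := congrArg (fun g : ↥(E Q) => (g : V ≃ₗ[F] V) u) he
    simp only [coe_tE] at h2
    rw [T_apply2 hMu hMx, T_apply2 h.left hy, polar_self2, sym y u, hy] at h2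
    have h3 : polar Q (M u) u • M x + (polar Q (M x) u + Q (M x) * polar Q (M u) u) • M u =
        (u + polar Q (M u) u • M x + (polar Q (M x) u + Q (M x) * polar Q (M u) u) • M u) - u := by abel
    rw [h3, h2]
    simp
  have hu0 : u ≠ 0 := by
    rintro rfl
    have := h.pair
    rw [polar_zero_left] at this
    exact zero_ne_one this
  have hMu0 : M u ≠ 0 := fun h0 => hu0 (M.injective (by rw [h0, map_zero]))
  have hp : polar Q (M u) u = 0 := by
    by_contra hp
    have h2 := h1 x0 hx0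
    have h3 : M x0 = (-(polar Q (M u) u)⁻¹ * (polar Q (M x0) u + Q (M x0) * polar Q (M u) u)) • M u := by
      have h4 : M x0 = (polar Q (M u) u)⁻¹ • (polar Q (M u) u • M x0) := by
        rw [smul_smul, inv_mul_cancel₀ hp, one_smul]
      rw [eq_neg_of_add_eq_zero_left h2, ← neg_smul, smul_smul] at h4
      rw [neg_mul, ← mul_neg]
      exact h4
    refine hx0' (σ.symm (-(polar Q (M u) u)⁻¹ * (polar Q (M x0) u + Q (M x0) * polar Q (M u) u))) (M.injective ?_)
    rw [hs.smul, RingEquiv.apply_symm_apply]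
    exact h3
  have h2 : ∀ x, polar Q u x = 0 → polar Q (M.symm u) x = 0 := by
    intro x hx
    have h3 := h1 x hx
    rw [hp, zero_smul, zero_add, mul_zero, add_zero] at h3
    have h4 : polar Q (M x) u = 0 := (smul_eq_zero.1 h3).resolve_right hMu0
    apply σ.injective
    rw [← polar_map hs, AddEquiv.apply_symm_apply, sym, h4, map_zero]
  obtain ⟨c, hc⟩ := smul_of_perp hQ h h2
  have h3 : u = σ c • M u := by
    rw [← hs.smul, ← hc, AddEquiv.apply_symm_apply]
  have hc0 : σ c ≠ 0 := by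
    intro h0
    rw [h0, zero_smul] at h3
    exact hu0 h3
  exact ⟨(σ c)⁻¹, inv_ne_zero hc0, by
    calc M u = (σ c)⁻¹ • (σ c • M u) := by rw [smul_smul, inv_mul_cancel₀ hc0, one_smul]
      _ = (σ c)⁻¹ • u := by rw [← h3]⟩

/-! ### The frame -/

/-- the root groups of the frame -/
noncomputable def frR {n : ℕ} {e f : ℕ → V} (h : Flag Q n e f) : Fin n ⊕ Fin n → Subgroup ↥(E Q) :=
  Sum.elim (fun i => R Q (e i) (h.hyp i i.2).left) (fun i => R Q (f i) (h.hyp i i.2).right)

theorem mem_inl {n : ℕ} {e f : ℕ → V} (h : Flag Q n e f) {i : ℕ} (hi : i < n) {x : ↥(E Q)} :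
    x ∈ frR h (Sum.inl ⟨i, hi⟩) ↔ ∃ w, polar Q (e i) w = 0 ∧ x = tE Q (e i) w :=
  mem_R (hu := (h.hyp i hi).left)

theorem mem_inr {n : ℕ} {e f : ℕ → V} (h : Flag Q n e f) {i : ℕ} (hi : i < n) {x : ↥(E Q)} :
    x ∈ frR h (Sum.inr ⟨i, hi⟩) ↔ ∃ w, polar Q (f i) w = 0 ∧ x = tE Q (f i) w :=
  mem_R (hu := (h.hyp i hi).right)

theorem hyp_symm {u v : V} (h : Hyp Q u v) : Hyp Q v u := ⟨h.right, h.left, by rw [sym, h.pair]⟩

/-- The points of the frame, from the root groups. -/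
theorem points_of [CharP F 2] (hQ : Nondeg Q) {n : ℕ} {e f : ℕ → V} (h : Flag Q n e f) (hn : 2 ≤ n) {M : V ≃+ V}
    {σ : F ≃+* F} (hs : Sem Q M σ)
    (hR : ∀ i < n, (∀ x, polar Q (e i) x = 0 → ∃ y, polar Q (e i) y = 0 ∧ tE Q (M (e i)) (M x) = tE Q (e i) y) ∧
      ∀ x, polar Q (f i) x = 0 → ∃ y, polar Q (f i) y = 0 ∧ tE Q (M (f i)) (M x) = tE Q (f i) y) :
    ∀ i < n, (∃ c : F, c ≠ 0 ∧ M (e i) = c • e i) ∧ ∃ d : F, d ≠ 0 ∧ M (f i) = d • f i := by
  intro i hi
  obtain ⟨k, hk, hki⟩ : ∃ k, k < n ∧ k ≠ i := by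
    by_cases h0 : i = 0
    · exact ⟨1, by omega, by omega⟩
    · exact ⟨0, by omega, by omega⟩
  have h1 : ∀ c : F, e k ≠ c • e i := by
    intro c hc
    have h2 := (h.hyp k hk).pair
    rw [hc, polar_smul_left, h.ef i k hi hk (Ne.symm hki), smul_zero] at h2
    exact zero_ne_one h2
  have h2 : ∀ c : F, e k ≠ c • f i := by
    intro c hc
    have h2 := (h.hyp k hk).pair
    rw [hc, polar_smul_left, h.ff i k hi hk (Ne.symm hki), smul_zero] at h2
    exact zero_ne_one h2
  exact ⟨point_of_R hQ hs (h.hyp i hi) (x0 := e k) (h.ee i k hi hk (Ne.symm hki)) h1 (hR i hi).1,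
    point_of_R hQ hs (hyp_symm (h.hyp i hi)) (x0 := e k) (by rw [sym]; exact h.ef k i hk hi hki) h2 (hR i hi).2⟩

/-- A semilinear isometry which fixes the points of the frame normalises `UK`. -/
theorem norm_UK {n : ℕ} {e f : ℕ → V} (h : Flag Q n e f) {M : V ≃+ V} {σ : F ≃+* F} (hs : Sem Q M σ)
    (hp : ∀ i < n, (∃ c : F, c ≠ 0 ∧ M (e i) = c • e i) ∧ ∃ d : F, d ≠ 0 ∧ M (f i) = d • f i)
    {α : ↥(E Q) →* ↥(E Q)} (hα : ∀ u x, Q u = 0 → polar Q u x = 0 → α (tE Q u x) = tE Q (M u) (M x)) :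
    ∀ u ∈ UK Q e f n, α u ∈ UK Q e f n := by
  have h1 : UK Q e f n ≤ (UK Q e f n).comap α := by
    rw [UK, iSup_le_iff]
    intro i
    rw [iSup_le_iff]
    intro hi
    rw [RK, Subgroup.closure_le]
    rintro _ ⟨y, hy, rfl⟩
    obtain ⟨c, hc, hci⟩ := (hp i hi).1
    have hy1 : ∀ k ≤ i, polar Q (e k) (M y) = 0 ∧ polar Q (f k) (M y) = 0 := by
      intro k hk
      obtain ⟨⟨a, ha, hak⟩, b, hb, hbk⟩ := hp k (by omega)
      constructor
      · have h3 := polar_map hs (e k) y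
        rw [(hy k hk).1, map_zero, hak, polar_smul_left, smul_eq_mul] at h3
        exact (mul_eq_zero.1 h3).resolve_left ha
      · have h3 := polar_map hs (f k) y
        rw [(hy k hk).2, map_zero, hbk, polar_smul_left, smul_eq_mul] at h3
        exact (mul_eq_zero.1 h3).resolve_left hb
    rw [SetLike.mem_coe, Subgroup.mem_comap, hα (e i) y (h.hyp i hi).left (hy i le_rfl).1, hci,
      tE_smul_left c (h.hyp i hi).left (hy1 i le_rfl).1]
    refine Subgroup.mem_iSup_of_mem i (Subgroup.mem_iSup_of_mem hi (Subgroup.subset_closure ⟨c • M y, fun k hk => ?_, rfl⟩))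
    constructor
    · rw [polar_smul_right, (hy1 k hk).1, smul_zero]
    · rw [polar_smul_right, (hy1 k hk).2, smul_zero]
  exact fun u hu => h1 hu

/-! ### The flag group -/

open Cfsg.Agent.OddHalf.Orth.KFlag in
/-- An element of the flag group which fixes the `f i` is trivial. -/
theorem eq_one_of_UU [CharP F 2] {w : ℕ} (W : Cfsg.Agent.TitsThree.SiegelGen.WFrame (Cfsg.Agent.TitsThree.KSideO.PO Q) w) :
    ∀ d k : ℕ, k + d = w → ∀ g ∈ UU W k, (∀ i : Fin w, (g : V ≃ₗ[F] V) (W.f i) = W.f i) → g = 1 := by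
  intro d
  induction d with
  | zero =>
    intro k hk g hg _
    rw [UU_of_le W (by omega)] at hg
    exact hg
  | succ d ih =>
    intro k hk g hg hf
    have hkw : k < w := by omega
    have h1 : g ∈ ((RR W ⟨k, hkw⟩ ⊔ UU W (k + 1) : Subgroup ↥(E Q)) : Set ↥(E Q)) := by
      rw [← UU_succ W ⟨k, hkw⟩]
      exact hg
    rw [Subgroup.coe_mul_of_right_le_normalizer_left _ _ (UU_le_normalizer W ⟨k, hkw⟩), Set.mem_mul] at h1
    obtain ⟨r, hr, u, hu, rfl⟩ := h1
    obtain ⟨x, hx, rfl⟩ := (mem_RR W).1 hr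
    have h2 := (fix W hu (j := ⟨k, hkw⟩) (Nat.lt_succ_self _)).2
    have h3 := hf ⟨k, hkw⟩
    rw [Subgroup.coe_mul, LinearEquiv.mul_apply, h2, coe_tE] at h3
    have h4 : x = 0 := tE_inj W hx (Submodule.zero_mem _) (by rw [h3, T_zero_right]; rfl)
    rw [h4, tE_zero_right, one_mul] at hf ⊢
    exact ih (k + 1) (by omega) u hu hf

open Cfsg.Agent.OddHalf.Orth.KFlag in
theorem eq_one_of_UK [CharP F 2] {w : ℕ} (W : Cfsg.Agent.TitsThree.SiegelGen.WFrame (Cfsg.Agent.TitsThree.KSideO.PO Q) w)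
    {g : ↥(E Q)} (hg : g ∈ UK Q (eN W) (fN W) w) (hf : ∀ i < w, (g : V ≃ₗ[F] V) (fN W i) = fN W i) : g = 1 := by
  rw [UK_eq] at hg
  refine eq_one_of_UU W w 0 (by omega) g hg fun i => ?_
  have := hf i i.2
  rwa [fN_eq W i.2] at this

/-! ### `FrameFact` -/

open Cfsg.Agent.OddHalf.Orth.KFlag in
/-- **The facts on the frame** for `E Q`, a Witt frame which does not span `V`. -/
theorem frameFact [Finite F] [CharP F 2] [Finite ↥(E Q)] {w : ℕ} (hw : 2 ≤ w)
    (W : Cfsg.Agent.TitsThree.SiegelGen.WFrame (Cfsg.Agent.TitsThree.KSideO.PO Q) w) (hG : Good Q)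
    (hsu : Function.Surjective (Cfsg.Agent.ClassicalGeometry.OrthSemi.Psi Q)) (hQ : Nondeg Q)
    (hd : 2 * w < Module.finrank F V) (hodd : Odd (UK Q (eN W) (fN W) w).index)
    (h2 : IsPGroup 2 (UK Q (eN W) (fN W) w)) (h : Flag Q w (eN W) (fN W)) :
    FrameFact (frR h) (UK Q (eN W) (fN W) w) where
  pU := h2
  maxU P hP hUP := Syl.le_of_odd hodd hP hUP
  trans := by
    intro α
    obtain ⟨M, σ, hs, hM⟩ := exists_sem hG hsu α
    have hF : Flag Q w (fun i => M (eN W i)) (fun i => M (fN W i)) :=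
      { hyp := fun i hi => ⟨by rw [hs.iso, (h.hyp i hi).left, map_zero], by rw [hs.iso, (h.hyp i hi).right, map_zero],
          by rw [polar_map hs, (h.hyp i hi).pair, map_one]⟩
        ee := fun i k hi hk hik => by rw [polar_map hs, h.ee i k hi hk hik, map_zero]
        ef := fun i k hi hk hik => by rw [polar_map hs, h.ef i k hi hk hik, map_zero]
        ff := fun i k hi hk hik => by rw [polar_map hs, h.ff i k hi hk hik, map_zero] }
    obtain ⟨k, hk⟩ := trans_flag hQ w hF h hd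
    refine ⟨k⁻¹, ?_⟩
    rintro (i | i) x hx
    · obtain ⟨y, hy, rfl⟩ := (mem_inl h i.2).1 hx
      rw [inv_inv, hM _ _ (h.hyp i i.2).left hy, tE_conj, (hk i i.2).1]
      refine tE_mem_R (h.hyp i i.2).left ?_
      have h3 : polar Q ((k : V ≃ₗ[F] V) (M (eN W i))) ((k : V ≃ₗ[F] V) (M y)) = 0 := by
        rw [polar_map', polar_map hs, hy, map_zero]
      rwa [(hk i i.2).1] at h3
    · obtain ⟨y, hy, rfl⟩ := (mem_inr h i.2).1 hx
      rw [inv_inv, hM _ _ (h.hyp i i.2).right hy, tE_conj, (hk i i.2).2]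
      refine tE_mem_R (h.hyp i i.2).right ?_
      have h3 : polar Q ((k : V ≃ₗ[F] V) (M (fN W i))) ((k : V ≃ₗ[F] V) (M y)) = 0 := by
        rw [polar_map', polar_map hs, hy, map_zero]
      rwa [(hk i i.2).2] at h3
  odd := by
    intro x hx hxx
    have hp := points_of hQ h hw (sem_of x) fun i hi => ⟨fun y hy => by
      have h3 := hx (Sum.inl ⟨i, hi⟩) _ (tE_mem_R (h.hyp i hi).left hy)
      obtain ⟨z, hz, hze⟩ := (mem_inl h hi).1 h3
      exact ⟨z, hz, by rw [← hze, tE_conj]; rfl⟩, fun y hy => by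
      have h3 := hx (Sum.inr ⟨i, hi⟩) _ (tE_mem_R (h.hyp i hi).right hy)
      obtain ⟨z, hz, hze⟩ := (mem_inr h hi).1 h3
      exact ⟨z, hz, by rw [← hze, tE_conj]; rfl⟩⟩
    have hfix : ∀ {u : V} {c : F}, u ≠ 0 → (x : V ≃ₗ[F] V) u = c • u → (x : V ≃ₗ[F] V) u = u := by
      intro u c hu0 hu
      have h3 : (x : V ≃ₗ[F] V) ((x : V ≃ₗ[F] V) u) = u := by
        have := congrArg (fun g : ↥(E Q) => (g : V ≃ₗ[F] V) u) hxx
        simpa using this
      rw [hu, LinearEquiv.map_smul, hu, smul_smul] at h3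
      have h4 : (c * c - 1) • u = 0 := by rw [sub_smul, one_smul, h3, sub_self]
      have h5 : (c - 1) * (c - 1) = 0 := by
        have h6 : c * c - 1 = 0 := (smul_eq_zero.1 h4).resolve_right hu0
        have h7 : (2 : F) = 0 := CharTwo.two_eq_zero
        linear_combination h6 + (1 - c) * h7
      have h6 : c = 1 := sub_eq_zero.1 (mul_self_eq_zero.1 h5)
      rw [hu, h6, one_smul]
    have hmem : x ∈ UK Q (eN W) (fN W) w := by
      have h3 := Syl.mem_of_norm (j := MonoidHom.id ↥(E Q)) Function.injective_id hodd h2 (x := x) ⟨x, rfl⟩ hxx (by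
        rw [Subgroup.map_id]
        intro u hu
        exact norm_UK h (sem_of x) hp (α := (MulAut.conj x).toMonoidHom) (fun u y _ _ => tE_conj x u y) u hu)
      rwa [Subgroup.map_id] at h3
    refine eq_one_of_UK W hmem fun i hi => ?_
    obtain ⟨d, hd0, hdi⟩ := (hp i hi).2
    refine hfix (c := d) ?_ hdi
    intro h0
    have := (h.hyp i hi).pair
    rw [h0, polar_zero_right] at this
    exact zero_ne_one this
  fix := by
    intro α hα
    obtain ⟨M, σ, hs, hM⟩ := exists_sem hG hsu α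
    refine norm_UK h hs (points_of hQ h hw hs fun i hi => ⟨fun y hy => ?_, fun y hy => ?_⟩)
      (α := α.toMonoidHom) hM
    · have h3 := hα (Sum.inl ⟨i, hi⟩) _ (tE_mem_R (h.hyp i hi).left hy)
      rw [hM _ _ (h.hyp i hi).left hy] at h3
      obtain ⟨z, hz, hze⟩ := (mem_inl h hi).1 h3
      exact ⟨z, hz, hze⟩
    · have h3 := hα (Sum.inr ⟨i, hi⟩) _ (tE_mem_R (h.hyp i hi).right hy)
      rw [hM _ _ (h.hyp i hi).right hy] at h3
      obtain ⟨z, hz, hze⟩ := (mem_inr h hi).1 h3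
      exact ⟨z, hz, hze⟩

/-! ### `O⁻` -/

section Minus

open Cfsg.Agent.OddHalf.Orth.KFlag Cfsg.Agent.OddHalf.Orth.KFlagMain Cfsg.Agent.TitsThree.KSideO

variable {F : Type*} [Field F] [Finite F] {m : ℕ}

theorem finite_E {ι : Type*} [Finite ι] (Q : QuadraticForm F (ι → F)) : Finite ↥(E Q) := by
  have : Finite ((ι → F) ≃ₗ[F] (ι → F)) :=
    Finite.of_injective (fun f => (f : (ι → F) → (ι → F))) DFunLike.coe_injective
  infer_instance

/-- **Minus type.** -/
theorem frameFact_minus [CharP F 2] (hm : 3 ≤ m) {a b : F}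
    (hab : ∀ z₁ z₂ : F, z₁ ^ 2 + a * z₁ * z₂ + b * z₂ ^ 2 = 0 → z₁ = 0 ∧ z₂ = 0)
    (h : Flag (minusForm m F a b) m (em m a b hab) (fm m a b hab)) :
    FrameFact (frR h) (UK (minusForm m F a b) (em m a b hab) (fm m a b hab) m) := by
  have hfin := finite_E (minusForm m F a b)
  obtain ⟨-, h1, h2⟩ := flag_minus hm a b hab
  have hd : 2 * m < Module.finrank F ((Fin m ⊕ Fin m) ⊕ Fin 2 → F) := by
    rw [finrank_minus]; omega
  exact frameFact (by omega) (wminus m F a b hab) (good_minus (by omega) hab)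
    (Cfsg.Agent.AutOrth.Final.surjective_minus hm hab) (nondeg_minusForm m F a b hab) hd h1 h2 h

end Minus

/-! ### The stabiliser of the frame in `C(t)` -/

variable {G : Type*} [Group G]

/-- the elements of `C(t)` which normalise every `j (R (e i))`, `j (R (f i))` -/
noncomputable def YR {n : ℕ} {e f : ℕ → V} (h : Flag Q n e f) (t : G) (j : ↥(E Q) →* G) : Subgroup G :=
  Subgroup.centralizer ({t} : Set G) ⊓ ⨅ i, Subgroup.normalizer (((frR h i).map j : Subgroup G) : Set G)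

theorem mem_YR [Finite G] {n : ℕ} {e f : ℕ → V} {h : Flag Q n e f} {t : G} {j : ↥(E Q) →* G} {g : G} :
    g ∈ YR h t j ↔ g * t = t * g ∧ ∀ i, ∀ x ∈ (frR h i).map j, g * x * g⁻¹ ∈ (frR h i).map j := by
  rw [YR, Subgroup.mem_inf, Subgroup.mem_centralizer_singleton_iff, Subgroup.mem_iInf]
  refine and_congr_right fun _ => forall_congr' fun i => ?_
  constructor
  · intro h x hx
    exact (Subgroup.mem_normalizer_iff.1 h x).1 hx
  · intro h
    exact TwChoice.mem_normalizer_of h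

theorem map_equiv {H : Type*} [Group H] {j : H →* G} (inj : Function.Injective j) (A : Subgroup H) :
    (A.map (MonoidHom.ofInjective inj).toMonoidHom).map j.range.subtype = A.map j := by
  rw [Subgroup.map_map]
  rfl

/-- **The input of `TwChoice`** with `Y = YR`. -/
theorem hyp_of_frameFact [Finite G] {n : ℕ} {e f : ℕ → V} {h : Flag Q n e f} {t v : G} {j : ↥(E Q) →* G}
    (inj : Function.Injective j) (S : Cfsg.Agent.OddHalf.Front.FE.Start0 j.range t v) {U : Subgroup ↥(E Q)}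
    (F : FrameFact (frR h) U) : TwChoice.Hyp t v j.range (YR h t j) (U.map j) := by
  have h1 := hyp_of S (F.map (MonoidHom.ofInjective inj))
  have h2 : frY t j.range (fun i => (frR h i).map (MonoidHom.ofInjective inj).toMonoidHom) = YR h t j := by
    rw [frY, YR]
    congr 1
    refine iInf_congr fun i => ?_
    rw [map_equiv inj]
  rw [h2, map_equiv inj] at h1
  exact h1

end Cfsg.Agent.KFacts.TwFrame.OFact

end

-- merged: Cfsg.Agent.OddHalf.Orth.NodeMinus
section

/-!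
# ODD D7, row `K = PΩ^-_{2m}(q)`, `m ≥ 4`, `q` even

`inp` : the input `TwGlue.Inp` of the end; `false_minus`; `node_minus : Node @FamOMinus`.
-/

set_option autoImplicit false

namespace Cfsg.Agent.OddHalf.Orth.NodeMinus

open QuadraticMap Cfsg.Agent.LieClassical.OrthCore Cfsg.Agent.LieClassical.OrthTrans
  Cfsg.Agent.LieClassical.OrthSimple Cfsg.Agent.LieClassical Cfsg.Agent.LieClassical.OrthForms
  Cfsg.Agent.ClassicalGeometry.OrthAutBasic Cfsg.Agent.ClassicalGeometry.OrthAutRoot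
  Cfsg.Agent.ClassicalGeometry.OrthSemi Cfsg.Agent.TitsThree.KSideO
  Cfsg.Agent.OddHalf.Orth Cfsg.Agent.OddHalf.Orth.Face Cfsg.Agent.OddHalf.Orth.Star
  Cfsg.Agent.OddHalf.Orth.Lines Cfsg.Agent.OddHalf.Orth.OutDat Cfsg.Agent.OddHalf.Orth.Equiv
  Cfsg.Agent.OddHalf.Orth.FlagDef Cfsg.Agent.OddHalf.Orth.SitOf Cfsg.Agent.OddHalf.Orth.FrontMinus
  Cfsg.Agent.OddHalf.Orth.KFlagMain Cfsg.Agent.OddHalf.Front.FE Cfsg.Agent.OddHalf.D7Out
  Cfsg.Agent.OddHalf.Iface Cfsg.Agent.KFacts.TwFrame.OFact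

section General

variable {F V : Type*} [Field F] [AddCommGroup V] [Module F V] {Q : QuadraticForm F V}
variable {G : Type*} [Group G] {t : G} {j : ↥(E Q) →* G} {W : V → V → Subgroup G}
variable {n : ℕ} {e f : ℕ → V}

theorem XX_eq [CharP F 2] (h : Ln Q (e 0) (e 1)) :
    XX Q j (e 0) (e 1) = (X Q (e 0) (e 1) h.qu h.perp).map j := by
  ext g
  rw [mem_XX j h, Subgroup.mem_map]
  constructor
  · rintro ⟨c, rfl⟩
    exact ⟨_, mem_X.2 ⟨c, rfl⟩, rfl⟩
  · rintro ⟨x, hx, rfl⟩
    obtain ⟨c, rfl⟩ := mem_X.1 hx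
    exact ⟨c, rfl⟩

/-- the semilinear isometry of an element of the frame group -/
theorem act_of_Y [Finite G] [CharP F 2] (hF : Flag Q n e f) {g : G}
    (hg : g ∈ YR hF t j) : g * t = t * g ∧
      (∀ i < n, ∀ x, polar Q (e i) x = 0 → g⁻¹ * j (tE Q (e i) x) * g ∈ Ru Q j (e i)) ∧
      (∀ i < n, ∀ x, polar Q (f i) x = 0 → g⁻¹ * j (tE Q (f i) x) * g ∈ Ru Q j (f i)) := by
  have h1 := mem_YR.1 hg
  have h2 := mem_YR.1 (inv_mem hg)
  refine ⟨h1.1, fun i hi x hx => ?_, fun i hi x hx => ?_⟩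
  · have h3 := h2.2 (Sum.inl ⟨i, hi⟩) (j (tE Q (e i) x)) ⟨_, (mem_inl hF hi).2 ⟨x, hx, rfl⟩, rfl⟩
    rw [inv_inv] at h3
    obtain ⟨y, hy, e1⟩ := h3
    obtain ⟨w, hw, rfl⟩ := (mem_inl hF hi).1 hy
    exact ⟨w, hw, e1.symm⟩
  · have h3 := h2.2 (Sum.inr ⟨i, hi⟩) (j (tE Q (f i) x)) ⟨_, (mem_inr hF hi).2 ⟨x, hx, rfl⟩, rfl⟩
    rw [inv_inv] at h3
    obtain ⟨y, hy, e1⟩ := h3
    obtain ⟨w, hw, rfl⟩ := (mem_inr hF hi).1 hy
    exact ⟨w, hw, e1.symm⟩

end General

section Main

universe u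

variable {F : Type*} {V : Type*} [Field F] [AddCommGroup V] [Module F V] {Q : QuadraticForm F V}
variable {G : Type u} [Group G] {t : G} {j : ↥(E Q) →* G} {W : V → V → Subgroup G}
variable {n : ℕ} {e f : ℕ → V} {P T : Subgroup G}

/-- **The input of the end.** -/
theorem inp [Finite G] [Finite F] [CharP F 2] [FiniteDimensional F V] (hB : Big Q) (hK : KFacts Q) (hP : Par Q)
    (D : Dbl Q t j W) (hF : Flag Q n e f) (hn : 3 ≤ n) (hd : HasDelta Q n e f)
    (hne : ∃ a ∈ Yv Q e f (n - 1), a ≠ 0) (han : ∀ y ∈ Yv Q e f (n - 1), Q y = 0 → y = 0)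
    (O : TwChoice.Out t t j.range (YR hF t j) (UU Q j e f n) P T) (hcyc : TwChoice.CycT t t j.range) :
    TwGlue.Inp OddGen.OddGen t j.range (UU Q j e f n) P T (Us Q W e f n) (W (e 0) (e 1)) (XX Q j (e 0) (e 1)) := by
  have DF := full_of D hK
  have K_t : ∀ x ∈ j.range, x * t = t * x := by
    rintro _ ⟨k, rfl⟩
    exact (D.tj k).symm
  have t_K : t ∉ j.range := by
    rintro ⟨k, hk⟩
    exact D.tK k hk
  have U_K : UU Q j e f n ≤ j.range := Subgroup.map_le_range j _
  exact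
    { tt := D.tt
      K_t := K_t
      t_K := t_K
      U_K := U_K
      hconj := PZeroU.hconj
      hS := PZeroOut.hS_out D.tt K_t t_K U_K (PZero.norm_range D.toSit) O hcyc
      U_Us := UU_le DF hB hF hn hd
      Us2 := pgroup_Us DF hB hF hn hd
      P_Us := fun x hx y hy => by
        obtain ⟨h1, h2, h3⟩ := act_of_Y hF (O.PY hx)
        exact Us_conj_Y hB DF hF h1 h2 h3 hy
      CUs := fun x hx h => mem_UU DF hB hF hn hd hx h
      W_Us := W_le_Us DF hF hn
      W_cent := fun w hw x hx => comm_Us DF hB hF hn hd hw hx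
      hfree := fun x hx h => exists_conj DF hB hF hn hd hx h
      c01 := fun g hg hgg => by
        obtain ⟨h1, h2, h3⟩ := act_of_Y hF (O.PY hg)
        obtain ⟨M, σ, A⟩ := exists_act D.toSit h1
        refine C01.c01 DF hF hn hne han h1 hgg A.sem A.act (fun i hi => ?_) (fun i hi => ?_)
          fun {x y} hxy w hw => W_conj hB DF A hxy hw
        · obtain ⟨c, -, hc⟩ := point_of_norm hB A D.inj (hF.hyp i hi).left (hF.hyp i hi).left_ne (h2 i hi)
          exact ⟨c, hc⟩
        · obtain ⟨c, -, hc⟩ := point_of_norm hB A D.inj (hF.hyp i hi).right (hF.hyp i hi).right_ne (h3 i hi)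
          exact ⟨c, hc⟩
      f3 := fun x hx h => by
        rw [XX_eq (ln01 DF hF hn)]
        exact PZero.f3_O D.toSit hK hP hF (by omega) O.tc x hx h
      cardW := card_W D hK (ln01 DF hF hn)
      X_ne := XX_ne D hK (ln01 DF hF hn) }

end Main

section Minus

universe u

variable {F : Type} [Field F] [Finite F] [CharP F 2] {m : ℕ} {a b : F} {G : Type u} [Group G] {K : Subgroup G}

/-- **The row for `K = PΩ^-_{2m+2}(q)`.** -/
theorem false_minus (C : Ctx G) (S : Std G K) (hcyc : Iface.Cyc K) (hm : 3 ≤ m)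
    (hab : ∀ z₁ z₂ : F, z₁ ^ 2 + a * z₁ * z₂ + b * z₂ ^ 2 = 0 → z₁ = 0 ∧ z₂ = 0)
    (e : ↥K ≃* Cfsg.POmega F ⇑(minusForm m F a b)) : False := by
  have := C.fin
  have hF := (KFlag.flag_minus hm a b hab).1
  have hG := good_minus (show 2 ≤ m by omega) hab
  have hco : TwChoice.CycOut ↥K := TwChoice.CycOut.of_equiv ((equivE hG).trans e.symm)
    (Cfsg.Agent.KFacts.OutCyc.Minus.cyc2_E hm hab)
  obtain ⟨t, T, n, z, W, hst, ho, hD⟩ := front_minus C S hcyc hm hab e hco
    (hF.hyp 0 (by omega)).left (hF.ee 0 1 (by omega) (by omega) (by omega))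
  have hj := range_emb hG e
  have hst' : Start0 (emb hG e).range t t := by rw [hj]; exact hst.toStart0
  have hcT : TwChoice.CycT t t (emb hG e).range := by
    rw [hj]; exact TwChoice.cycT_of hst.toStart0 hco
  have hY := hyp_of_frameFact (emb_injective hG e) hst' (frameFact_minus hm hab hF)
  obtain ⟨P, O⟩ := TwChoice.exists_out hst' hY
  have hI := inp (big_minus m a b hab hm) (kfacts_minus m a b hab hm) (par_minus hm hab) hD hF hm
    (delta_minus m a b hab (by omega)) ⟨_, KFr.mem_Yv_minus (by omega) a b hab 0, fun h => by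
      have := congrFun h (Sum.inr 0)
      simp at this⟩ (fun y hy hQ => aniso_minus m a b hab (by omega) hy hQ) O hcT
  exact TwGlue.false_of (commutator_eq_top C) O hcT hI

theorem false_minus' (C : Ctx G) (S : Std G K) (hcyc : Iface.Cyc K) (hm : 3 ≤ m)
    (hab : ∀ z₁ z₂ : F, z₁ ^ 2 + a * z₁ * z₂ + b * z₂ ^ 2 = 0 → z₁ = 0 ∧ z₂ = 0)
    (e : ↥K ≃* Cfsg.POmega F (Cfsg.quadFormMinus m F a b)) : False := by
  rw [← coe_minusForm] at e
  exact false_minus C S hcyc hm hab e

end Minus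

/-- **Node D7, row `O⁻`.** -/
theorem node_minus : Cfsg.Agent.OddHalf.D7.Cases.Node @Cfsg.Agent.OddHalf.D7.Cases.FamOMinus := by
  intro G _ C K S hcyc h
  obtain ⟨F, _, _, a, m, b, c, ha, hF, hm, hab, ⟨e⟩⟩ := h
  have : Fact (Nat.Prime 2) := ⟨Nat.prime_two⟩
  have hch : CharP F 2 := charP_of_card_eq_prime_pow hF
  exact false_minus' C S hcyc (m := m - 1) (by omega) hab e

end Cfsg.Agent.OddHalf.Orth.NodeMinus

end
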